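import Mathlib
import Cfsg.Prelude.Def_LieTypeDatum
import Cfsg.Agent.Lib.helper50.PSUF3
import Cfsg.Agent.Lib.helper48.OutPSLn
import Cfsg.Agent.Lib.helper7.SUCenter
import Cfsg.Agent.Lib.helper7.GU
import Cfsg.Agent.Lib.helper7.SU
import Cfsg.Agent.Lib.helper47.PSLnCount

/-!
# `Out(PSU_n(q))` and `|Aut(PSU_n(q))|` from the structure theorem of helper50
-/

set_option autoImplicit false

namespace Cfsg.Agent.Lib.helper48.PSUOut

open Matrix Cfsg Cfsg.Agent.Lib.helper17 Cfsg.Agent.Lib.helper50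

universe u

section defs
variable {n q : ℕ} {F : Type u} [Field F]

/-- `diag(l, 1, …, 1)` in `GU_n` -/
noncomputable def dU (i₀ : Fin n) : rootsUnity F q →* ↥(GU n F q) where
  toFun l := diagGU n q (Function.update (fun _ => (1 : F)) i₀ ((l : Fˣ) : F)) (by
    intro k
    by_cases hk : k = i₀
    · subst hk; rw [Function.update_self]; exact rootsUnity_pow q l
    · rw [Function.update_of_ne hk, one_pow])
  map_one' := by
    apply Subtype.ext
    apply Units.ext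
    show Matrix.diagonal (Function.update (fun _ => (1 : F)) i₀ (((1 : rootsUnity F q) : Fˣ) : F)) = 1
    rw [← Matrix.diagonal_one]
    congr 1
    funext k
    by_cases hk : k = i₀
    · subst hk; rw [Function.update_self]; rfl
    · rw [Function.update_of_ne hk]
  map_mul' l l' := by
    apply Subtype.ext
    apply Units.ext
    show Matrix.diagonal (Function.update (fun _ => (1 : F)) i₀ (((l * l' : rootsUnity F q) : Fˣ) : F))
      = Matrix.diagonal (Function.update (fun _ => (1 : F)) i₀ ((l : Fˣ) : F))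
        * Matrix.diagonal (Function.update (fun _ => (1 : F)) i₀ ((l' : Fˣ) : F))
    rw [Matrix.diagonal_mul_diagonal]
    congr 1
    funext k
    by_cases hk : k = i₀
    · subst hk; rw [Function.update_self, Function.update_self, Function.update_self]; rfl
    · rw [Function.update_of_ne hk, Function.update_of_ne hk, Function.update_of_ne hk, mul_one]

/-- outer classes of inner-diagonal automorphisms -/
def psiU : ↥(GU n F q) →* Cfsg.Out (PSU n F q) :=
  (QuotientGroup.mk' (Cfsg.Inn (PSU n F q))).comp phiPSU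

theorem psiU_apply (g : ↥(GU n F q)) :
    psiU g = (QuotientGroup.mk (phiPSU g) : Cfsg.Out (PSU n F q)) := rfl

/-- diagonal outer automorphism classes -/
noncomputable def rhoU (i₀ : Fin n) : rootsUnity F q →* Cfsg.Out (PSU n F q) :=
  psiU.comp (dU i₀)

end defs

section main
variable {n q : ℕ} {F : Type u} [Field F] [Fintype F] (hF : Fintype.card F = q ^ 2)
include hF

theorem detGU_dU (i₀ : Fin n) (l : rootsUnity F q) : detGU hF n (dU i₀ l) = l := by
  apply Subtype.ext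
  apply Units.ext
  rw [detGU_coe]
  show (Matrix.diagonal (Function.update (fun _ => (1 : F)) i₀ ((l : Fˣ) : F))).det = _
  rw [Matrix.det_diagonal, Finset.prod_update_of_mem (Finset.mem_univ _)]
  simp

theorem nf_unique (hn : 3 ≤ n) (g g' : ↥(GU n F q)) (σ σ' : F ≃+* F)
    (h : phiPSU g * fieldPSU σ = (phiPSU g' * fieldPSU σ' : MulAut (PSU n F q))) :
    (phiPSU g : MulAut (PSU n F q)) = phiPSU g' ∧ σ = σ' := by
  have h1 : (phiPSU (g'⁻¹ * g) : MulAut (PSU n F q)) = PSUF.fieldPSUHom (σ' * σ⁻¹) := by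
    rw [map_mul, map_inv, map_mul, map_inv, inv_mul_eq_iff_eq_mul, ← mul_assoc,
      eq_mul_inv_iff_mul_eq]
    exact h
  have h2 := field_not_inner hF hn _ _ h1
  have h3 : σ' = σ := mul_inv_eq_one.mp h2
  subst h3
  exact ⟨mul_right_cancel h, rfl⟩

theorem exists_typ (hn : 3 ≤ n) (h32 : ¬ (n = 3 ∧ q = 2)) {p f : ℕ} [Fact p.Prime]
    (hq : q = p ^ f) (hf : 1 ≤ f) (β : MulAut (PSU n F q)) :
    ∃ σ : F ≃+* F, ∃ g : ↥(GU n F q), β = phiPSU g * fieldPSU σ := by
  obtain ⟨g, σ, h⟩ := PSUA.aut_PSU hF hn h32 hq hf β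
  exact ⟨σ, g, h⟩

omit [Fintype F] hF in
theorem mul_nf (g₁ g₂ : ↥(GU n F q)) (σ₁ σ₂ : F ≃+* F) :
    (phiPSU g₁ * fieldPSU σ₁ * (phiPSU g₂ * fieldPSU σ₂) : MulAut (PSU n F q))
      = phiPSU (g₁ * mapGU σ₁ g₂) * fieldPSU (σ₁ * σ₂) := by
  rw [map_mul, ← fieldPSU_mul]
  calc (phiPSU g₁ * fieldPSU σ₁ * (phiPSU g₂ * fieldPSU σ₂) : MulAut (PSU n F q))
      = phiPSU g₁ * (fieldPSU σ₁ * phiPSU g₂) * fieldPSU σ₂ := by group
    _ = _ := by rw [fieldPSU_phi]; group

variable (p : ℕ) [Fact p.Prime] [CharP F p]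

/-- the field-automorphism type of an automorphism of `PSU_n(q)` -/
noncomputable def T0 (hn : 3 ≤ n) (h32 : ¬ (n = 3 ∧ q = 2)) {f : ℕ} (hq : q = p ^ f) (hf : 1 ≤ f)
    (hF' : Fintype.card F = p ^ (2 * f)) :
    MulAut (PSU n F q) →* Multiplicative (ZMod (2 * f)) :=
  MonoidHom.mk'
    (fun β => logF p hF' (Classical.choose (exists_typ hF hn h32 hq hf β)))
    (by
      intro β₁ β₂
      obtain ⟨g₁, h₁⟩ := Classical.choose_spec (exists_typ hF hn h32 hq hf β₁)
      obtain ⟨g₂, h₂⟩ := Classical.choose_spec (exists_typ hF hn h32 hq hf β₂)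
      obtain ⟨g₁₂, h₁₂⟩ := Classical.choose_spec (exists_typ hF hn h32 hq hf (β₁ * β₂))
      obtain ⟨σ₁, hσ₁⟩ : ∃ σ₁, σ₁ = Classical.choose (exists_typ hF hn h32 hq hf β₁) := ⟨_, rfl⟩
      obtain ⟨σ₂, hσ₂⟩ : ∃ σ₂, σ₂ = Classical.choose (exists_typ hF hn h32 hq hf β₂) := ⟨_, rfl⟩
      obtain ⟨σ₁₂, hσ₁₂⟩ : ∃ σ₁₂, σ₁₂ = Classical.choose (exists_typ hF hn h32 hq hf (β₁ * β₂)) :=
        ⟨_, rfl⟩
      rw [← hσ₁] at h₁
      rw [← hσ₂] at h₂
      rw [← hσ₁₂] at h₁₂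
      rw [← hσ₁, ← hσ₂, ← hσ₁₂, ← map_mul]
      congr 1
      have e : β₁ * β₂ = phiPSU (g₁ * mapGU σ₁ g₂) * fieldPSU (σ₁ * σ₂) := by
        rw [← mul_nf, ← h₁, ← h₂]
      exact (nf_unique hF hn _ _ _ _ (h₁₂.symm.trans e)).2)

theorem T0_eq (hn : 3 ≤ n) (h32 : ¬ (n = 3 ∧ q = 2)) {f : ℕ} (hq : q = p ^ f) (hf : 1 ≤ f)
    (hF' : Fintype.card F = p ^ (2 * f)) (β : MulAut (PSU n F q)) (g : ↥(GU n F q))
    (σ : F ≃+* F) (h : β = phiPSU g * fieldPSU σ) :
    T0 hF p hn h32 hq hf hF' β = logF p hF' σ := by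
  obtain ⟨g₁, h₁⟩ := Classical.choose_spec (exists_typ hF hn h32 hq hf β)
  show logF p hF' (Classical.choose (exists_typ hF hn h32 hq hf β)) = _
  congr 1
  exact (nf_unique hF hn _ _ _ _ (h₁.symm.trans h)).2

end main

section main2
variable {n q : ℕ} {F : Type u} [Field F] [Fintype F] (hF : Fintype.card F = q ^ 2)
include hF

theorem psiU_of_det_one (w : ↥(GU n F q)) (hdet : detGU hF n w = 1) : psiU w = 1 := by
  rw [psiU_apply]
  exact (QuotientGroup.eq_one_iff _).mpr (PSUF.phi_mem_inn hF w hdet)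

omit [Fintype F] hF in
theorem scalarGU_scalars (l : rootsUnity F q) :
    ((scalarGU n q l : ↥(GU n F q)) : GL (Fin n) F) ∈ Geo.scalars (Fin n) F := by
  rw [Geo.mem_scalars_iff]
  refine ⟨(l : Fˣ), ?_⟩
  show Matrix.diagonal (fun _ => ((l : Fˣ) : F)) = _
  rw [← Matrix.smul_one_eq_diagonal]

theorem psiU_of_scalar (hn : 3 ≤ n) (l : rootsUnity F q) :
    psiU (scalarGU n q l : ↥(GU n F q)) = 1 := by
  have h1 : phiPSU (scalarGU n q l : ↥(GU n F q)) = 1 :=
    (phiPSU_eq_one_iff hF hn _).mpr (scalarGU_scalars l)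
  rw [psiU_apply, h1]
  rfl

theorem psiU_eq_rho (i₀ : Fin n) (g : ↥(GU n F q)) : psiU g = rhoU i₀ (detGU hF n g) := by
  have h1 : g = dU i₀ (detGU hF n g) * ((dU i₀ (detGU hF n g))⁻¹ * g) := by group
  have h2 : psiU ((dU i₀ (detGU hF n g))⁻¹ * g) = 1 := by
    apply psiU_of_det_one hF
    rw [map_mul, map_inv, detGU_dU, inv_mul_cancel]
  conv_lhs => rw [h1]
  rw [map_mul, h2, mul_one]
  rfl

omit [Fintype F] hF in
theorem scalar_mem_center (g : ↥(GU n F q))
    (h : (g : GL (Fin n) F) ∈ Geo.scalars (Fin n) F) : g ∈ Subgroup.center (GU n F q) := by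
  rw [Geo.mem_scalars_iff] at h
  obtain ⟨μ, hμ⟩ := h
  rw [Subgroup.mem_center_iff]
  intro k
  apply Subtype.ext
  apply Units.ext
  show ((k : GL (Fin n) F) : Matrix (Fin n) (Fin n) F) * ((g : GL (Fin n) F) : Matrix (Fin n) (Fin n) F)
    = ((g : GL (Fin n) F) : Matrix (Fin n) (Fin n) F) * ((k : GL (Fin n) F) : Matrix (Fin n) (Fin n) F)
  rw [hμ, Matrix.mul_smul, Matrix.smul_mul, Matrix.mul_one, Matrix.one_mul]

theorem rhoU_ker (hn : 3 ≤ n) (i₀ : Fin n) :
    (rhoU (F := F) (q := q) i₀).ker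
      = (powMonoidHom n : rootsUnity F q →* rootsUnity F q).range := by
  ext c
  rw [MonoidHom.mem_ker, MonoidHom.mem_range]
  constructor
  · intro h
    have h1 : phiPSU (dU i₀ c) ∈ Cfsg.Inn (PSU n F q) := (QuotientGroup.eq_one_iff _).mp h
    obtain ⟨w, hw1, hw⟩ := PSUF.exists_of_mem_inn hF _ h1
    have h2 : phiPSU (w⁻¹ * dU i₀ c) = 1 := by
      rw [map_mul, map_inv, hw, inv_mul_cancel]
    have h3 : w⁻¹ * dU i₀ c ∈ Subgroup.center (GU n F q) :=
      scalar_mem_center _ ((phiPSU_eq_one_iff hF hn _).mp h2)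
    obtain ⟨l, hl⟩ := center_GU_scalar hF n (by omega) _ h3
    have h4 := congrArg (detGU hF n) hl
    rw [map_mul, map_inv, detGU_dU, hw1, inv_one, one_mul, detGU_scalarGU] at h4
    exact ⟨l, by rw [powMonoidHom_apply, h4]⟩
  · rintro ⟨l, rfl⟩
    rw [powMonoidHom_apply]
    have h1 : dU i₀ (l ^ n) = scalarGU n q l * ((scalarGU n q l)⁻¹ * dU i₀ (l ^ n)) := by group
    have h2 : psiU ((scalarGU n q l : ↥(GU n F q))⁻¹ * dU i₀ (l ^ n)) = 1 := by
      apply psiU_of_det_one hF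
      rw [map_mul, map_inv, detGU_dU, detGU_scalarGU, inv_mul_cancel]
    show psiU (dU i₀ (l ^ n)) = 1
    rw [h1, map_mul, h2, mul_one]
    exact psiU_of_scalar hF hn l

omit hF in
theorem rhoU_range_cyclic (i₀ : Fin n) : IsCyclic (rhoU (F := F) (q := q) i₀).range :=
  isCyclic_of_surjective (rhoU (F := F) (q := q) i₀).rangeRestrict
    (rhoU (F := F) (q := q) i₀).rangeRestrict_surjective

theorem rhoU_range_card (hn : 3 ≤ n) (i₀ : Fin n) :
    Nat.card (rhoU (F := F) (q := q) i₀).range = Nat.gcd n (q + 1) := by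
  rw [← Subgroup.index_ker, rhoU_ker hF hn, IsCyclic.index_powMonoidHom_range, card_rootsUnity hF,
    Nat.gcd_comm]

variable (p : ℕ) [Fact p.Prime] [CharP F p]

/-- **Structure of `Out(PSU_n(q))`** -/
theorem out_psu_structure (hn : 3 ≤ n) (h32 : ¬ (n = 3 ∧ q = 2)) {f : ℕ} (hq : q = p ^ f)
    (hf : 1 ≤ f) (hF' : Fintype.card F = p ^ (2 * f)) :
    ∃ φ : Cfsg.Out (PSU n F q) →* Multiplicative (ZMod (2 * f)),
      Function.Surjective φ ∧ IsCyclic φ.ker ∧ Nat.card φ.ker = Nat.gcd n (q + 1) := by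
  have hInn : Cfsg.Inn (PSU n F q) ≤ (T0 hF p hn h32 hq hf hF').ker := by
    rintro _ ⟨t, rfl⟩
    obtain ⟨s, rfl⟩ := QuotientGroup.mk_surjective t
    obtain ⟨g, hg⟩ := PSUA.conj_eq_phi hF s
    rw [MonoidHom.mem_ker, T0_eq hF p hn h32 hq hf hF' _ g 1
      (by rw [fieldPSU_one, mul_one]; exact hg), map_one]
  obtain ⟨φ, hφ⟩ : ∃ φ : Cfsg.Out (PSU n F q) →* Multiplicative (ZMod (2 * f)),
      ∀ α, φ (QuotientGroup.mk α) = T0 hF p hn h32 hq hf hF' α :=
    ⟨QuotientGroup.lift _ (T0 hF p hn h32 hq hf hF') hInn, fun α => rfl⟩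
  have i₀ : Fin n := ⟨0, by omega⟩
  have hker : φ.ker = (rhoU (F := F) (q := q) i₀).range := by
    ext x
    obtain ⟨β, rfl⟩ := QuotientGroup.mk_surjective x
    rw [MonoidHom.mem_ker, hφ, MonoidHom.mem_range]
    constructor
    · intro h
      obtain ⟨σ, g, hβ⟩ := exists_typ hF hn h32 hq hf β
      rw [T0_eq hF p hn h32 hq hf hF' β g σ hβ] at h
      have hσ : σ = 1 := logF_eq_one p hF' σ h
      subst hσ
      rw [fieldPSU_one, mul_one] at hβ
      subst hβ
      exact ⟨detGU hF n g, (psiU_eq_rho hF i₀ g).symm⟩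
    · rintro ⟨c, hc⟩
      have h1 : (QuotientGroup.mk (phiPSU (dU i₀ c)) : Cfsg.Out (PSU n F q))
          = QuotientGroup.mk β := hc
      rw [QuotientGroup.eq] at h1
      obtain ⟨w, hw1, hw⟩ := PSUF.exists_of_mem_inn hF _ h1
      have hβ : β = phiPSU (dU i₀ c * w) * fieldPSU 1 := by
        rw [fieldPSU_one, mul_one, map_mul, ← hw, mul_inv_cancel_left]
      rw [T0_eq hF p hn h32 hq hf hF' β _ 1 hβ, map_one]
  refine ⟨φ, ?_, ?_, ?_⟩
  · intro z
    have : NeZero (2 * f) := ⟨by omega⟩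
    obtain ⟨a, ha⟩ : ∃ a : ZMod (2 * f), z = Multiplicative.ofAdd a :=
      ⟨Multiplicative.toAdd z, rfl⟩
    refine ⟨QuotientGroup.mk (fieldPSU (frobE p ^ ZMod.val a)), ?_⟩
    rw [hφ, T0_eq hF p hn h32 hq hf hF' _ 1 (frobE p ^ ZMod.val a) (by rw [map_one, one_mul]),
      logF_frobE_pow, ZMod.natCast_zmod_val, ha]
  · rw [hker]
    exact rhoU_range_cyclic i₀
  · rw [hker, rhoU_range_card hF hn]

end main2


section count
variable {n q : ℕ} {F : Type u} [Field F] [Fintype F] (hF : Fintype.card F = q ^ 2)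
include hF

theorem card_ker_phiPSU (hn : 3 ≤ n) :
    Nat.card (phiPSU (n := n) (F := F) (q := q)).ker = q + 1 := by
  rw [← card_rootsUnity hF]
  symm
  apply Nat.card_congr
  refine Equiv.ofBijective (fun l : rootsUnity F q => (⟨scalarGU n q l, by
    rw [MonoidHom.mem_ker]
    exact (phiPSU_eq_one_iff hF hn _).mpr (scalarGU_scalars l)⟩ :
      (phiPSU (n := n) (F := F) (q := q)).ker)) ⟨?_, ?_⟩
  · intro l l' h
    have h1 : (scalarGU n q l : ↥(GU n F q)) = scalarGU n q l' := congrArg (fun x => x.1) h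
    have h2 : ((scalarGU n q l : ↥(GU n F q)) : GL (Fin n) F).1
        = ((scalarGU n q l' : ↥(GU n F q)) : GL (Fin n) F).1 := by rw [h1]
    have h3 : Matrix.diagonal (fun _ : Fin n => ((l : Fˣ) : F))
        = Matrix.diagonal (fun _ : Fin n => ((l' : Fˣ) : F)) := h2
    have h4 := congrFun (Matrix.diagonal_injective h3) ⟨0, by omega⟩
    exact Subtype.ext (Units.ext h4)
  · rintro ⟨g, hg⟩
    rw [MonoidHom.mem_ker] at hg
    obtain ⟨l, hl⟩ := center_GU_scalar hF n (by omega) g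
      (scalar_mem_center _ ((phiPSU_eq_one_iff hF hn _).mp hg))
    exact ⟨l, Subtype.ext hl.symm⟩

theorem card_range_phiPSU (hn : 3 ≤ n) :
    Nat.card (phiPSU (n := n) (F := F) (q := q)).range = Nat.card (SU n F q) := by
  have h1 : Nat.card (phiPSU (n := n) (F := F) (q := q)).ker
      * Nat.card (phiPSU (n := n) (F := F) (q := q)).range = Nat.card ↥(GU n F q) := by
    rw [← Subgroup.index_ker]
    exact Subgroup.card_mul_index _
  rw [card_ker_phiPSU hF hn, Cfsg.Agent.Lib.helper7.card_GU hF n,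
    ← Cfsg.Agent.Lib.helper7.card_SU hF n (by omega)] at h1
  exact Nat.eq_of_mul_eq_mul_left (by omega) h1

theorem card_SU_eq (hn : 3 ≤ n) :
    Nat.card (SU n F q) = Nat.card (PSU n F q) * Nat.gcd n (q + 1) := by
  rw [← Cfsg.Agent.Lib.helper7.card_center_SU hF n (by omega)]
  exact Subgroup.card_eq_card_quotient_mul_card_subgroup _

theorem card_aut_psu (hn : 3 ≤ n) (h32 : ¬ (n = 3 ∧ q = 2)) {p f : ℕ} [Fact p.Prime]
    (hq : q = p ^ f) (hf : 1 ≤ f) :
    Nat.card (MulAut (PSU n F q)) = Nat.gcd n (q + 1) * (2 * f) * Nat.card (PSU n F q) := by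
  have hF' : Fintype.card F = p ^ (2 * f) := by rw [hF, hq, ← pow_mul, mul_comm]
  have key : Nat.card (MulAut (PSU n F q))
      = Nat.card ((phiPSU (n := n) (F := F) (q := q)).range × (F ≃+* F)) := by
    symm
    apply Nat.card_congr
    refine Equiv.ofBijective
      (fun x : (phiPSU (n := n) (F := F) (q := q)).range × (F ≃+* F) => x.1.1 * fieldPSU x.2)
      ⟨?_, ?_⟩
    · rintro ⟨⟨a, g, rfl⟩, σ⟩ ⟨⟨a', g', rfl⟩, σ'⟩ h
      obtain ⟨h1, h3⟩ := nf_unique hF hn g g' σ σ' h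
      subst h3
      exact Prod.ext (Subtype.ext h1) rfl
    · intro α
      obtain ⟨σ, g, rfl⟩ := exists_typ hF hn h32 hq hf α
      exact ⟨(⟨phiPSU g, g, rfl⟩, σ), rfl⟩
  rw [key, Nat.card_prod, Cfsg.Agent.Lib.helper47.PSLn.card_ringAut hF', card_range_phiPSU hF hn,
    card_SU_eq hF hn]
  ring

end count


end Cfsg.Agent.Lib.helper48.PSUOut
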