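import Mathlib
import Cfsg.Agent.Lib.helper44.SL3Defs

/-!
# S2287 piece T1 (helper48), core form: `tor1_of_base` with the conclusion of TA as a hypothesis
-/

set_option autoImplicit false

namespace Cfsg.Agent.Lib.helper44.SL3

/-- if `k` acts on the root map `x` by the scalar `μ ≠ 0`, then `k⁻¹` acts by `μ⁻¹` -/
theorem h48_conj_inv {G : Type*} [Group G] {F : Type*} [Field F] {x : F → G} {k : G} {μ : F}
    (hμ : μ ≠ 0) (hk : ∀ a, k * x a * k⁻¹ = x (μ * a)) (a : F) :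
    k⁻¹ * x a * k = x (μ⁻¹ * a) := by
  have h1 := hk (μ⁻¹ * a)
  rw [← mul_assoc, mul_inv_cancel₀ hμ, one_mul] at h1
  rw [← h1]; group

/-- T1, core form: the conclusion of TA (`base_actions`) is taken as a hypothesis. -/
theorem h48_tor1_of_base_core {G : Type*} [Group G] {F : Type*} [Field F] (x : F → G) (h c : G)
    (ω : F) (hB : IsBase x h c ω)
    (hTA : (∀ a, (c * h * c⁻¹) * x a * (c * h * c⁻¹)⁻¹ = x (ω⁻¹ * ω⁻¹ * a)) ∧
      (∀ b, h * yy x c b * h⁻¹ = yy x c (ω * b)) ∧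
      (∀ b, (c * h * c⁻¹) * yy x c b * (c * h * c⁻¹)⁻¹ = yy x c (ω * b)) ∧
      (∀ b, (c * c * h * (c * c)⁻¹) * yy x c b * (c * c * h * (c * c)⁻¹)⁻¹ =
        yy x c (ω⁻¹ * ω⁻¹ * b)) ∧
      Commute (c * h * c⁻¹) (c * c * h * (c * c)⁻¹) ∧ Commute (c * c * h * (c * c)⁻¹) h ∧
      (∀ a b, yy x c (a + b) = yy x c a * yy x c b) ∧
      (∀ a, c * c * yy x c a * (c * c)⁻¹ = x a))
    (r8 : Commute (x 1) (ZZ x c 1)) (r9 : Commute (yy x c 1) (ZZ x c 1))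
    (r11 : Commute ((c * c * h * (c * c)⁻¹) * (c * h * c⁻¹)⁻¹) (ZZ x c 1)) :
    IsTor1 x (yy x c) h (h * (c * h * c⁻¹)⁻¹) ((c * c * h * (c * c)⁻¹) * (c * h * c⁻¹)⁻¹) ω
      (ω ^ 3) := by
  obtain ⟨k_x, h_y, k_y, k'_y, kk', k'h, y_add, _⟩ := hTA
  have hω := hB.ω0
  have hμ : ω⁻¹ * ω⁻¹ ≠ 0 := mul_ne_zero (inv_ne_zero hω) (inv_ne_zero hω)
  have hμi : (ω⁻¹ * ω⁻¹)⁻¹ = ω * ω := by rw [mul_inv, inv_inv]
  have hk'x := hB.k'_x
  have hhk := hB.hk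
  have hhx := hB.h_x
  generalize hk : c * h * c⁻¹ = k at k_x k_y kk' hhk r11 ⊢
  generalize hk' : c * c * h * (c * c)⁻¹ = k' at k'_y kk' k'h hk'x r11 ⊢
  have hd : Commute h (k' * k⁻¹) := (k'h.symm).mul_right hhk.inv_right
  refine { x_add := hB.x_add, y_add := y_add, h_x := hhx, h_y := h_y, g_x := ?_, g_y := ?_,
           d_x := ?_, d_y := ?_, hd := hd, gd := ?_, z_x := r8, z_y := r9, z_d := r11 }
  · intro a
    have e1 := h48_conj_inv hμ k_x a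
    have e2 := hhx (ω * ω * a)
    calc (h * k⁻¹) * x a * (h * k⁻¹)⁻¹ = h * (k⁻¹ * x a * k) * h⁻¹ := by group
      _ = x (ω * (ω * ω * a)) := by rw [e1, hμi, e2]
      _ = x (ω ^ 3 * a) := by congr 1; ring
  · intro a
    have e1 := h48_conj_inv (x := yy x c) hω k_y a
    have e2 := h_y (ω⁻¹ * a)
    calc (h * k⁻¹) * yy x c a * (h * k⁻¹)⁻¹ = h * (k⁻¹ * yy x c a * k) * h⁻¹ := by group
      _ = yy x c (ω * (ω⁻¹ * a)) := by rw [e1, e2]
      _ = yy x c a := by rw [← mul_assoc, mul_inv_cancel₀ hω, one_mul]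
  · intro a
    have e1 := h48_conj_inv hμ k_x a
    have e2 := hk'x (ω * ω * a)
    calc (k' * k⁻¹) * x a * (k' * k⁻¹)⁻¹ = k' * (k⁻¹ * x a * k) * k'⁻¹ := by group
      _ = x (ω * (ω * ω * a)) := by rw [e1, hμi, e2]
      _ = x (ω ^ 3 * a) := by congr 1; ring
  · intro a
    have e1 := h48_conj_inv (x := yy x c) hμ k'_y a
    have e2 := k_y (ω * ω * a)
    calc (k' * k⁻¹)⁻¹ * yy x c a * (k' * k⁻¹) = k * (k'⁻¹ * yy x c a * k') * k⁻¹ := by group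
      _ = yy x c (ω * (ω * ω * a)) := by rw [e1, hμi, e2]
      _ = yy x c (ω ^ 3 * a) := by congr 1; ring
  · exact hd.mul_left ((kk'.inv_left).mul_right (Commute.refl _))

end Cfsg.Agent.Lib.helper44.SL3

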