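import Mathlib
import Cfsg.Agent.Lib.helper44.SL3Defs
import Cfsg.Agent.Lib.helper48.SL3T1core

/-!
# S2287 piece T1 (helper48): `tor1_of_base`, with a self-contained proof of the torus actions
(`h48_base_actions`, a prefixed copy of piece TA).
-/

set_option autoImplicit false

namespace Cfsg.Agent.Lib.helper44.SL3

theorem h48_commute_conj {G : Type*} [Group G] (c a b : G) (hab : Commute a b) :
    Commute (c * a * c⁻¹) (c * b * c⁻¹) := by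
  show c * a * c⁻¹ * (c * b * c⁻¹) = c * b * c⁻¹ * (c * a * c⁻¹)
  have a1 : c * a * c⁻¹ * (c * b * c⁻¹) = c * (a * b) * c⁻¹ := by group
  have a2 : c * b * c⁻¹ * (c * a * c⁻¹) = c * (b * a) * c⁻¹ := by group
  rw [a1, a2, hab.eq]

/-- TA (prefixed copy): the torus actions from the base configuration. -/
theorem h48_base_actions {G : Type*} [Group G] {F : Type*} [Field F] (x : F → G) (h c : G)
    (ω : F) (hB : IsBase x h c ω) :
    (∀ a, (c * h * c⁻¹) * x a * (c * h * c⁻¹)⁻¹ = x (ω⁻¹ * ω⁻¹ * a)) ∧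
    (∀ b, h * yy x c b * h⁻¹ = yy x c (ω * b)) ∧
    (∀ b, (c * h * c⁻¹) * yy x c b * (c * h * c⁻¹)⁻¹ = yy x c (ω * b)) ∧
    (∀ b, (c * c * h * (c * c)⁻¹) * yy x c b * (c * c * h * (c * c)⁻¹)⁻¹ =
      yy x c (ω⁻¹ * ω⁻¹ * b)) ∧
    Commute (c * h * c⁻¹) (c * c * h * (c * c)⁻¹) ∧ Commute (c * c * h * (c * c)⁻¹) h ∧
    (∀ a b, yy x c (a + b) = yy x c a * yy x c b) ∧
    (∀ a, c * c * yy x c a * (c * c)⁻¹ = x a) := by
  have hc3 := hB.c3
  have hω := hB.ω0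
  have hcinv : c⁻¹ = c * c := by
    have h1 : c * (c * c) = 1 := by rw [← mul_assoc]; exact hc3
    exact inv_eq_of_mul_eq_one_right h1
  have hk'_eq : c * c * h * (c * c)⁻¹ = c⁻¹ * h * c := by rw [← hcinv]; group
  have hk_eq : c * h * c⁻¹ = h⁻¹ * (c * c * h * (c * c)⁻¹)⁻¹ := by
    have h1 := hB.hkk
    calc c * h * c⁻¹ = h⁻¹ * (h * (c * h * c⁻¹) * (c * c * h * (c * c)⁻¹)) *
          (c * c * h * (c * c)⁻¹)⁻¹ := by group
      _ = h⁻¹ * (c * c * h * (c * c)⁻¹)⁻¹ := by rw [h1, mul_one]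
  have k_x : ∀ a, (c * h * c⁻¹) * x a * (c * h * c⁻¹)⁻¹ = x (ω⁻¹ * ω⁻¹ * a) := by
    intro a
    have e1 := h48_conj_inv hω hB.k'_x a
    have e2 := h48_conj_inv hω hB.h_x (ω⁻¹ * a)
    rw [hk_eq]
    generalize c * c * h * (c * c)⁻¹ = k' at e1 ⊢
    calc (h⁻¹ * k'⁻¹) * x a * (h⁻¹ * k'⁻¹)⁻¹ = h⁻¹ * (k'⁻¹ * x a * k') * h := by group
      _ = x (ω⁻¹ * (ω⁻¹ * a)) := by rw [e1, e2]
      _ = x (ω⁻¹ * ω⁻¹ * a) := by rw [mul_assoc]
  have kk' : Commute (c * h * c⁻¹) (c * c * h * (c * c)⁻¹) := by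
    have e := h48_commute_conj c _ _ hB.hk
    have e' : c * (c * h * c⁻¹) * c⁻¹ = c * c * h * (c * c)⁻¹ := by group
    rw [e'] at e
    exact e
  refine ⟨k_x, ?_, ?_, ?_, kk', ?_, ?_, ?_⟩
  · intro b
    unfold yy
    calc h * (c * x b * c⁻¹) * h⁻¹ = c * ((c⁻¹ * h * c) * x b * (c⁻¹ * h * c)⁻¹) * c⁻¹ := by
          group
      _ = c * x (ω * b) * c⁻¹ := by rw [← hk'_eq, hB.k'_x]
  · intro b
    unfold yy
    calc (c * h * c⁻¹) * (c * x b * c⁻¹) * (c * h * c⁻¹)⁻¹ = c * (h * x b * h⁻¹) * c⁻¹ := by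
          group
      _ = c * x (ω * b) * c⁻¹ := by rw [hB.h_x]
  · intro b
    unfold yy
    calc (c * c * h * (c * c)⁻¹) * (c * x b * c⁻¹) * (c * c * h * (c * c)⁻¹)⁻¹
        = c * ((c * h * c⁻¹) * x b * (c * h * c⁻¹)⁻¹) * c⁻¹ := by group
      _ = c * x (ω⁻¹ * ω⁻¹ * b) * c⁻¹ := by rw [k_x]
  · have e := h48_commute_conj c _ _ kk'
    have e1 : c * (c * h * c⁻¹) * c⁻¹ = c * c * h * (c * c)⁻¹ := by group
    have e2 : c * (c * c * h * (c * c)⁻¹) * c⁻¹ = h := by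
      have e3 : c * (c * c * h * (c * c)⁻¹) * c⁻¹ = (c * c * c) * h * (c * c * c)⁻¹ := by group
      rw [e3, hc3]; group
    rw [e1, e2] at e
    exact e
  · intro a b
    unfold yy
    rw [hB.x_add]; group
  · intro a
    unfold yy
    have e3 : c * c * (c * x a * c⁻¹) * (c * c)⁻¹ = (c * c * c) * x a * (c * c * c)⁻¹ := by group
    rw [e3, hc3]; group

/-- T1 -/
theorem tor1_of_base {G : Type*} [Group G] {F : Type*} [Field F] (x : F → G) (h c : G) (ω : F)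
    (hB : IsBase x h c ω) (r8 : Commute (x 1) (ZZ x c 1)) (r9 : Commute (yy x c 1) (ZZ x c 1))
    (r11 : Commute ((c * c * h * (c * c)⁻¹) * (c * h * c⁻¹)⁻¹) (ZZ x c 1)) :
    IsTor1 x (yy x c) h (h * (c * h * c⁻¹)⁻¹) ((c * c * h * (c * c)⁻¹) * (c * h * c⁻¹)⁻¹) ω
      (ω ^ 3) :=
  h48_tor1_of_base_core x h c ω hB (h48_base_actions x h c ω hB) r8 r9 r11

end Cfsg.Agent.Lib.helper44.SL3

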