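import Mathlib
import Cfsg.Agent.Lib.helper69.SNDefs
import Cfsg.Agent.Lib.helper69.SNStruct

/-! S4073 split project, piece TRANSPORT (helper48). -/

set_option autoImplicit false

namespace Cfsg.Agent.Lib.helper48.SNG

open Cfsg.Agent.Lib.helper69.SNG

universe u v

/-- **[TRANSPORT]** -/
theorem normal_sub_transport {G : Type u} {D : Type v} [Group G] [Group D] (K H : Subgroup G)
    (hHK : H ≤ K) (hn : K ≤ Subgroup.normalizer (H : Set G)) (hH : ¬ IsMulCommutative H)
    (e : K ≃* D) (hD : ∀ M : Subgroup D, M.Normal → ¬ IsMulCommutative M → M = ⊤) : H = K := by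
  have hnorm : (H.subgroupOf K).Normal := (Subgroup.normal_subgroupOf_iff_le_normalizer hHK).mpr hn
  have hMn : ((H.subgroupOf K).map e.toMonoidHom).Normal :=
    Subgroup.Normal.map hnorm e.toMonoidHom e.surjective
  have hMc : ¬ IsMulCommutative ((H.subgroupOf K).map e.toMonoidHom) := by
    intro hc
    apply hH
    rw [comm_iff] at hc ⊢
    intro a ha b hb
    have ha' : e ⟨a, hHK ha⟩ ∈ (H.subgroupOf K).map e.toMonoidHom :=
      Subgroup.mem_map_of_mem e.toMonoidHom (Subgroup.mem_subgroupOf.mpr ha)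
    have hb' : e ⟨b, hHK hb⟩ ∈ (H.subgroupOf K).map e.toMonoidHom :=
      Subgroup.mem_map_of_mem e.toMonoidHom (Subgroup.mem_subgroupOf.mpr hb)
    have h1 := hc _ ha' _ hb'
    rw [← map_mul, ← map_mul] at h1
    have h2 := e.injective h1
    exact congrArg Subtype.val h2
  have htop := hD _ hMn hMc
  apply le_antisymm hHK
  intro k hk
  have h1 : e ⟨k, hk⟩ ∈ (H.subgroupOf K).map e.toMonoidHom := by
    rw [htop]; exact Subgroup.mem_top _
  obtain ⟨y, hy, hye⟩ := h1
  have h2 : y = ⟨k, hk⟩ := e.injective hye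
  rw [h2] at hy
  exact Subgroup.mem_subgroupOf.mp hy

end Cfsg.Agent.Lib.helper48.SNG
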