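import Mathlib
import Cfsg.Agent.Lib.helper2.BGDefs
import Cfsg.Agent.Lib.helper20.D1EFinal
import Cfsg.Agent.Lib.helper4.CharDecomp
import Cfsg.Agent.Lib.helper81.Kernel
import Cfsg.Agent.Lib.helper78.KLCount

/-!
S4504 split project, pieces J1-J4 (helper48, insurance copies under prefixed names): sums of
character values over the cosets of the centre.
-/

set_option autoImplicit false

open Cfsg Cfsg.Agent.Lib.helper20.D1E Cfsg.Agent.Lib.helper2.BF
open scoped ComplexConjugate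

namespace Cfsg.Agent.Lib.helper2.BG

universe u

variable {G : Type*} [Group G] [Fintype G]

/-- `χ(h z) = (χ(z)/χ(1)) χ(h)` for central `z`. -/
theorem helper48_cm (χ : IrrCharacter G) (h z : G) (hz : z ∈ Subgroup.center G) :
    (χ : G → ℂ) (h * z) = (χ : G → ℂ) z / (χ : G → ℂ) 1 * (χ : G → ℂ) h := by
  have hcomm : ∀ g : G, g * z = z * g := fun g => Subgroup.mem_center_iff.mp hz g
  rw [hcomm h]
  exact Cfsg.Agent.Lib.helper78.irr_central_mul χ z hcomm h

/-- The central character has absolute value one. -/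
theorem helper48_cm_norm (χ : IrrCharacter G) (z : G) (hz : z ∈ Subgroup.center G) :
    ((χ : G → ℂ) z / (χ : G → ℂ) 1) * conj ((χ : G → ℂ) z / (χ : G → ℂ) 1) = 1 := by
  have h1 : (χ : G → ℂ) 1 ≠ 0 := Cfsg.Agent.Lib.helper81.irr_one_ne_zero χ
  have hc1 : conj ((χ : G → ℂ) 1) = (χ : G → ℂ) 1 := by
    rw [Cfsg.Agent.Lib.helper81.irr_one_eq_charDegree]; simp
  rw [map_div₀, hc1, ← Cfsg.Agent.Lib.helper81.irr_inv]
  have h2 := helper48_cm χ z z⁻¹ (Subgroup.inv_mem _ hz)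
  rw [mul_inv_cancel] at h2
  field_simp
  field_simp at h2
  linear_combination -h2

/-- Sum of a constant over a subgroup, as an indicator sum. -/
theorem helper48_sum_ind_const (Z : Subgroup G) (c : ℂ) :
    ∑ z : G, Set.indicator (Z : Set G) (fun _ => c) z = (Nat.card Z : ℂ) * c := by
  classical
  simp only [Set.indicator_apply, SetLike.mem_coe]
  rw [Finset.sum_ite, Finset.sum_const_zero, add_zero, Finset.sum_const, nsmul_eq_mul,
    Nat.card_eq_fintype_card, Fintype.card_subtype]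

/-- Shifting an indicator sum over a subgroup. -/
theorem helper48_sum_ind_shift (Z : Subgroup G) (z₀ : G) (hz₀ : z₀ ∈ Z) (F : G → ℂ) :
    ∑ z : G, Set.indicator (Z : Set G) F z =
      ∑ z : G, Set.indicator (Z : Set G) (fun z => F (z * z₀)) z := by
  classical
  refine (Fintype.sum_equiv (Equiv.mulRight z₀) _ _ (fun z => ?_)).symm
  simp only [Equiv.coe_mulRight, Set.indicator_apply, SetLike.mem_coe]
  by_cases hz : z ∈ Z
  · rw [if_pos hz, if_pos (Z.mul_mem hz hz₀)]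
  · rw [if_neg hz, if_neg]
    intro h
    apply hz
    have := Z.mul_mem h (Z.inv_mem hz₀)
    rwa [mul_inv_cancel_right] at this

/-- An indicator sum is determined by the values on the subgroup. -/
theorem helper48_sum_ind_congr (Z : Subgroup G) (F F' : G → ℂ) (h : ∀ z ∈ Z, F z = F' z) :
    ∑ z : G, Set.indicator (Z : Set G) F z = ∑ z : G, Set.indicator (Z : Set G) F' z := by
  classical
  refine Finset.sum_congr rfl (fun z _ => ?_)
  simp only [Set.indicator_apply, SetLike.mem_coe]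
  by_cases hz : z ∈ Z
  · rw [if_pos hz, if_pos hz, h z hz]
  · rw [if_neg hz, if_neg hz]

/-- J1. -/
theorem helper48_central_orth_same (χ ψ : IrrCharacter G) (h : G)
    (hs : SameCentral (χ : G → ℂ) (ψ : G → ℂ)) :
    ∑ z : G, Set.indicator ((Subgroup.center G : Subgroup G) : Set G)
        (fun z => (ψ : G → ℂ) (h * z) * conj ((χ : G → ℂ) (h * z))) z
      = (Nat.card (Subgroup.center G) : ℂ) * ((ψ : G → ℂ) h * conj ((χ : G → ℂ) h)) := by
  have hχ1 : (χ : G → ℂ) 1 ≠ 0 := Cfsg.Agent.Lib.helper81.irr_one_ne_zero χ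
  have hψ1 : (ψ : G → ℂ) 1 ≠ 0 := Cfsg.Agent.Lib.helper81.irr_one_ne_zero ψ
  rw [← helper48_sum_ind_const]
  refine helper48_sum_ind_congr _ _ _ (fun z hz => ?_)
  have hμ : (χ : G → ℂ) z / (χ : G → ℂ) 1 = (ψ : G → ℂ) z / (ψ : G → ℂ) 1 := by
    have := hs z hz
    field_simp
    linear_combination this
  have hn := helper48_cm_norm ψ z hz
  rw [helper48_cm ψ h z hz, helper48_cm χ h z hz, hμ, map_mul]
  linear_combination ((ψ : G → ℂ) h * conj ((χ : G → ℂ) h)) * hn

/-- J2. -/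
theorem helper48_central_orth_ne (χ ψ : IrrCharacter G) (h : G)
    (hs : ¬ SameCentral (χ : G → ℂ) (ψ : G → ℂ)) :
    ∑ z : G, Set.indicator ((Subgroup.center G : Subgroup G) : Set G)
        (fun z => (ψ : G → ℂ) (h * z) * conj ((χ : G → ℂ) (h * z))) z = 0 := by
  have hχ1 : (χ : G → ℂ) 1 ≠ 0 := Cfsg.Agent.Lib.helper81.irr_one_ne_zero χ
  have hψ1 : (ψ : G → ℂ) 1 ≠ 0 := Cfsg.Agent.Lib.helper81.irr_one_ne_zero ψ
  unfold SameCentral at hs
  push Not at hs
  obtain ⟨z₀, hz₀, hne⟩ := hs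
  obtain ⟨S, hS⟩ : ∃ S : ℂ, S = ∑ z : G, Set.indicator ((Subgroup.center G : Subgroup G) : Set G)
        (fun z => (ψ : G → ℂ) (h * z) * conj ((χ : G → ℂ) (h * z))) z := ⟨_, rfl⟩
  obtain ⟨c, hc⟩ : ∃ c : ℂ, c = ((ψ : G → ℂ) z₀ / (ψ : G → ℂ) 1) *
      conj ((χ : G → ℂ) z₀ / (χ : G → ℂ) 1) := ⟨_, rfl⟩
  have h1 : S = c * S := by
    conv_lhs => rw [hS, helper48_sum_ind_shift _ z₀ hz₀]
    rw [hS, Finset.mul_sum]
    refine Finset.sum_congr rfl (fun z _ => ?_)
    rw [← Set.indicator_const_mul]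
    refine congrFun (congrArg _ ?_) z
    funext z
    rw [← mul_assoc h z z₀, helper48_cm ψ (h * z) z₀ hz₀, helper48_cm χ (h * z) z₀ hz₀, map_mul, hc]
    ring
  have hc1 : c ≠ 1 := by
    intro hc1
    apply hne
    have hn := helper48_cm_norm χ z₀ hz₀
    rw [hc] at hc1
    have h3 : (χ : G → ℂ) z₀ / (χ : G → ℂ) 1 = (ψ : G → ℂ) z₀ / (ψ : G → ℂ) 1 := by
      linear_combination ((ψ : G → ℂ) z₀ / (ψ : G → ℂ) 1) * hn
        - ((χ : G → ℂ) z₀ / (χ : G → ℂ) 1) * hc1
    field_simp at h3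
    linear_combination h3
  rw [← hS]
  have h3 : (c - 1) * S = 0 := by linear_combination -h1
  rcases mul_eq_zero.mp h3 with h | h
  · exact absurd (sub_eq_zero.mp h) hc1
  · exact h

/-- J3. -/
theorem helper48_central_sum_triv (χ : IrrCharacter G) (h : G)
    (hs : ∀ z ∈ Subgroup.center G, (χ : G → ℂ) z = (χ : G → ℂ) 1) :
    ∑ z : G, Set.indicator ((Subgroup.center G : Subgroup G) : Set G)
        (fun z => conj ((χ : G → ℂ) (h * z))) z
      = (Nat.card (Subgroup.center G) : ℂ) * conj ((χ : G → ℂ) h) := by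
  have hχ1 : (χ : G → ℂ) 1 ≠ 0 := Cfsg.Agent.Lib.helper81.irr_one_ne_zero χ
  rw [← helper48_sum_ind_const]
  refine helper48_sum_ind_congr _ _ _ (fun z hz => ?_)
  rw [helper48_cm χ h z hz, hs z hz, div_self hχ1, one_mul]

/-- J4. -/
theorem helper48_central_sum_ne (χ : IrrCharacter G) (h : G)
    (hs : ¬ ∀ z ∈ Subgroup.center G, (χ : G → ℂ) z = (χ : G → ℂ) 1) :
    ∑ z : G, Set.indicator ((Subgroup.center G : Subgroup G) : Set G)
        (fun z => conj ((χ : G → ℂ) (h * z))) z = 0 := by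
  have hχ1 : (χ : G → ℂ) 1 ≠ 0 := Cfsg.Agent.Lib.helper81.irr_one_ne_zero χ
  push Not at hs
  obtain ⟨z₀, hz₀, hne⟩ := hs
  obtain ⟨S, hS⟩ : ∃ S : ℂ, S = ∑ z : G, Set.indicator ((Subgroup.center G : Subgroup G) : Set G)
        (fun z => conj ((χ : G → ℂ) (h * z))) z := ⟨_, rfl⟩
  obtain ⟨c, hc⟩ : ∃ c : ℂ, c = conj ((χ : G → ℂ) z₀ / (χ : G → ℂ) 1) := ⟨_, rfl⟩
  have h1 : S = c * S := by
    conv_lhs => rw [hS, helper48_sum_ind_shift _ z₀ hz₀]
    rw [hS, Finset.mul_sum]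
    refine Finset.sum_congr rfl (fun z _ => ?_)
    rw [← Set.indicator_const_mul]
    refine congrFun (congrArg _ ?_) z
    funext z
    rw [← mul_assoc h z z₀, helper48_cm χ (h * z) z₀ hz₀, map_mul, hc]
  have hc1 : c ≠ 1 := by
    intro hc1
    apply hne
    rw [hc] at hc1
    have h3 : (χ : G → ℂ) z₀ / (χ : G → ℂ) 1 = 1 := by
      have := congrArg conj hc1
      rwa [Complex.conj_conj, map_one] at this
    field_simp at h3
    exact h3
  rw [← hS]
  have h3 : (c - 1) * S = 0 := by linear_combination -h1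
  rcases mul_eq_zero.mp h3 with h | h
  · exact absurd (sub_eq_zero.mp h) hc1
  · exact h

end Cfsg.Agent.Lib.helper2.BG
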