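import Mathlib
import Cfsg.Agent.Lib.helper2.BGDefs
import Cfsg.Agent.Lib.helper20.D1EFinal
import Cfsg.Agent.Lib.helper4.CharDecomp
import Cfsg.Agent.Lib.helper81.Kernel
import Cfsg.Agent.Lib.helper4.FinOrder
import Cfsg.Agent.Lib.helper48.BGJ

/-!
S4504 split project, pieces B and C (helper48, insurance copies under prefixed names).
-/

set_option autoImplicit false

open Cfsg Cfsg.Agent.Lib.helper20.D1E Cfsg.Agent.Lib.helper2.BF
open scoped ComplexConjugate

namespace Cfsg.Agent.Lib.helper2.BG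

universe u

variable {G : Type*} [Group G] [Fintype G]

/-- B. -/
theorem helper48_norm_central (ψ : G → ℂ) (hψ : IsCharacter G ψ)
    (hfaith : ∀ g : G, ψ g = ψ 1 → g = 1) (g : G) (h : ‖ψ g‖ = ‖ψ 1‖) :
    g ∈ Subgroup.center G := by
  obtain ⟨n, ρ, rfl⟩ := hψ
  have hfin : Module.finrank ℂ (Fin n → ℂ) = n := by simp
  have h1 : ρ.character 1 = (n : ℂ) := by rw [Representation.char_one, hfin]
  have hnorm : ‖ρ.character g‖ = (Module.finrank ℂ (Fin n → ℂ) : ℝ) := by
    rw [h, h1, hfin]; simp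
  obtain ⟨ω, hω⟩ := (Cfsg.Agent.Lib.helper4.norm_char_eq_iff ρ g).mp hnorm
  rw [Subgroup.mem_center_iff]
  intro k
  have hcomm : ρ (k * g) = ρ (g * k) := by
    rw [map_mul, map_mul, hω]
    ext v
    simp
  have hone : ρ (k * g * (g * k)⁻¹) = 1 := by
    rw [map_mul, hcomm, ← map_mul, mul_inv_cancel, map_one]
  have hch : ρ.character (k * g * (g * k)⁻¹) = ρ.character 1 := by
    unfold Representation.character
    rw [hone]
    congr 1
    exact (map_one ρ).symm
  have := hfaith _ hch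
  exact mul_inv_eq_one.mp this

/-- C. -/
theorem helper48_central_scalar (χ : IrrCharacter G) (z : G) (hz : z ∈ Subgroup.center G) :
    ∃ μ : ℂ, ‖μ‖ = 1 ∧ ∀ g : G, (χ : G → ℂ) (g * z) = μ * (χ : G → ℂ) g := by
  refine ⟨(χ : G → ℂ) z / (χ : G → ℂ) 1, ?_, fun g => helper48_cm χ g z hz⟩
  have h := helper48_cm_norm χ z hz
  rw [Complex.mul_conj] at h
  have h2 : Complex.normSq ((χ : G → ℂ) z / (χ : G → ℂ) 1) = 1 := by exact_mod_cast h
  rw [Complex.normSq_eq_norm_sq] at h2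
  have h3 : 0 ≤ ‖(χ : G → ℂ) z / (χ : G → ℂ) 1‖ := norm_nonneg _
  nlinarith

end Cfsg.Agent.Lib.helper2.BG
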