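import Mathlib
import Cfsg.Prelude.Def_Characters
import Cfsg.Prelude.Def_Blocks
import Cfsg.Agent.Lib.helper84.BrDefs
import Cfsg.Agent.Lib.helper14.BR0Defs
import Cfsg.Agent.Lib.helper82.S3875E2

/-!
# S4700 piece DX (`dvd_X`): the degrees in `X` divide `e (1 + n p) = |G : C_G(P)|`

Also `helper48_index_centralizer`: for `x ∈ P ∖ 1` (`|P| = p`), `|G : C_G(x)| = e (1 + n p)`.
-/

set_option autoImplicit false

namespace Cfsg.Agent.Lib.helper48.BR

open Cfsg Cfsg.Agent.Lib.helper81 Cfsg.Agent.Lib.helper84.Br Cfsg.Agent.Lib.helper14.BR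
open scoped ComplexConjugate

universe u

/-- A Sylow subgroup of prime order has a non-identity element. -/
theorem helper48_exists_ne_one {G : Type u} [Group G] {p : ℕ} [Fact p.Prime] {P : Sylow p G}
    (hP : Nat.card P = p) : ∃ x : G, x ∈ (P : Subgroup G) ∧ x ≠ 1 := by
  have hp : p.Prime := Fact.out
  have h1 : 1 < Nat.card (P : Subgroup G) := by rw [hP]; exact hp.one_lt
  have : Finite (P : Subgroup G) := Nat.finite_of_card_ne_zero (by omega)
  have : Nontrivial (P : Subgroup G) := Finite.one_lt_card_iff_nontrivial.mp h1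
  obtain ⟨x, hx⟩ := exists_ne (1 : (P : Subgroup G))
  exact ⟨x.1, x.2, fun h => hx (Subtype.ext h)⟩

/-- For `x ∈ P ∖ 1` with `|P| = p`: `C_G(x) = C_G(P)`. -/
theorem helper48_centralizer_singleton {G : Type u} [Group G] {p : ℕ} [Fact p.Prime]
    {P : Sylow p G} (hP : Nat.card P = p) (x : G) (hx : x ∈ (P : Subgroup G)) (hx1 : x ≠ 1) :
    Subgroup.centralizer ({x} : Set G) = Subgroup.centralizer ((P : Subgroup G) : Set G) := by
  apply le_antisymm
  · intro g hg
    rw [Subgroup.mem_centralizer_singleton_iff] at hg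
    rw [Subgroup.mem_centralizer_iff]
    intro y hy
    have hx' : (⟨x, hx⟩ : (P : Subgroup G)) ≠ 1 := fun h => hx1 (congrArg Subtype.val h)
    have hmem : (⟨y, hy⟩ : (P : Subgroup G)) ∈ Subgroup.zpowers (⟨x, hx⟩ : (P : Subgroup G)) :=
      mem_zpowers_of_prime_card hP hx'
    obtain ⟨k, hk⟩ := Subgroup.mem_zpowers_iff.mp hmem
    have hyk : y = x ^ k := by
      have := congrArg Subtype.val hk
      simpa using this.symm
    rw [hyk]
    have hc : Commute g x := hg
    exact (hc.zpow_right k).eq.symm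
  · exact Subgroup.centralizer_le (Set.singleton_subset_iff.mpr hx)

/-- For `x ∈ P ∖ 1` (`|P| = p`, `e = |N_G(P) : C_G(P)|`, `|Syl_p(G)| = 1 + n p`):
`|G : C_G(x)| = e (1 + n p)`. -/
theorem helper48_index_centralizer {G : Type u} [Group G] [Finite G] {p : ℕ} [Fact p.Prime]
    {P : Sylow p G} {e n : ℕ} (hP : Nat.card P = p)
    (he : (Subgroup.centralizer ((P : Subgroup G) : Set G)).relIndex
        (Subgroup.normalizer ((P : Subgroup G) : Set G)) = e)
    (hn : Nat.card (Sylow p G) = 1 + n * p) (x : G) (hx : x ∈ (P : Subgroup G)) (hx1 : x ≠ 1) :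
    (Subgroup.centralizer ({x} : Set G)).index = e * (1 + n * p) := by
  rw [helper48_centralizer_singleton hP x hx hx1]
  have hle : Subgroup.centralizer ((P : Subgroup G) : Set G) ≤
      Subgroup.normalizer ((P : Subgroup G) : Set G) := Subgroup.centralizer_le_normalizer _
  have h1 := Subgroup.relIndex_mul_index hle
  rw [he] at h1
  have h2 : (Subgroup.normalizer ((P : Subgroup G) : Set G)).index = 1 + n * p := by
    rw [← hn]
    exact (Sylow.card_eq_index_normalizer P).symm
  rw [h2] at h1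
  exact h1.symm

section pieces

variable {G : Type u} [Group G] [Fintype G] {p : ℕ} [Fact p.Prime] {P : Sylow p G} {e n : ℕ}

/-- DX : the degrees in `X` divide `e (1 + n p) = |G : C_G(P)|`. -/
theorem dvd_X (D : Data0 G p P e) (hP : Nat.card P = p)
    (he : (Subgroup.centralizer ((P : Subgroup G) : Set G)).relIndex
        (Subgroup.normalizer ((P : Subgroup G) : Set G)) = e)
    (hn : Nat.card (Sylow p G) = 1 + n * p) (χ : IrrCharacter G) (hχ : χ ∈ D.X) :
    charDegree (χ : G → ℂ) ∣ e * (1 + n * p) := by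
  obtain ⟨x, hx, hx1⟩ := helper48_exists_ne_one hP
  have hval : (χ : G → ℂ) x = (D.δ χ : ℂ) := by
    have h := D.val_X χ hχ x hx hx1 1 (Subgroup.one_mem _)
      (by
        rw [orderOf_one]
        exact fun hd => (Fact.out : p.Prime).one_lt.ne' (Nat.dvd_one.mp hd))
    rwa [mul_one] at h
  have h := Cfsg.Agent.Lib.helper82.S3875.degree_dvd_index χ x (D.δ χ) (D.δ_sq χ hχ) hval
  rwa [helper48_index_centralizer hP he hn x hx hx1] at h

end pieces

end Cfsg.Agent.Lib.helper48.BR
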