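import Mathlib

set_option autoImplicit false

namespace Cfsg.Agent.Lib.helper48

/-- if all point stabilizers have `k` elements then `|H| / k` divides the number of points -/
theorem ht_dvd_card_of_stab {H X : Type*} [Group H] [MulAction H X] [Finite H] [Finite X] (k : ℕ)
    (hk : ∀ x : X, Nat.card (MulAction.stabilizer H x) = k) : Nat.card H / k ∣ Nat.card X := by
  classical
  have := Fintype.ofFinite H
  have := Fintype.ofFinite X
  have : Fintype (MulAction.orbitRel.Quotient H X) := Fintype.ofFinite _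
  have : ∀ b : X, Fintype (MulAction.stabilizer H b) := fun b => Fintype.ofFinite _
  have h := MulAction.card_eq_sum_card_group_div_card_stabilizer H X
  rw [Nat.card_eq_fintype_card, Nat.card_eq_fintype_card, h]
  apply Finset.dvd_sum
  intro ω _
  rw [← Nat.card_eq_fintype_card (α := ↥(MulAction.stabilizer H ω.out)), hk]

/-- nonzero vectors fixed by `ρ t` -/
def HtFix {q : ℕ} {V : Type*} [AddCommGroup V] [Module (ZMod q) V] {G : Type*} [Group G]
    (ρ : G →* (V ≃ₗ[ZMod q] V)) (t : G) : Type _ := {v : V // ρ t v = v ∧ v ≠ 0}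

instance HtFix.instFinite {q : ℕ} {V : Type*} [AddCommGroup V] [Module (ZMod q) V] [Finite V]
    {G : Type*} [Group G] (ρ : G →* (V ≃ₗ[ZMod q] V)) (t : G) : Finite (HtFix ρ t) :=
  Subtype.finite

instance HtFix.instMulAction {q : ℕ} {V : Type*} [AddCommGroup V] [Module (ZMod q) V]
    {G : Type*} [Group G] (ρ : G →* (V ≃ₗ[ZMod q] V)) (t : G) :
    MulAction (Subgroup.centralizer ({t} : Set G)) (HtFix ρ t) where
  smul n w := ⟨ρ (n : G) w.1, by
    have hn : (n : G) * t = t * n := Subgroup.mem_centralizer_singleton_iff.mp n.2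
    have : ρ t (ρ (n : G) w.1) = ρ (n : G) (ρ t w.1) := by
      rw [← LinearEquiv.mul_apply, ← LinearEquiv.mul_apply, ← map_mul, ← map_mul, hn]
    rw [this, w.2.1], by
    intro h
    exact w.2.2 ((ρ (n : G)).map_eq_zero_iff.mp h)⟩
  one_smul w := by
    apply Subtype.ext
    show ρ ((1 : Subgroup.centralizer ({t} : Set G)) : G) w.1 = w.1
    rw [Subgroup.coe_one, map_one]
    rfl
  mul_smul a b w := by
    apply Subtype.ext
    show ρ ((a * b : Subgroup.centralizer ({t} : Set G)) : G) w.1 = ρ (a : G) (ρ (b : G) w.1)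
    rw [Subgroup.coe_mul, map_mul, LinearEquiv.mul_apply]

theorem HtFix.smul_val {q : ℕ} {V : Type*} [AddCommGroup V] [Module (ZMod q) V]
    {G : Type*} [Group G] (ρ : G →* (V ≃ₗ[ZMod q] V)) (t : G)
    (n : Subgroup.centralizer ({t} : Set G)) (w : HtFix ρ t) : (n • w).1 = ρ (n : G) w.1 := rfl

/-- PIECE MON3 -/
theorem ht_mon_fermat {q : ℕ} [Fact q.Prime] {V : Type*} [AddCommGroup V] [Module (ZMod q) V] [Finite V]
    {G : Type*} [Group G] [Finite G] (hG : IsPGroup 2 G) (hq2 : q ≠ 2)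
    (ρ : G →* (V ≃ₗ[ZMod q] V))
    (z t : G) (hzc : z ∈ Subgroup.center G) (hz : ∀ v : V, ρ z v = -v) (ht2 : t ^ 2 = 1)
    (hconj : ∀ g : G, g * t * g⁻¹ = t ∨ g * t * g⁻¹ = t * z)
    (hnc : ∃ g : G, g * t * g⁻¹ = t * z)
    (hs2 : ∀ v : V, v ≠ 0 → Nat.card {g : G // ρ g v = v} = 2)
    (hinv : ∀ t' : G, t' ^ 2 = 1 → t' ≠ 1 → t' ≠ z → (t' = t ∨ t' = t * z ∨ t' * t * t'⁻¹ = t * z))
    (v₀ : V) (hv₀ : v₀ ≠ 0) (htv : ρ t v₀ = v₀)
    (Q : ℕ) (hQ : Nat.card {v : V // ρ t v = v} = Q)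
    (hι : Q + 1 = Nat.card {t' : G // t' ^ 2 = 1 ∧ t' ≠ 1 ∧ t' ≠ z}) :
    ∃ m : ℕ, Q = 2 ^ m + 1 := by
  classical
  have h2 : (2 : ZMod q) ≠ 0 := by
    intro h
    have h' : ((2 : ℕ) : ZMod q) = 0 := by exact_mod_cast h
    rw [ZMod.natCast_eq_zero_iff] at h'
    have := (Nat.prime_dvd_prime_iff_eq (Fact.out : q.Prime) Nat.prime_two).mp h'
    exact hq2 this
  have hz1 : z ≠ 1 := by
    rintro rfl
    have h0 := hz v₀
    rw [map_one] at h0
    change v₀ = -v₀ at h0
    have h3 : (2 : ZMod q) • v₀ = 0 := by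
      rw [two_smul]
      nth_rewrite 1 [h0]
      exact neg_add_cancel v₀
    rcases smul_eq_zero.mp h3 with h | h
    · exact h2 h
    · exact hv₀ h
  obtain ⟨g₀, hg₀⟩ := hnc
  have ht1 : t ≠ 1 := by
    rintro rfl
    apply hz1
    simpa using hg₀.symm
  have htz : t ≠ t * z := by
    intro h
    apply hz1
    exact mul_eq_left.mp h.symm
  have htN : t ∈ (Subgroup.centralizer ({t} : Set G)) := Subgroup.mem_centralizer_singleton_iff.mpr rfl
  -- stabilizers in `G` of nonzero fixed vectors of `t`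
  have hstabG : ∀ w : V, w ≠ 0 → ρ t w = w → ∀ g : G, ρ g w = w → g = 1 ∨ g = t := by
    intro w hw htw g hg
    have hc : Nat.card {g : G // ρ g w = w} = ({g : G | ρ g w = w}).ncard :=
      Nat.card_coe_set_eq _
    rw [hs2 w hw] at hc
    have hsub : ({1, t} : Set G) ⊆ {g : G | ρ g w = w} := by
      rintro x (rfl | rfl)
      · simp
      · exact htw
    have heq : ({1, t} : Set G) = {g : G | ρ g w = w} := by
      apply Set.eq_of_subset_of_ncard_le hsub _ (Set.toFinite _)
      rw [Set.ncard_pair (Ne.symm ht1), ← hc]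
    have : g ∈ ({1, t} : Set G) := by rw [heq]; exact hg
    simpa using this
  have hstab : ∀ w : HtFix ρ t, Nat.card (MulAction.stabilizer (Subgroup.centralizer ({t} : Set G)) w) = 2 := by
    intro w
    rw [← hs2 w.1 w.2.2]
    apply Nat.card_congr
    refine Equiv.ofBijective (fun n => ⟨(n.1 : G), ?_⟩) ⟨?_, ?_⟩
    · have h1 : (n.1 • w : HtFix ρ t) = w := MulAction.mem_stabilizer_iff.mp n.2
      have h2 := congrArg Subtype.val h1
      exact h2
    · intro a b hab
      apply Subtype.ext; apply Subtype.ext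
      have h := congrArg Subtype.val hab
      exact h
    · rintro ⟨g, hg⟩
      have hgN : g ∈ (Subgroup.centralizer ({t} : Set G)) := by
        rcases hstabG w.1 w.2.2 w.2.1 g hg with rfl | rfl
        · exact Subgroup.one_mem _
        · exact htN
      refine ⟨⟨⟨g, hgN⟩, ?_⟩, rfl⟩
      rw [MulAction.mem_stabilizer_iff]
      apply Subtype.ext
      exact hg
  have hdvd := ht_dvd_card_of_stab (H := (Subgroup.centralizer ({t} : Set G))) (X := HtFix ρ t) 2 hstab
  -- the number of nonzero fixed vectors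
  have hcard : Nat.card (HtFix ρ t) + 1 = Q := by
    have e1 : Nat.card (HtFix ρ t) = ({v : V | ρ t v = v} \ {0}).ncard := by
      rw [← Nat.card_coe_set_eq]
      apply Nat.card_congr
      exact Equiv.subtypeEquivRight (fun v => by simp)
    have e2 : Nat.card {v : V // ρ t v = v} = ({v : V | ρ t v = v}).ncard :=
      Nat.card_coe_set_eq _
    rw [e1, ← hQ, e2]
    exact Set.ncard_sdiff_singleton_add_one (by simp) (Set.toFinite _)
  have hpos : 1 ≤ Nat.card (HtFix ρ t) := by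
    have : Nonempty (HtFix ρ t) := ⟨⟨v₀, htv, hv₀⟩⟩
    exact Nat.card_pos
  -- the order of `(Subgroup.centralizer ({t} : Set G))`
  have : Fact (Nat.Prime 2) := ⟨Nat.prime_two⟩
  obtain ⟨j, hj⟩ := (IsPGroup.iff_card).mp (hG.to_subgroup (Subgroup.centralizer ({t} : Set G)))
  have hj0 : j ≠ 0 := by
    rintro rfl
    rw [pow_zero] at hj
    have : (Subgroup.centralizer ({t} : Set G)) = ⊥ := Subgroup.eq_bot_of_card_eq (Subgroup.centralizer ({t} : Set G)) hj
    rw [this, Subgroup.mem_bot] at htN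
    exact ht1 htN
  obtain ⟨j', rfl⟩ := Nat.exists_eq_succ_of_ne_zero hj0
  -- the number of involutions
  have hI : Nat.card {t' : G // t' ^ 2 = 1 ∧ t' ≠ 1 ∧ t' ≠ z} ≤ 2 + Nat.card (Subgroup.centralizer ({t} : Set G)) := by
    have e1 : Nat.card {t' : G // t' ^ 2 = 1 ∧ t' ≠ 1 ∧ t' ≠ z} =
        ({t' : G | t' ^ 2 = 1 ∧ t' ≠ 1 ∧ t' ≠ z}).ncard := Nat.card_coe_set_eq _
    rw [e1]
    have hsub : {t' : G | t' ^ 2 = 1 ∧ t' ≠ 1 ∧ t' ≠ z} ⊆
        ({t, t * z} : Set G) ∪ (fun n => g₀ * n) '' ((Subgroup.centralizer ({t} : Set G)) : Set G) := by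
      rintro t' ⟨h1, h2, h3⟩
      rcases hinv t' h1 h2 h3 with rfl | rfl | h
      · left; simp
      · left; simp
      · right
        refine ⟨g₀⁻¹ * t', ?_, mul_inv_cancel_left g₀ t'⟩
        rw [SetLike.mem_coe, Subgroup.mem_centralizer_singleton_iff]
        have h' : t' * t = t * z * t' := by rw [← h]; group
        have h0 : g₀ * t = t * z * g₀ := by rw [← hg₀]; group
        have h0' : t * g₀⁻¹ = g₀⁻¹ * (t * z) := by
          rw [eq_inv_mul_iff_mul_eq, ← mul_assoc, h0]; group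
        rw [mul_assoc, h', ← mul_assoc t, h0']; group
    calc ({t' : G | t' ^ 2 = 1 ∧ t' ≠ 1 ∧ t' ≠ z}).ncard
        ≤ (({t, t * z} : Set G) ∪ (fun n => g₀ * n) '' ((Subgroup.centralizer ({t} : Set G)) : Set G)).ncard :=
          Set.ncard_le_ncard hsub (Set.toFinite _)
      _ ≤ ({t, t * z} : Set G).ncard + ((fun n => g₀ * n) '' ((Subgroup.centralizer ({t} : Set G)) : Set G)).ncard :=
          Set.ncard_union_le _ _
      _ ≤ 2 + Nat.card (Subgroup.centralizer ({t} : Set G)) := by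
        apply add_le_add
        · rw [Set.ncard_pair htz]
        · calc ((fun n => g₀ * n) '' ((Subgroup.centralizer ({t} : Set G)) : Set G)).ncard ≤ ((Subgroup.centralizer ({t} : Set G)) : Set G).ncard :=
                Set.ncard_image_le (Set.toFinite _)
            _ = Nat.card (Subgroup.centralizer ({t} : Set G)) := (Nat.card_coe_set_eq _).symm
  rw [← hι, hj] at hI
  rw [hj] at hdvd
  have hhalf : 2 ^ (j' + 1) / 2 = 2 ^ j' := by
    rw [pow_succ]; exact Nat.mul_div_cancel _ (by norm_num)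
  rw [hhalf] at hdvd
  obtain ⟨k, hk⟩ := hdvd
  rw [hk] at hcard hpos
  have hk1 : 1 ≤ k := by
    rcases Nat.eq_zero_or_pos k with rfl | h
    · simp at hpos
    · exact h
  have hk2 : k ≤ 2 := by
    by_contra hcon
    rw [not_le] at hcon
    have : 2 ^ j' * 3 ≤ 2 ^ j' * k := Nat.mul_le_mul_left _ hcon
    have hp : 1 ≤ 2 ^ j' := Nat.one_le_two_pow
    rw [pow_succ] at hI
    omega
  interval_cases k
  · exact ⟨j', by omega⟩
  · exact ⟨j' + 1, by rw [pow_succ]; omega⟩

end Cfsg.Agent.Lib.helper48
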