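import Mathlib

set_option autoImplicit false

namespace Cfsg.Agent.Lib.helper48

theorem ht_mon_coord_li {q : ℕ} [Fact q.Prime] {V : Type*} [AddCommGroup V] [Module (ZMod q) V]
    (hq2 : q ≠ 2) (T : V ≃ₗ[ZMod q] V) (b₀ b₁ : V) (hb₀ : b₀ ≠ 0) (htb₀ : T b₀ = b₀)
    (hb₁ : b₁ ≠ 0) (htb₁ : T b₁ = -b₁) :
    LinearIndependent (ZMod q) ![b₀, b₁] := by
  have h2 : (2 : ZMod q) ≠ 0 := by
    intro h
    have h' : ((2 : ℕ) : ZMod q) = 0 := by exact_mod_cast h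
    rw [ZMod.natCast_eq_zero_iff] at h'
    have := (Nat.prime_dvd_prime_iff_eq (Fact.out : q.Prime) Nat.prime_two).mp h'
    exact hq2 this
  rw [LinearIndependent.pair_iff]
  intro x y hxy
  have h1 : x • b₀ - y • b₁ = 0 := by
    have := congrArg T hxy
    simpa [htb₀, htb₁, sub_eq_add_neg] using this
  have hx : x = 0 := by
    have : (2 * x) • b₀ = 0 := by
      have : x • b₀ + y • b₁ + (x • b₀ - y • b₁) = 0 := by rw [hxy, h1, add_zero]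
      rw [mul_smul, two_smul]
      rw [← this]; abel
    rcases smul_eq_zero.mp this with h | h
    · exact (mul_eq_zero.mp h).resolve_left h2
    · exact absurd h hb₀
  subst hx
  refine ⟨rfl, ?_⟩
  rw [zero_smul, zero_add] at hxy
  exact (smul_eq_zero.mp hxy).resolve_right hb₁

/-- PIECE MON4b -/
theorem ht_mon_coord {q : ℕ} [Fact q.Prime] {V : Type*} [AddCommGroup V] [Module (ZMod q) V] [Finite V]
    {G : Type*} [Group G] (hq2 : q ≠ 2)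
    (ρ : G →* (V ≃ₗ[ZMod q] V)) (t : G) (hV : Nat.card V = q ^ 2)
    (b₀ b₁ : V) (hb₀ : b₀ ≠ 0) (htb₀ : ρ t b₀ = b₀) (hb₁ : b₁ ≠ 0) (htb₁ : ρ t b₁ = -b₁)
    (hfwd : ∀ g : G, ∃ a s : ZMod q, a ≠ 0 ∧ (s = 1 ∨ s = -1) ∧
        ((ρ g b₀ = a • b₀ ∧ ρ g b₁ = (s * a⁻¹) • b₁) ∨ (ρ g b₀ = a • b₁ ∧ ρ g b₁ = (s * a⁻¹) • b₀)))
    (hbwd : ∀ a s : ZMod q, a ≠ 0 → (s = 1 ∨ s = -1) →
        (∃ g : G, ρ g b₀ = a • b₀ ∧ ρ g b₁ = (s * a⁻¹) • b₁) ∧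
        (∃ g : G, ρ g b₀ = a • b₁ ∧ ρ g b₁ = (s * a⁻¹) • b₀)) :
    ∃ e : V ≃ₗ[ZMod q] (Fin 2 → ZMod q), ∀ f : (Fin 2 → ZMod q) ≃ₗ[ZMod q] (Fin 2 → ZMod q),
        (∃ g : G, f = e.symm.trans ((ρ g).trans e)) ↔
        ∃ a s : ZMod q, a ≠ 0 ∧ (s = 1 ∨ s = -1) ∧
          ((∀ v, f v = ![a * v 0, s * a⁻¹ * v 1]) ∨ (∀ v, f v = ![s * a⁻¹ * v 1, a * v 0])) := by
  have hli := ht_mon_coord_li hq2 (ρ t) b₀ b₁ hb₀ htb₀ hb₁ htb₁
  have hq : 1 < q := (Fact.out : q.Prime).one_lt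
  have hfr : Module.finrank (ZMod q) V = 2 := by
    have h1 := Module.natCard_eq_pow_finrank (K := ZMod q) (V := V)
    rw [hV, Nat.card_zmod] at h1
    exact (Nat.pow_right_injective hq h1).symm
  let B : Module.Basis (Fin 2) (ZMod q) V :=
    basisOfLinearIndependentOfCardEqFinrank hli (by rw [hfr]; simp)
  have hB : ⇑B = ![b₀, b₁] := coe_basisOfLinearIndependentOfCardEqFinrank hli _
  have hsymm : ∀ w : Fin 2 → ZMod q, B.equivFun.symm w = w 0 • b₀ + w 1 • b₁ := by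
    intro w
    rw [Module.Basis.equivFun_symm_apply, Fin.sum_univ_two, hB]
    rfl
  have key1 : ∀ (g : G) (a s : ZMod q), ρ g b₀ = a • b₀ → ρ g b₁ = (s * a⁻¹) • b₁ →
      ∀ v, B.equivFun (ρ g (B.equivFun.symm v)) = ![a * v 0, s * a⁻¹ * v 1] := by
    intro g a s h0 h1 v
    rw [← LinearEquiv.eq_symm_apply, hsymm, hsymm, map_add, map_smul, map_smul, h0, h1,
      smul_smul, smul_smul]
    simp [mul_comm]
  have key2 : ∀ (g : G) (a s : ZMod q), ρ g b₀ = a • b₁ → ρ g b₁ = (s * a⁻¹) • b₀ →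
      ∀ v, B.equivFun (ρ g (B.equivFun.symm v)) = ![s * a⁻¹ * v 1, a * v 0] := by
    intro g a s h0 h1 v
    rw [← LinearEquiv.eq_symm_apply, hsymm, hsymm, map_add, map_smul, map_smul, h0, h1,
      smul_smul, smul_smul, add_comm]
    simp [mul_comm]
  refine ⟨B.equivFun, fun f => ⟨?_, ?_⟩⟩
  · rintro ⟨g, rfl⟩
    obtain ⟨a, s, ha, hs, h | h⟩ := hfwd g
    · exact ⟨a, s, ha, hs, Or.inl fun v => key1 g a s h.1 h.2 v⟩
    · exact ⟨a, s, ha, hs, Or.inr fun v => key2 g a s h.1 h.2 v⟩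
  · rintro ⟨a, s, ha, hs, h | h⟩
    · obtain ⟨g, h0, h1⟩ := (hbwd a s ha hs).1
      refine ⟨g, ?_⟩
      apply LinearEquiv.ext
      intro v
      rw [h v]
      exact (key1 g a s h0 h1 v).symm
    · obtain ⟨g, h0, h1⟩ := (hbwd a s ha hs).2
      refine ⟨g, ?_⟩
      apply LinearEquiv.ext
      intro v
      rw [h v]
      exact (key2 g a s h0 h1 v).symm

end Cfsg.Agent.Lib.helper48
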