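import Mathlib
import Cfsg.Prelude.Def_Characters
import Cfsg.Prelude.Def_Blocks
import Cfsg.Agent.Lib.helper84.BrDefs
import Cfsg.Agent.Lib.helper81.Kernel

/-!
S0997 (Brauer–Tuan) split project, piece FAITH (helper48): a non-trivial irreducible character
of a simple group is faithful.
-/

set_option autoImplicit false

namespace Cfsg.Agent.Lib.helper48.BU

open Cfsg Cfsg.Agent.Lib.helper81 Cfsg.Agent.Lib.helper84.Br
open scoped ComplexConjugate

universe u

section pieces

variable {G : Type u} [Group G] [Fintype G]

/-- FAITH : a non-trivial irreducible character of a simple group is faithful. -/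
theorem faithful_of_simple [IsSimpleGroup G] (θ : IrrCharacter G) (hθ : θ ≠ trivChar G) (y : G)
    (hy : (θ : G → ℂ) y = (θ : G → ℂ) 1) : y = 1 := by
  have hch : IsCharacter G (θ : G → ℂ) := irr_isCharacter θ
  have hy' : y ∈ charKer (θ : G → ℂ) hch := (mem_charKer _ hch y).mpr hy
  rcases (charKer_normal (θ : G → ℂ) hch).eq_bot_or_eq_top with h | h
  · rw [h, Subgroup.mem_bot] at hy'
    exact hy'
  · exfalso
    obtain ⟨g, hg⟩ := irr_exists_ne_of_ne_triv θ hθ
    apply hg
    have : g ∈ charKer (θ : G → ℂ) hch := by rw [h]; exact Subgroup.mem_top g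
    exact (mem_charKer _ hch g).mp this

end pieces

end Cfsg.Agent.Lib.helper48.BU
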