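import Mathlib
import Cfsg.Prelude.Def_Characters
import Cfsg.Prelude.Def_Blocks
import Cfsg.Agent.Lib.helper84.BrDefs
import Cfsg.Agent.Lib.helper81.CharBasic
import Cfsg.Agent.Lib.helper81.CharOrtho
import Cfsg.Agent.Lib.helper81.Blocks

/-!
S0997 (Brauer–Tuan) split project, piece DSQ (helper48): `χ(1)² < |G|` for an irreducible
character of a non-trivial group.
-/

set_option autoImplicit false

namespace Cfsg.Agent.Lib.helper48.BU

open Cfsg Cfsg.Agent.Lib.helper81 Cfsg.Agent.Lib.helper84.Br
open scoped ComplexConjugate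

universe u

section pieces

variable {G : Type u} [Group G] [Fintype G]

/-- DSQ : `χ(1)² < |G|`. -/
theorem deg_sq_lt [Nontrivial G] (χ : IrrCharacter G) :
    charDegree (χ : G → ℂ) * charDegree (χ : G → ℂ) < Nat.card G := by
  classical
  have hsum := sum_irr_degree_mul (G := G) 1
  rw [if_pos rfl] at hsum
  have hsumN : ∑ ψ : IrrCharacter G, charDegree (ψ : G → ℂ) * charDegree (ψ : G → ℂ)
      = Nat.card G := by
    have : ((∑ ψ : IrrCharacter G, charDegree (ψ : G → ℂ) * charDegree (ψ : G → ℂ) : ℕ) : ℂ)
        = (Nat.card G : ℂ) := by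
      rw [← hsum]
      push_cast
      refine Finset.sum_congr rfl (fun ψ _ => ?_)
      rw [irr_one_eq_charDegree]
    exact_mod_cast this
  by_cases hχ : χ = trivChar G
  · have h1 : charDegree (χ : G → ℂ) = 1 := by
      have h2 := irr_one_eq_charDegree χ
      rw [hχ, trivChar_apply] at h2
      rw [hχ]
      exact_mod_cast h2.symm
    rw [h1]
    have : 1 < Nat.card G := Finite.one_lt_card
    simpa using this
  · rw [← hsumN]
    have hsplit := Finset.add_sum_erase Finset.univ
      (fun ψ : IrrCharacter G => charDegree (ψ : G → ℂ) * charDegree (ψ : G → ℂ))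
      (Finset.mem_univ χ)
    rw [← hsplit]
    have hpos : 0 < ∑ ψ ∈ Finset.univ.erase χ,
        charDegree (ψ : G → ℂ) * charDegree (ψ : G → ℂ) := by
      apply Finset.sum_pos'
      · intro i _
        exact Nat.zero_le _
      · refine ⟨trivChar G, Finset.mem_erase.mpr ⟨Ne.symm hχ, Finset.mem_univ _⟩, ?_⟩
        have := irr_charDegree_pos (trivChar G)
        positivity
    omega

end pieces

end Cfsg.Agent.Lib.helper48.BU
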