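import Mathlib
import Cfsg.Prelude.Def_Characters
import Cfsg.Prelude.Def_Blocks
import Cfsg.Agent.Lib.helper84.BrDefs
import Cfsg.Agent.Lib.helper81.CharOrtho
import Cfsg.Agent.Lib.helper82.BFA1

/-!
S0997 (Brauer–Tuan) split project, piece NV (helper48): a character of degree prime to `q` does
not vanish on all `q`-singular elements.
-/

set_option autoImplicit false

namespace Cfsg.Agent.Lib.helper48.BU

open Cfsg Cfsg.Agent.Lib.helper81 Cfsg.Agent.Lib.helper84.Br
open scoped ComplexConjugate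

universe u

section pieces

variable {G : Type u} [Group G] [Fintype G]

/-- NV : a character of degree prime to `q` does not vanish on all `q`-singular elements. -/
theorem exists_sing_ne_zero (q : ℕ) (hq : q.Prime) (hqG : q ∣ Nat.card G) (χ : IrrCharacter G)
    (hχ : ¬ q ∣ charDegree (χ : G → ℂ)) : ∃ y : G, q ∣ orderOf y ∧ (χ : G → ℂ) y ≠ 0 := by
  classical
  have : Fact q.Prime := ⟨hq⟩
  by_contra hcon
  push Not at hcon
  obtain ⟨z, hz⟩ := exists_prime_orderOf_dvd_card' q hqG
  have hzq : z ^ q = 1 := by rw [← hz]; exact pow_orderOf_eq_one z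
  obtain ⟨d, hd⟩ := Cfsg.Agent.Lib.helper2.BF.mu_nat q z hzq (χ : G → ℂ) (irr_isCharacter χ) 0
  have hqc : (q : ℂ) ≠ 0 := by exact_mod_cast hq.ne_zero
  have hsum : ∑ i ∈ Finset.range q, (χ : G → ℂ) (z ^ i) *
      (Cfsg.Agent.Lib.helper20.D1E.zeta q ^ ((0 : ZMod q).val * i))⁻¹ = (χ : G → ℂ) 1 := by
    rw [Finset.sum_eq_single_of_mem 0 (Finset.mem_range.mpr hq.pos)]
    · simp
    · intro i hi hi0
      have hiq : i < q := Finset.mem_range.mp hi
      have hcop : Nat.Coprime q i := by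
        rw [Nat.Prime.coprime_iff_not_dvd hq]
        intro hdvd
        exact hi0 (Nat.eq_zero_of_dvd_of_lt hdvd hiq)
      have hord : orderOf (z ^ i) = q := by
        rw [Nat.Coprime.orderOf_pow (by rw [hz]; exact hcop), hz]
      rw [hcon (z ^ i) (by rw [hord]), zero_mul]
  unfold Cfsg.Agent.Lib.helper2.BF.mu at hd
  rw [hsum, irr_one_eq_charDegree] at hd
  apply hχ
  refine ⟨d, ?_⟩
  have h2 : (charDegree (χ : G → ℂ) : ℂ) = (q : ℂ) * (d : ℂ) := by
    rw [← hd]
    field_simp
  exact_mod_cast h2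

end pieces

end Cfsg.Agent.Lib.helper48.BU
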