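import Cfsg.Agent.Lib.helper6.SLCard

set_option autoImplicit false

namespace Cfsg.Agent.Lib.helper21.BRP

theorem helper48_card_psl2 {F : Type*} [Field F] [Fintype F] (j : ℕ) (hF : Fintype.card F = j + 4) :
    Nat.gcd 2 (j + 3) * Nat.card (Matrix.ProjectiveSpecialLinearGroup (Fin 2) F) =
      (j + 5) * (j + 4) * (j + 3) := by
  have h := Cfsg.Agent.Lib.helper6.card_PSL (F := F) 2 (by norm_num)
  rw [hF] at h
  rw [Fin.prod_univ_two] at h
  have e1 : j + 4 - 1 = j + 3 := by omega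
  have e2 : (j + 4) ^ 2 - (j + 4) ^ ((0 : Fin 2) : ℕ) = (j + 5) * (j + 3) := by
    have : (j + 4) ^ 2 = (j + 5) * (j + 3) + 1 := by ring
    simp only [Fin.val_zero, pow_zero]
    omega
  have e3 : (j + 4) ^ 2 - (j + 4) ^ ((1 : Fin 2) : ℕ) = (j + 4) * (j + 3) := by
    have : (j + 4) ^ 2 = (j + 4) * (j + 3) + (j + 4) := by ring
    simp only [Fin.val_one, pow_one]
    omega
  rw [e1, e2, e3] at h
  have h' : (j + 3) * (Nat.gcd 2 (j + 3) * Nat.card (Matrix.ProjectiveSpecialLinearGroup (Fin 2) F)) =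
      (j + 3) * ((j + 5) * (j + 4) * (j + 3)) := by
    rw [← mul_assoc, mul_comm (j + 3) (Nat.gcd 2 (j + 3)), mul_assoc, h]; ring
  exact Nat.eq_of_mul_eq_mul_left (by omega) h'

/-- Q1: the two groups of the conclusion of S0999 have order `> p^3 / 3`. -/
theorem size_bound {H : Type*} [Group H] [Finite H] (p : ℕ) (hp : p.Prime)
    (h : (∃ (F : Type) (_ : Field F) (_ : Fintype F), Fintype.card F = p ∧ 3 < p ∧
        Nonempty (H ≃* Matrix.ProjectiveSpecialLinearGroup (Fin 2) F)) ∨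
      (∃ (m : ℕ) (F : Type) (_ : Field F) (_ : Fintype F), Fintype.card F = 2 ^ m ∧
        p = 2 ^ m + 1 ∧ 3 < p ∧
        Nonempty (H ≃* Matrix.ProjectiveSpecialLinearGroup (Fin 2) F))) :
    p ^ 3 < 3 * Nat.card H := by
  rcases h with ⟨F, hF1, hF2, hcard, h3, ⟨e⟩⟩ | ⟨m, F, hF1, hF2, hcard, hpm, h3, ⟨e⟩⟩
  · rw [Nat.card_congr e.toEquiv]
    obtain ⟨j, rfl⟩ : ∃ j, p = j + 4 := ⟨p - 4, by omega⟩
    have hc := helper48_card_psl2 j hcard
    -- `p` is odd
    have hodd : (j + 4) % 2 = 1 := by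
      rcases hp.eq_two_or_odd with h2 | h2
      · omega
      · exact h2
    have hg : Nat.gcd 2 (j + 3) = 2 := by
      have : 2 ∣ j + 3 := by omega
      exact Nat.gcd_eq_left this
    rw [hg] at hc
    nlinarith [hc, sq_nonneg (j : ℤ)]
  · rw [Nat.card_congr e.toEquiv]
    -- `q = 2 ^ m ≥ 4`
    have hm2 : 2 ≤ m := by
      by_contra hcon
      have : m = 0 ∨ m = 1 := by omega
      rcases this with rfl | rfl <;> simp at hpm <;> omega
    obtain ⟨j, hj⟩ : ∃ j, 2 ^ m = j + 4 := by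
      have : 2 ^ 2 ≤ 2 ^ m := Nat.pow_le_pow_right (by norm_num) hm2
      exact ⟨2 ^ m - 4, by omega⟩
    rw [hj] at hcard hpm
    have hc := helper48_card_psl2 j hcard
    have heven : 2 ∣ j + 4 := by
      rw [← hj]
      exact dvd_pow_self 2 (by omega)
    have hg : Nat.gcd 2 (j + 3) = 1 := by
      have hodd : (j + 3) % 2 = 1 := by omega
      have : Nat.Coprime 2 (j + 3) := by
        rw [Nat.Prime.coprime_iff_not_dvd Nat.prime_two]
        omega
      exact this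
    rw [hg, one_mul] at hc
    rw [hc, hpm]
    nlinarith [sq_nonneg (j : ℤ)]

end Cfsg.Agent.Lib.helper21.BRP
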