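import Mathlib

set_option autoImplicit false

namespace Cfsg.Agent.Lib.helper21.BRP

/-- Q3 -/
theorem sylow_card_of_small {G : Type*} [Group G] [Finite G] (p : ℕ) [Fact p.Prime]
    (hdvd : p ∣ Nat.card G) (hbig : Nat.card G < p ^ 3) (P : Sylow p G)
    (hP : ¬ (P : Subgroup G).Normal) : ¬ p ^ 2 ∣ Nat.card G := by
  intro h2
  apply hP
  have hp : p.Prime := Fact.out
  have hpos : 0 < Nat.card G := Nat.card_pos
  -- `p ^ 2` divides the order of `P`
  have hPcard : p ^ 2 ∣ Nat.card P := by
    rw [Sylow.card_eq_multiplicity]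
    apply pow_dvd_pow
    exact (hp.pow_dvd_iff_le_factorization hpos.ne').mp h2
  have hPle : p ^ 2 ≤ Nat.card P := Nat.le_of_dvd Nat.card_pos hPcard
  have hidx : (P : Subgroup G).index * Nat.card P = Nat.card G := Subgroup.index_mul_card _
  have hidx_lt : (P : Subgroup G).index < p := by
    by_contra hcon
    rw [not_lt] at hcon
    have : p * p ^ 2 ≤ (P : Subgroup G).index * Nat.card P := Nat.mul_le_mul hcon hPle
    rw [hidx] at this
    have h3 : p * p ^ 2 = p ^ 3 := by ring
    omega
  have hn_dvd : Nat.card (Sylow p G) ∣ (P : Subgroup G).index := Sylow.card_dvd_index P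
  have hidx_pos : 0 < (P : Subgroup G).index := by
    rcases Nat.eq_zero_or_pos (P : Subgroup G).index with h0 | h0
    · rw [h0, zero_mul] at hidx; omega
    · exact h0
  have hn_le : Nat.card (Sylow p G) ≤ (P : Subgroup G).index := Nat.le_of_dvd hidx_pos hn_dvd
  have hn_mod : Nat.card (Sylow p G) ≡ 1 [MOD p] := card_sylow_modEq_one p G
  have hn1 : Nat.card (Sylow p G) = 1 := by
    have hlt : Nat.card (Sylow p G) < p := lt_of_le_of_lt hn_le hidx_lt
    have h1 : Nat.card (Sylow p G) % p = 1 % p := hn_mod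
    rw [Nat.mod_eq_of_lt hlt, Nat.mod_eq_of_lt hp.one_lt] at h1
    exact h1
  have hsub : Subsingleton (Sylow p G) := (Nat.card_eq_one_iff_unique.mp hn1).1
  exact Sylow.normal_of_subsingleton P

end Cfsg.Agent.Lib.helper21.BRP
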