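import Mathlib

set_option autoImplicit false

namespace Cfsg.Agent.Lib.helper21.BRP

/-- Q7 -/
theorem two_eq_zero_of_card {F : Type*} [Field F] [Fintype F] (m : ℕ) (hm : 1 ≤ m)
    (hF : Fintype.card F = 2 ^ m) : (2 : F) = 0 := by
  have h := Nat.cast_card_eq_zero F
  rw [hF] at h
  push_cast at h
  exact (pow_eq_zero_iff (by omega)).mp h

end Cfsg.Agent.Lib.helper21.BRP
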