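import Mathlib
import Cfsg.Agent.Lib.helper24.SfoDefs

set_option autoImplicit false

namespace Cfsg.Agent.Lib.helper24

open Module Matrix Cfsg.Geo

/-- OORB core: orbit–stabiliser for the isometry group acting on `{Q = c}`, from transitivity. -/
theorem h48_sfo_card_step_core {F : Type*} [Field F] {n : ℕ}
    (Q : (Fin n → F) → F) (c : F) (v : Fin n → F) (hv : Q v = c)
    (htrans : ∀ w : Fin n → F, Q w = c →
      ∃ g ∈ sfoIsom Q, (g : Matrix (Fin n) (Fin n) F) *ᵥ v = w) :
    Nat.card (sfoIsom Q) = sfoCount Q c *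
      Nat.card {g : GL (Fin n) F // g ∈ sfoIsom Q ∧
        (g : Matrix (Fin n) (Fin n) F) *ᵥ v = v} := by
  classical
  choose γ hγ hγv using htrans
  have key : sfoIsom Q ≃ {w : Fin n → F // Q w = c} ×
      {g : GL (Fin n) F // g ∈ sfoIsom Q ∧ (g : Matrix (Fin n) (Fin n) F) *ᵥ v = v} :=
    { toFun := fun g =>
        (⟨((g : GL (Fin n) F) : Matrix (Fin n) (Fin n) F) *ᵥ v, by
            have := g.2 v
            rw [this, hv]⟩,
          ⟨(γ _ (by have := g.2 v; rw [this, hv]))⁻¹ * (g : GL (Fin n) F), by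
            refine ⟨(sfoIsom Q).mul_mem ((sfoIsom Q).inv_mem (hγ _ _)) g.2, ?_⟩
            have hinv : ∀ (a : GL (Fin n) F) (w : Fin n → F),
                (a : Matrix (Fin n) (Fin n) F) *ᵥ v = w →
                ((a⁻¹ : GL (Fin n) F) : Matrix (Fin n) (Fin n) F) *ᵥ w = v := by
              intro a w haw
              rw [← haw, Matrix.mulVec_mulVec, ← Units.val_mul, inv_mul_cancel, Units.val_one,
                Matrix.one_mulVec]
            rw [Units.val_mul, ← Matrix.mulVec_mulVec]
            exact hinv _ _ (hγv _ _)⟩)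
      invFun := fun p => ⟨γ p.1.1 p.1.2 * p.2.1, (sfoIsom Q).mul_mem (hγ _ _) p.2.2.1⟩
      left_inv := by
        intro g
        apply Subtype.ext
        simp
      right_inv := by
        rintro ⟨⟨w, hw⟩, ⟨s, hs, hsv⟩⟩
        have hw' : ((γ w hw * s : GL (Fin n) F) : Matrix (Fin n) (Fin n) F) *ᵥ v = w := by
          rw [Units.val_mul, ← Matrix.mulVec_mulVec, hsv, hγv]
        apply Prod.ext
        · apply Subtype.ext
          exact hw'
        · apply Subtype.ext
          show (γ _ _)⁻¹ * (γ w hw * s) = s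
          have : ∀ (w' : Fin n → F) (hw'' : Q w' = c), w' = w →
              (γ w' hw'')⁻¹ * (γ w hw * s) = s := by
            intro w' hw'' e
            subst e
            simp
          exact this _ _ hw' }
  rw [Nat.card_congr key, Nat.card_prod]
  rfl

end Cfsg.Agent.Lib.helper24
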