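import Mathlib
import Cfsg.Agent.Lib.helper24.SfoDefs
import Cfsg.Agent.Lib.helper48.SfoOORBc
import Cfsg.Agent.Lib.helper71.SfoOSTAB
import Cfsg.Agent.Lib.helper77.SfoOTRANS

set_option autoImplicit false

namespace Cfsg.Agent.Lib.helper24

open Module Matrix Cfsg.Geo

/-- OORB -/
theorem sfo_card_step {F : Type*} [Field F] [Fintype F] {m : ℕ} (h2 : (2 : F) ≠ 0)
    (Q : (Fin (m + 1) → F) → F) (hQ : IsNondegenerateQuadraticForm Q) (c : F) (hc : c ≠ 0)
    (hpos : 0 < sfoCount Q c) :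
    ∃ Q' : (Fin m → F) → F, IsNondegenerateQuadraticForm Q' ∧
      Nat.card (sfoIsom Q) = sfoCount Q c * Nat.card (sfoIsom Q') := by
  have hne : Nonempty {v : Fin (m + 1) → F // Q v = c} := by
    by_contra hcon
    rw [not_nonempty_iff] at hcon
    have : sfoCount Q c = 0 := by
      unfold sfoCount
      exact Nat.card_of_isEmpty
    omega
  obtain ⟨⟨v, hv⟩⟩ := hne
  obtain ⟨Q', hQ', hcard⟩ := sfo_isom_stab h2 Q hQ v (by rw [hv]; exact hc)
  refine ⟨Q', hQ', ?_⟩
  rw [← hcard]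
  exact h48_sfo_card_step_core Q c v hv (fun w hw =>
    sfo_isom_transitive h2 Q hQ v w (by rw [hv, hw]) (by rw [hv]; exact hc))

end Cfsg.Agent.Lib.helper24
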