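import Mathlib
import Cfsg.Agent.Lib.helper69.SNDefs
import Cfsg.Agent.Lib.helper69.SNStruct

/-! S4073 split project, piece CENT-NE (helper48). -/

set_option autoImplicit false

namespace Cfsg.Agent.Lib.helper48.SNG

open Cfsg.Agent.Lib.helper69.SNG

universe u v

/-- `h^n b = z^n b h^n` when `h b = z b h` and `z` commutes with `h`. -/
theorem helper48_pow_left_rel {G : Type u} [Group G] (h b z : G) (hrel : h * b = z * b * h)
    (hzh : h * z = z * h) (n : ℕ) : h ^ n * b = z ^ n * b * h ^ n := by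
  induction n with
  | zero => simp
  | succ n ih =>
    rw [pow_succ', mul_assoc, ih]
    have hc : h * z ^ n = z ^ n * h := (Commute.pow_right (show Commute h z from hzh) n).eq
    calc h * (z ^ n * b * h ^ n) = (h * z ^ n) * b * h ^ n := by simp only [mul_assoc]
      _ = z ^ n * (h * b) * h ^ n := by rw [hc]; simp only [mul_assoc]
      _ = z ^ n * (z * b * h) * h ^ n := by rw [hrel]
      _ = z ^ (n + 1) * b * (h * h ^ n) := by rw [pow_succ]; simp only [mul_assoc]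

/-- `h b^n = z^n b^n h` when `h b = z b h` and `z` commutes with `b`. -/
theorem helper48_pow_right_rel {G : Type u} [Group G] (h b z : G) (hrel : h * b = z * b * h)
    (hzb : z * b = b * z) (n : ℕ) : h * b ^ n = z ^ n * b ^ n * h := by
  induction n with
  | zero => simp
  | succ n ih =>
    have hc : b ^ n * z = z * b ^ n := (Commute.pow_left (show Commute b z from hzb.symm) n).eq
    calc h * b ^ (n + 1) = (h * b ^ n) * b := by rw [pow_succ]; simp only [mul_assoc]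
      _ = z ^ n * b ^ n * (h * b) := by rw [ih]; simp only [mul_assoc]
      _ = z ^ n * (b ^ n * z) * b * h := by rw [hrel]; simp only [mul_assoc]
      _ = z ^ n * (z * b ^ n) * b * h := by rw [hc]
      _ = z ^ (n + 1) * b ^ (n + 1) * h := by rw [pow_succ, pow_succ]; simp only [mul_assoc]

/-- **[CENT-NE]** -/
theorem sn_center_prime_index_ne {C : Type u} [Group C] [Finite C] (h : SN C)
    (A : Subgroup C) [hAn : A.Normal] (hA : IsMulCommutative A) (hAi : A.index.Prime)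
    (x : C) (hx : x ∈ Subgroup.center C) (hxo : (orderOf x).Prime)
    (hne : A.index ≠ orderOf x) : IsMulCommutative C := by
  classical
  by_contra hna
  obtain ⟨ℓ, hℓ⟩ : ∃ ℓ : ℕ, ℓ = A.index := ⟨_, rfl⟩
  obtain ⟨p, hp⟩ : ∃ p : ℕ, p = orderOf x := ⟨_, rfl⟩
  rw [← hℓ] at hAi hne
  rw [← hp] at hxo hne
  let hAc : CommGroup A :=
    { (inferInstance : Group A) with mul_comm := fun a b => hA.is_comm.comm a b }
  let V : C →* A := MonoidHom.transfer (MonoidHom.id A)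
  have hVx : V x = ⟨x ^ A.index, A.pow_index_mem x⟩ := by
    have key : ∀ (k : ℕ) (g₀ : C), g₀⁻¹ * x ^ k * g₀ ∈ A → g₀⁻¹ * x ^ k * g₀ = x ^ k := by
      intro k g₀ _
      have h1 : x ^ k ∈ Subgroup.center C := Subgroup.pow_mem _ hx k
      rw [Subgroup.mem_center_iff] at h1
      rw [mul_assoc, ← h1 g₀, inv_mul_cancel_left]
    exact MonoidHom.transfer_eq_pow (MonoidHom.id A) x key
  obtain ⟨N, hN⟩ : ∃ N : ℕ, N = Nat.card A := ⟨_, rfl⟩
  obtain ⟨a, ha⟩ : ∃ a : ℕ, a = N.factorization p := ⟨_, rfl⟩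
  obtain ⟨m, hm⟩ : ∃ m : ℕ, m = N / p ^ a := ⟨_, rfl⟩
  have hNpos : N ≠ 0 := by rw [hN]; exact Nat.card_pos.ne'
  have hpm : p ^ a * m = N := by rw [hm, ha]; exact Nat.ordProj_mul_ordCompl_eq_self N p
  have hpndvd : ¬ p ∣ m := by rw [hm, ha]; exact Nat.not_dvd_ordCompl hxo hNpos
  let ψ : C →* A := (powMonoidHom m).comp V
  have hψ : ∀ c : C, ψ c = V c ^ m := fun c => rfl
  have hxH : x ∉ ψ.ker := by
    intro hmem
    rw [MonoidHom.mem_ker, hψ, hVx] at hmem
    have h1 : (x ^ A.index) ^ m = 1 := by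
      have := congrArg (fun t : A => (t : C)) hmem
      simpa using this
    rw [← pow_mul, ← hℓ] at h1
    have h2 : p ∣ ℓ * m := by rw [hp]; exact orderOf_dvd_of_pow_eq_one h1
    rcases (Nat.Prime.dvd_mul hxo).mp h2 with h3 | h3
    · exact hne ((Nat.prime_dvd_prime_iff_eq hxo hAi).mp h3).symm
    · exact hpndvd h3
  have hHtop : ψ.ker ≠ ⊤ := by
    intro htop
    apply hxH
    rw [htop]
    exact Subgroup.mem_top x
  have hHcomm : IsMulCommutative ψ.ker := h.normal_comm ψ.ker hHtop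
  have commH := (comm_iff ψ.ker).mp hHcomm
  have commA := (comm_iff A).mp hA
  have hpowH : ∀ c : C, c ^ (p ^ a) ∈ ψ.ker := by
    intro c
    rw [MonoidHom.mem_ker, map_pow, hψ, ← pow_mul, mul_comm, hpm, hN]
    exact pow_card_eq_one'
  have hpowA : ∀ c : C, c ^ ℓ ∈ A := by
    intro c
    rw [hℓ]
    exact A.pow_index_mem c
  have hcop : Nat.Coprime (p ^ a) ℓ :=
    Nat.Coprime.pow_left a ((Nat.coprime_primes hxo hAi).mpr (Ne.symm hne))
  -- elements of `ker ψ` commute with elements of `A`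
  have hHA : ∀ h' ∈ ψ.ker, ∀ b ∈ A, h' * b = b * h' := by
    intro h' hh' b hb
    obtain ⟨z, hz⟩ : ∃ z : C, z = h' * b * h'⁻¹ * b⁻¹ := ⟨_, rfl⟩
    have hzA : z ∈ A := by
      rw [hz]
      exact A.mul_mem (hAn.conj_mem b hb h') (A.inv_mem hb)
    have hzH : z ∈ ψ.ker := by
      have h1 : z = h' * (b * h'⁻¹ * b⁻¹) := by rw [hz]; group
      rw [h1]
      exact ψ.ker.mul_mem hh' ((inferInstance : ψ.ker.Normal).conj_mem _ (ψ.ker.inv_mem hh') b)
    have hzh : h' * z = z * h' := commH h' hh' z hzH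
    have hzb : z * b = b * z := commA z hzA b hb
    have hrel : h' * b = z * b * h' := by rw [hz]; group
    have e1 := helper48_pow_left_rel h' b z hrel hzh ℓ
    have c1 : h' ^ ℓ * b = b * h' ^ ℓ := commA _ (hpowA h') b hb
    have hz1 : z ^ ℓ = 1 := by
      have h2 : z ^ ℓ * (b * h' ^ ℓ) = 1 * (b * h' ^ ℓ) := by
        rw [one_mul, ← mul_assoc, ← e1, c1]
      exact mul_right_cancel h2
    have e2 := helper48_pow_right_rel h' b z hrel hzb (p ^ a)
    have c2 : h' * b ^ (p ^ a) = b ^ (p ^ a) * h' := commH h' hh' _ (hpowH b)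
    have hz2 : z ^ (p ^ a) = 1 := by
      have h2 : z ^ (p ^ a) * (b ^ (p ^ a) * h') = 1 * (b ^ (p ^ a) * h') := by
        rw [one_mul, ← mul_assoc, ← e2, c2]
      exact mul_right_cancel h2
    have hd : orderOf z ∣ 1 := by
      have h3 := Nat.dvd_gcd (orderOf_dvd_of_pow_eq_one hz2) (orderOf_dvd_of_pow_eq_one hz1)
      rwa [hcop] at h3
    have hz0 : z = 1 := orderOf_eq_one_iff.mp (Nat.dvd_one.mp hd)
    rw [hrel, hz0, one_mul]
  -- every element is a product
  have hdec : ∀ c : C, ∃ h' ∈ ψ.ker, ∃ b ∈ A, c = h' * b := by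
    intro c
    have hb := Nat.gcd_eq_gcd_ab (p ^ a) ℓ
    rw [hcop] at hb
    refine ⟨(c ^ (p ^ a)) ^ (Nat.gcdA (p ^ a) ℓ), ψ.ker.zpow_mem (hpowH c) _,
      (c ^ ℓ) ^ (Nat.gcdB (p ^ a) ℓ), A.zpow_mem (hpowA c) _, ?_⟩
    rw [← zpow_natCast c (p ^ a), ← zpow_natCast c ℓ, ← zpow_mul, ← zpow_mul, ← zpow_add, ← hb]
    simp
  apply hna
  rw [comm_iff_top]
  intro c c'
  obtain ⟨h₁, hh₁, b₁, hb₁, rfl⟩ := hdec c
  obtain ⟨h₂, hh₂, b₂, hb₂, rfl⟩ := hdec c'
  have k1 : Commute h₁ h₂ := commH h₁ hh₁ h₂ hh₂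
  have k2 : Commute h₁ b₂ := hHA h₁ hh₁ b₂ hb₂
  have k3 : Commute b₁ h₂ := (hHA h₂ hh₂ b₁ hb₁).symm
  have k4 : Commute b₁ b₂ := commA b₁ hb₁ b₂ hb₂
  exact (Commute.mul_left (Commute.mul_right k1 k2) (Commute.mul_right k3 k4)).eq

end Cfsg.Agent.Lib.helper48.SNG
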