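import Mathlib
import Cfsg.Agent.Lib.helper24.SfuDefs

/-!
# S5982 piece UMONO (helper48), core form: `sfu_mono_conj` with the conclusion of ONB as a
hypothesis; shared lemmas on similarities of a unitary form.
-/

set_option autoImplicit false

namespace Cfsg.Agent.Lib.helper24

open Module Matrix Cfsg.Geo

/-- semilinearity in the second argument -/
theorem h48_sfu_smul_right {F : Type*} [Field F] {n : ℕ} (q₀ : ℕ)
    (f : (Fin n → F) → (Fin n → F) → F) (hf : IsUnitaryFormPow q₀ f) (a : F)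
    (u w : Fin n → F) : f u (a • w) = a ^ q₀ * f u w := by
  rw [hf.herm u (a • w), hf.smul_left, mul_pow, ← hf.herm u w]

/-- the linear functional `u ↦ f u w` -/
def h48_sfuL {F : Type*} [Field F] {n : ℕ} (q₀ : ℕ) (f : (Fin n → F) → (Fin n → F) → F)
    (hf : IsUnitaryFormPow q₀ f) (w : Fin n → F) : (Fin n → F) →ₗ[F] F where
  toFun u := f u w
  map_add' x y := hf.add_left x y w
  map_smul' c x := by
    rw [hf.smul_left]; rfl

theorem h48_sfu_zero_left {F : Type*} [Field F] {n : ℕ} (q₀ : ℕ)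
    (f : (Fin n → F) → (Fin n → F) → F) (hf : IsUnitaryFormPow q₀ f) (w : Fin n → F) :
    f 0 w = 0 := by
  have h := hf.smul_left 0 0 w
  rw [zero_smul, zero_mul] at h
  exact h

/-- two matrices agreeing on a basis are equal -/
theorem h48_matrix_ext_basis {F : Type*} [Field F] {n : ℕ} (b : Basis (Fin n) F (Fin n → F))
    (M N : Matrix (Fin n) (Fin n) F) (h : ∀ j, M *ᵥ b j = N *ᵥ b j) : M = N := by
  apply Matrix.toLin'.injective
  apply b.ext
  intro j
  rw [Matrix.toLin'_apply, Matrix.toLin'_apply, h j]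

/-- **Similarity from a basis**: a linear map scaling the form by `c` (with `c ^ q₀ = c`) on
a basis scales it everywhere. -/
theorem h48_sfu_sim_of_basis {F : Type*} [Field F] {n : ℕ} (q₀ : ℕ)
    (f : (Fin n → F) → (Fin n → F) → F) (hf : IsUnitaryFormPow q₀ f) {ι : Type*}
    (B : Basis ι F (Fin n → F)) (T : (Fin n → F) →ₗ[F] (Fin n → F)) (c : F) (hc : c ^ q₀ = c)
    (hB : ∀ i j, f (T (B i)) (T (B j)) = c * f (B i) (B j)) :
    ∀ u w, f (T u) (T w) = c * f u w := by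
  have s1 : ∀ j u, f (T u) (T (B j)) = c * f u (B j) := by
    intro j u
    have hL : (h48_sfuL q₀ f hf (T (B j))).comp T = c • h48_sfuL q₀ f hf (B j) := by
      apply B.ext
      intro i
      show f (T (B i)) (T (B j)) = c * f (B i) (B j)
      exact hB i j
    exact LinearMap.congr_fun hL u
  have s2 : ∀ j u, f (T (B j)) (T u) = c * f (B j) u := by
    intro j u
    rw [hf.herm (T (B j)) (T u), s1 j u, mul_pow, hc, ← hf.herm (B j) u]
  intro u w
  have hL : (h48_sfuL q₀ f hf (T w)).comp T = c • h48_sfuL q₀ f hf w := by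
    apply B.ext
    intro i
    show f (T (B i)) (T w) = c * f (B i) w
    exact s2 i w
  exact LinearMap.congr_fun hL u

/-- a matrix scaling the form by `c ≠ 0` is invertible -/
theorem h48_sfu_det_ne_zero {F : Type*} [Field F] {n : ℕ} (q₀ : ℕ)
    (f : (Fin n → F) → (Fin n → F) → F) (hf : IsUnitaryFormPow q₀ f)
    (G : Matrix (Fin n) (Fin n) F) (c : F) (hc : c ≠ 0)
    (hG : ∀ u w, f (G *ᵥ u) (G *ᵥ w) = c * f u w) : G.det ≠ 0 := by
  intro hdet
  obtain ⟨v, hv, hGv⟩ := Matrix.exists_mulVec_eq_zero_iff.2 hdet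
  obtain ⟨w, hw⟩ := (hf.nondegenerate v hv).2
  have h1 := hG v w
  rw [hGv, h48_sfu_zero_left q₀ f hf] at h1
  rcases mul_eq_zero.1 h1.symm with h | h
  · exact hc h
  · exact hw h

/-- packaging: a matrix scaling the form by `c ≠ 0` gives an element of the similarity group -/
theorem h48_sfu_conj_of_sim {F : Type*} [Field F] {n : ℕ} (q₀ : ℕ)
    (f : (Fin n → F) → (Fin n → F) → F) (hf : IsUnitaryFormPow q₀ f)
    (x P G : Matrix (Fin n) (Fin n) F) (c : F) (hc : c ≠ 0)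
    (hG : ∀ u w, f (G *ᵥ u) (G *ᵥ w) = c * f u w) (hP : P.det = 1) (hxP : x * P = P * G) :
    SfuConj f x := by
  have hdet := h48_sfu_det_ne_zero q₀ f hf G c hc hG
  refine ⟨P, Matrix.GeneralLinearGroup.mkOfDetNeZero G hdet, hP, ?_, hxP⟩
  exact ⟨Units.mk0 c hc, fun u w => hG u w⟩

/-- UMONO, core form: the conclusion of ONB is a hypothesis. -/
theorem h48_sfu_mono_conj_core {F : Type*} [Field F] [Fintype F] {n : ℕ} (q₀ : ℕ)
    (hcard : Fintype.card F = q₀ ^ 2) (f : (Fin n → F) → (Fin n → F) → F)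
    (hf : IsUnitaryFormPow q₀ f)
    (hONB : ∃ e : Fin n → (Fin n → F), LinearIndependent F e ∧
      ∀ i j, f (e i) (e j) = if i = j then 1 else 0)
    (x : Matrix (Fin n) (Fin n) F) {ι : Type} [Fintype ι] [DecidableEq ι]
    (b : Basis ι F (Fin n → F)) (π : ι → ι) (hπ : ∀ i, π (π i) = i) (lam : F) (hlam : lam ≠ 0)
    (hx : ∀ i, x *ᵥ b i = lam • b (π i))
    (hw : ∀ t : F, t ≠ 0 → ∃ w : ι → F, (∀ i, w i ≠ 0) ∧ (∀ i, w (π i) = w i) ∧ ∏ i, w i = t) :
    SfuConj f x := by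
  classical
  obtain ⟨e0, he0li, he0⟩ := hONB
  have hcardn : Fintype.card (Fin n) = Module.finrank F (Fin n → F) := by simp
  have hspan := he0li.span_eq_top_of_card_eq_finrank' hcardn
  obtain ⟨E, hE⟩ : ∃ E : Basis (Fin n) F (Fin n → F), ∀ i, E i = e0 i :=
    ⟨Basis.mk he0li (le_of_eq hspan.symm), fun i => by simp⟩
  have hEf : ∀ i j, f (E i) (E j) = if i = j then 1 else 0 := by
    intro i j
    rw [hE, hE]; exact he0 i j
  have hcι : Fintype.card ι = n := by
    have h1 := Module.finrank_eq_card_basis b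
    rw [Module.finrank_fin_fun] at h1
    exact h1.symm
  obtain ⟨e⟩ : Nonempty (ι ≃ Fin n) := ⟨Fintype.equivFinOfCardEq hcι⟩
  have hD₀ : IsUnit (E.det (b.reindex e)) := Basis.isUnit_det _ _
  obtain ⟨w, hw0, hwπ, hwprod⟩ := hw (E.det (b.reindex e))⁻¹ (inv_ne_zero hD₀.ne_zero)
  have hwu : ∀ i, IsUnit (w i) := fun i => isUnit_iff_ne_zero.2 (hw0 i)
  obtain ⟨b₂, hb₂⟩ : ∃ b₂ : Basis ι F (Fin n → F), b₂ = b.isUnitSMul hwu := ⟨_, rfl⟩
  have hb₂a : ∀ i, b₂ i = w i • b i := by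
    intro i
    rw [hb₂, Basis.isUnitSMul_apply]
  have hx₂ : ∀ i, x *ᵥ b₂ i = lam • b₂ (π i) := by
    intro i
    rw [hb₂a, hb₂a, Matrix.mulVec_smul, hx, hwπ]
    module
  obtain ⟨φ, hφ⟩ : ∃ φ : (Fin n → F) ≃ₗ[F] (Fin n → F), φ = E.equiv b₂ e.symm := ⟨_, rfl⟩
  have hφB : ∀ j, φ (E j) = b₂ (e.symm j) := by
    intro j
    rw [hφ, Basis.equiv_apply]
  obtain ⟨P, hP⟩ : ∃ P : Matrix (Fin n) (Fin n) F, P = LinearMap.toMatrix' φ.toLinearMap :=
    ⟨_, rfl⟩
  have hPv : ∀ v, P *ᵥ v = φ v := by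
    intro v
    rw [hP, ← Matrix.toLin'_apply, Matrix.toLin'_toMatrix']
    rfl
  have hPdet : P.det = 1 := by
    rw [hP, LinearMap.det_toMatrix']
    have h1 := Basis.det_comp E φ.toLinearMap E
    rw [Basis.det_self, mul_one] at h1
    rw [← h1]
    have h2 : (φ.toLinearMap ∘ E : Fin n → (Fin n → F)) =
        fun j => w (e.symm j) • (b.reindex e) j := by
      funext j
      simp [hφB, hb₂a, Basis.reindex_apply]
    rw [h2, AlternatingMap.map_smul_univ, smul_eq_mul]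
    have h3 : ∏ j, w (e.symm j) = ∏ i, w i := Equiv.prod_comp e.symm w
    rw [h3, hwprod, inv_mul_cancel₀ hD₀.ne_zero]
  -- the permutation of `Fin n`
  obtain ⟨σ, hσ⟩ : ∃ σ : Fin n ≃ Fin n, ∀ j, σ j = e (π (e.symm j)) :=
    ⟨⟨fun j => e (π (e.symm j)), fun j => e (π (e.symm j)), fun j => by simp [hπ],
      fun j => by simp [hπ]⟩, fun j => rfl⟩
  obtain ⟨T, hT⟩ : ∃ T : (Fin n → F) →ₗ[F] (Fin n → F), ∀ j, T (E j) = lam • E (σ j) :=
    ⟨E.constr F (fun j => lam • E (σ j)), fun j => by simp⟩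
  have hlamq : lam ^ (q₀ ^ 2) = lam := by rw [← hcard]; exact FiniteField.pow_card lam
  have hc : (lam * lam ^ q₀) ^ q₀ = lam * lam ^ q₀ := by
    rw [mul_pow, ← pow_mul, ← sq, hlamq, mul_comm]
  have hc0 : lam * lam ^ q₀ ≠ 0 := mul_ne_zero hlam (pow_ne_zero _ hlam)
  have hsim : ∀ u v, f (T u) (T v) = (lam * lam ^ q₀) * f u v := by
    apply h48_sfu_sim_of_basis q₀ f hf E T _ hc
    intro i j
    rw [hT, hT, hf.smul_left, h48_sfu_smul_right q₀ f hf, hEf, hEf]
    by_cases hij : i = j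
    · subst hij; simp
    · have hne : σ i ≠ σ j := fun h => hij (σ.injective h)
      simp [hij, hne]
  obtain ⟨G, hG⟩ : ∃ G : Matrix (Fin n) (Fin n) F, G = LinearMap.toMatrix' T := ⟨_, rfl⟩
  have hGv : ∀ v, G *ᵥ v = T v := by
    intro v
    rw [hG, ← Matrix.toLin'_apply, Matrix.toLin'_toMatrix']
  refine h48_sfu_conj_of_sim q₀ f hf x P G (lam * lam ^ q₀) hc0 ?_ hPdet ?_
  · intro u v
    rw [hGv, hGv]; exact hsim u v
  · apply h48_matrix_ext_basis E
    intro j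
    rw [← Matrix.mulVec_mulVec, ← Matrix.mulVec_mulVec, hPv, hφB, hx₂, hGv, hT, hPv, map_smul,
      hφB, hσ, Equiv.symm_apply_apply]

end Cfsg.Agent.Lib.helper24

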