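import Mathlib
import Cfsg.Agent.Lib.helper24.SfuDefs
import Cfsg.Agent.Lib.helper46.SfuONB
import Cfsg.Agent.Lib.helper48.SfuUMONOc

/-!
# S5982 piece UMONO (helper48): `sfu_mono_conj`
-/

set_option autoImplicit false

namespace Cfsg.Agent.Lib.helper24

open Module Matrix Cfsg.Geo

/-- UMONO -/
theorem sfu_mono_conj {F : Type*} [Field F] [Fintype F] {n : ℕ} (q₀ : ℕ)
    (hcard : Fintype.card F = q₀ ^ 2) (f : (Fin n → F) → (Fin n → F) → F)
    (hf : IsUnitaryFormPow q₀ f)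
    (x : Matrix (Fin n) (Fin n) F) {ι : Type} [Fintype ι] [DecidableEq ι]
    (b : Basis ι F (Fin n → F)) (π : ι → ι) (hπ : ∀ i, π (π i) = i) (lam : F) (hlam : lam ≠ 0)
    (hx : ∀ i, x *ᵥ b i = lam • b (π i))
    (hw : ∀ t : F, t ≠ 0 → ∃ w : ι → F, (∀ i, w i ≠ 0) ∧ (∀ i, w (π i) = w i) ∧ ∏ i, w i = t) :
    SfuConj f x :=
  h48_sfu_mono_conj_core q₀ hcard f hf (sfu_onb q₀ hcard f hf) x b π hπ lam hlam hx hw

end Cfsg.Agent.Lib.helper24

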