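import Mathlib
import Cfsg.Agent.Lib.helper24.SfuDefs
import Cfsg.Agent.Lib.helper48.SfuUMONOc

/-!
# S5982 piece UPAIR (helper48), core form: `sfu_pair_conj` with the conclusion of UBAS as a
hypothesis.
-/

set_option autoImplicit false

namespace Cfsg.Agent.Lib.helper24

open Module Matrix Cfsg.Geo

/-- Two functions with fibres of the same size differ by a permutation of the source. -/
theorem h48_exists_perm_of_fiber_card {ι α : Type*} [Fintype ι] [DecidableEq α] (f g : ι → α)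
    (h : ∀ c, (Finset.univ.filter (fun j => f j = c)).card
      = (Finset.univ.filter (fun j => g j = c)).card) :
    ∃ τ : Equiv.Perm ι, ∀ j, g (τ j) = f j := by
  classical
  have e : ∀ c, {j // f j = c} ≃ {j // g j = c} := fun c =>
    Fintype.equivOfCardEq (by
      rw [Fintype.card_subtype, Fintype.card_subtype]
      exact h c)
  refine ⟨(Equiv.sigmaFiberEquiv f).symm.trans
    ((Equiv.sigmaCongrRight e).trans (Equiv.sigmaFiberEquiv g)), fun j => ?_⟩
  exact ((e (f j)) ⟨j, rfl⟩).2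

/-- An involution of the index set realising an involution `θ` of the values. -/
theorem h48_exists_invol {ι α : Type*} [Fintype ι] [DecidableEq α] (ℓ : ι → α) (θ : α → α)
    (hθ : ∀ a, θ (θ a) = a)
    (h : ∀ c, (Finset.univ.filter (fun j => ℓ j = c)).card
      = (Finset.univ.filter (fun j => ℓ j = θ c)).card)
    (r : α → ℕ) (hr : Function.Injective r) :
    ∃ π : ι → ι, (∀ j, π (π j) = j) ∧ ∀ j, ℓ (π j) = θ (ℓ j) := by
  classical
  obtain ⟨τ, hτ⟩ := h48_exists_perm_of_fiber_card (fun j => θ (ℓ j)) ℓ (by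
    intro c
    have e1 : (Finset.univ.filter (fun j => θ (ℓ j) = c))
        = Finset.univ.filter (fun j => ℓ j = θ c) := by
      apply Finset.filter_congr
      intro j _
      constructor
      · intro h1
        rw [← h1, hθ]
      · intro h1
        rw [h1, hθ]
    rw [e1]; exact (h c).symm)
  have hτs : ∀ j, ℓ (τ.symm j) = θ (ℓ j) := by
    intro j
    have h1 := hτ (τ.symm j)
    rw [Equiv.apply_symm_apply] at h1
    rw [h1, hθ]
  refine ⟨fun j => if r (ℓ j) < r (θ (ℓ j)) then τ j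
    else if r (θ (ℓ j)) < r (ℓ j) then τ.symm j else j, ?_, ?_⟩
  · intro j
    by_cases hA : r (ℓ j) < r (θ (ℓ j))
    · have h1 : ¬ r (ℓ (τ j)) < r (θ (ℓ (τ j))) := by
        rw [hτ, hθ]; exact not_lt_of_gt hA
      have h2 : r (θ (ℓ (τ j))) < r (ℓ (τ j)) := by
        rw [hτ, hθ]; exact hA
      simp only [if_pos hA, if_neg h1, if_pos h2, Equiv.symm_apply_apply]
    · by_cases hB : r (θ (ℓ j)) < r (ℓ j)
      · have h1 : r (ℓ (τ.symm j)) < r (θ (ℓ (τ.symm j))) := by
          rw [hτs, hθ]; exact hB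
        simp only [if_neg hA, if_pos hB, if_pos h1, Equiv.apply_symm_apply]
      · simp only [if_neg hA, if_neg hB]
  · intro j
    by_cases hA : r (ℓ j) < r (θ (ℓ j))
    · simp only [if_pos hA]; exact hτ j
    · by_cases hB : r (θ (ℓ j)) < r (ℓ j)
      · simp only [if_neg hA, if_pos hB]; exact hτs j
      · simp only [if_neg hA, if_neg hB]
        exact hr (le_antisymm (not_lt.1 hB) (not_lt.1 hA))

/-- UPAIR, core form: the conclusion of UBAS is a hypothesis. -/
theorem h48_sfu_pair_conj_core {F : Type*} [Field F] [Fintype F] [DecidableEq F] {n : ℕ}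
    (q₀ : ℕ) (hcard : Fintype.card F = q₀ ^ 2) (f : (Fin n → F) → (Fin n → F) → F)
    (hf : IsUnitaryFormPow q₀ f)
    (hUBAS : ∀ π : Fin n → Fin n, (∀ i, π (π i) = i) →
      ∃ v : Fin n → (Fin n → F), LinearIndependent F v ∧
        ∀ i j, f (v i) (v j) = if j = π i then 1 else 0)
    (x K : Matrix (Fin n) (Fin n) F) (μ : Fin n → F) (hK : K.det ≠ 0)
    (hx : x * K = K * Matrix.diagonal μ) (σ : F) (hσ : σ ≠ 0) (hμ0 : ∀ j, μ j ≠ 0)
    (hsym : ∀ c : F, (Finset.univ.filter (fun j => μ j = σ * c)).card =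
      (Finset.univ.filter (fun j => μ j = σ * (c ^ q₀)⁻¹)).card) : SfuConj f x := by
  classical
  rcases Nat.eq_zero_or_pos n with hn | hn
  · subst hn
    exact ⟨1, 1, Matrix.det_one, Subgroup.one_mem _, Subsingleton.elim _ _⟩
  have hfrob : ∀ a : F, a ^ (q₀ ^ 2) = a := by
    intro a
    rw [← hcard]; exact FiniteField.pow_card a
  have hθ : ∀ a : F, (((a ^ q₀)⁻¹) ^ q₀)⁻¹ = a := by
    intro a
    rw [inv_pow, inv_inv, ← pow_mul, ← sq, hfrob]
  obtain ⟨π, hππ, hπℓ⟩ := h48_exists_invol (fun j => μ j / σ) (fun c : F => (c ^ q₀)⁻¹) hθ (by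
      intro c
      have e1 : (Finset.univ.filter (fun j => μ j / σ = c))
          = Finset.univ.filter (fun j => μ j = σ * c) := by
        apply Finset.filter_congr
        intro j _
        rw [div_eq_iff hσ, mul_comm]
      have e2 : (Finset.univ.filter (fun j => μ j / σ = (c ^ q₀)⁻¹))
          = Finset.univ.filter (fun j => μ j = σ * (c ^ q₀)⁻¹) := by
        apply Finset.filter_congr
        intro j _
        rw [div_eq_iff hσ, mul_comm]
      rw [e1, e2]; exact hsym c)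
    (fun c : F => ((Fintype.equivFin F c : Fin (Fintype.card F)) : ℕ))
    (fun a b h => (Fintype.equivFin F).injective (Fin.ext h))
  obtain ⟨v0, hv0li, hv0⟩ := hUBAS π hππ
  have hcardn : Fintype.card (Fin n) = Module.finrank F (Fin n → F) := by simp
  have hspan := hv0li.span_eq_top_of_card_eq_finrank' hcardn
  obtain ⟨B, hB⟩ : ∃ B : Basis (Fin n) F (Fin n → F), ∀ i, B i = v0 i :=
    ⟨Basis.mk hv0li (le_of_eq hspan.symm), fun i => by simp⟩
  have hBf : ∀ i j, f (B i) (B j) = if j = π i then 1 else 0 := by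
    intro i j
    rw [hB, hB]; exact hv0 i j
  -- the basis of the columns of `K`
  have hKli := Matrix.linearIndependent_cols_of_det_ne_zero hK
  have hKspan := hKli.span_eq_top_of_card_eq_finrank' hcardn
  obtain ⟨kB, hkB⟩ : ∃ kB : Basis (Fin n) F (Fin n → F), ∀ j, kB j = K *ᵥ Pi.single j 1 :=
    ⟨Basis.mk hKli (le_of_eq hKspan.symm), fun j => by
      rw [Basis.mk_apply, Matrix.mulVec_single_one]⟩
  have hxk : ∀ j, x *ᵥ kB j = μ j • kB j := by
    intro j
    rw [hkB, Matrix.mulVec_mulVec, hx, ← Matrix.mulVec_mulVec, Matrix.diagonal_mulVec_single,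
      mul_one, ← Matrix.mulVec_smul]
    congr 1
    ext i
    simp [Pi.single_apply]
  -- weights
  obtain ⟨j₀⟩ : Nonempty (Fin n) := ⟨⟨0, hn⟩⟩
  have hD₀ : IsUnit (B.det kB) := Basis.isUnit_det _ _
  obtain ⟨w, hw⟩ : ∃ w : Fin n → F, w = fun j => if j = j₀ then (B.det kB)⁻¹ else 1 :=
    ⟨_, rfl⟩
  have hw0 : ∀ i, w i ≠ 0 := by
    intro i
    rw [hw]
    by_cases h : i = j₀ <;> simp [h, hD₀.ne_zero]
  have hwprod : ∏ i, w i = (B.det kB)⁻¹ := by
    rw [hw]; simp
  have hwu : ∀ i, IsUnit (w i) := fun i => isUnit_iff_ne_zero.2 (hw0 i)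
  obtain ⟨b₂, hb₂⟩ : ∃ b₂ : Basis (Fin n) F (Fin n → F), b₂ = kB.isUnitSMul hwu := ⟨_, rfl⟩
  have hb₂a : ∀ i, b₂ i = w i • kB i := by
    intro i
    rw [hb₂, Basis.isUnitSMul_apply]
  have hx₂ : ∀ i, x *ᵥ b₂ i = μ i • b₂ i := by
    intro i
    rw [hb₂a, Matrix.mulVec_smul, hxk]
    module
  obtain ⟨φ, hφ⟩ : ∃ φ : (Fin n → F) ≃ₗ[F] (Fin n → F), φ = B.equiv b₂ (Equiv.refl _) :=
    ⟨_, rfl⟩
  have hφB : ∀ j, φ (B j) = b₂ j := by
    intro j
    rw [hφ, Basis.equiv_apply, Equiv.refl_apply]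
  obtain ⟨P, hP⟩ : ∃ P : Matrix (Fin n) (Fin n) F, P = LinearMap.toMatrix' φ.toLinearMap :=
    ⟨_, rfl⟩
  have hPv : ∀ v, P *ᵥ v = φ v := by
    intro v
    rw [hP, ← Matrix.toLin'_apply, Matrix.toLin'_toMatrix']
    rfl
  have hPdet : P.det = 1 := by
    rw [hP, LinearMap.det_toMatrix']
    have h1 := Basis.det_comp B φ.toLinearMap B
    rw [Basis.det_self, mul_one] at h1
    rw [← h1]
    have h2 : (φ.toLinearMap ∘ B : Fin n → (Fin n → F)) = fun j => w j • kB j := by
      funext j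
      simp [hφB, hb₂a]
    rw [h2, AlternatingMap.map_smul_univ, smul_eq_mul, hwprod, inv_mul_cancel₀ hD₀.ne_zero]
  obtain ⟨T, hT⟩ : ∃ T : (Fin n → F) →ₗ[F] (Fin n → F), ∀ j, T (B j) = μ j • B j :=
    ⟨B.constr F (fun j => μ j • B j), fun j => by simp⟩
  have hc : (σ * σ ^ q₀) ^ q₀ = σ * σ ^ q₀ := by
    rw [mul_pow, ← pow_mul, ← sq, hfrob, mul_comm]
  have hc0 : σ * σ ^ q₀ ≠ 0 := mul_ne_zero hσ (pow_ne_zero _ hσ)
  have hsim : ∀ u v, f (T u) (T v) = (σ * σ ^ q₀) * f u v := by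
    apply h48_sfu_sim_of_basis q₀ f hf B T _ hc
    intro i j
    rw [hT, hT, hf.smul_left, h48_sfu_smul_right q₀ f hf, hBf]
    by_cases hij : j = π i
    · subst hij
      have h1 : μ (π i) = σ * ((μ i / σ) ^ q₀)⁻¹ := by
        have h2 := hπℓ i
        rw [div_eq_iff hσ] at h2
        rw [h2, mul_comm]
      have hμi := hμ0 i
      rw [if_pos rfl, h1, mul_pow, inv_pow, ← pow_mul, ← sq, hfrob]
      field_simp
    · rw [if_neg hij]; ring
  obtain ⟨G, hG⟩ : ∃ G : Matrix (Fin n) (Fin n) F, G = LinearMap.toMatrix' T := ⟨_, rfl⟩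
  have hGv : ∀ v, G *ᵥ v = T v := by
    intro v
    rw [hG, ← Matrix.toLin'_apply, Matrix.toLin'_toMatrix']
  refine h48_sfu_conj_of_sim q₀ f hf x P G (σ * σ ^ q₀) hc0 ?_ hPdet ?_
  · intro u v
    rw [hGv, hGv]; exact hsim u v
  · apply h48_matrix_ext_basis B
    intro j
    rw [← Matrix.mulVec_mulVec, ← Matrix.mulVec_mulVec, hPv, hφB, hx₂, hGv, hT, hPv, map_smul,
      hφB]

end Cfsg.Agent.Lib.helper24

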