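import Mathlib
import Cfsg.Agent.Lib.helper24.SfuDefs
import Cfsg.Agent.Lib.helper13.SfuUBAS
import Cfsg.Agent.Lib.helper48.SfuUPAIRc

/-!
# S5982 piece UPAIR (helper48): `sfu_pair_conj`
-/

set_option autoImplicit false

namespace Cfsg.Agent.Lib.helper24

open Module Matrix Cfsg.Geo

/-- UPAIR -/
theorem sfu_pair_conj {F : Type*} [Field F] [Fintype F] [DecidableEq F] {n : ℕ} (q₀ : ℕ)
    (hcard : Fintype.card F = q₀ ^ 2) (f : (Fin n → F) → (Fin n → F) → F)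
    (hf : IsUnitaryFormPow q₀ f)
    (x K : Matrix (Fin n) (Fin n) F) (μ : Fin n → F) (hK : K.det ≠ 0)
    (hx : x * K = K * Matrix.diagonal μ) (σ : F) (hσ : σ ≠ 0) (hμ0 : ∀ j, μ j ≠ 0)
    (hsym : ∀ c : F, (Finset.univ.filter (fun j => μ j = σ * c)).card =
      (Finset.univ.filter (fun j => μ j = σ * (c ^ q₀)⁻¹)).card) : SfuConj f x :=
  h48_sfu_pair_conj_core q₀ hcard f hf (fun π hπ => h13_sfu_basis_pi q₀ hcard f hf π hπ)
    x K μ hK hx σ hσ hμ0 hsym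

end Cfsg.Agent.Lib.helper24

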