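import Mathlib
import Cfsg.Agent.Lib.helper3.GfDefs

set_option autoImplicit false

namespace Cfsg.Agent.Lib.helper3.Gf

universe u

/-- An additive subgroup of a field with `p ^ ord_q(p)` elements that is stable under
multiplication by an element of order `q` is trivial or everything. -/
theorem h48_gf_irr_field (p q : ℕ) [Fact p.Prime] [Fact q.Prime] {L : Type*} [Field L] [Finite L]
    (hcard : Nat.card L = p ^ orderOf (p : ZMod q)) (lam : L) (hlam : lam ^ q = 1)
    (hlam1 : lam ≠ 1) (W : AddSubgroup L) (hW : ∀ w ∈ W, lam * w ∈ W) : W = ⊥ ∨ W = ⊤ := by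
  classical
  have hp := (Fact.out : p.Prime)
  by_cases hbot : W = ⊥
  · exact Or.inl hbot
  right
  have := Fintype.ofFinite L
  -- closure under powers of lam
  have hWk : ∀ (k : ℕ) (w : L), w ∈ W → lam ^ k * w ∈ W := by
    intro k
    induction k with
    | zero => intro w hw; simpa using hw
    | succ k ih =>
      intro w hw
      rw [pow_succ, mul_assoc]
      exact ih _ (hW w hw)
  have hq1 : 1 ≤ q := (Fact.out : q.Prime).one_lt.le
  let σ : Equiv.Perm W :=
    { toFun := fun w => ⟨lam * w, hW w w.2⟩
      invFun := fun w => ⟨lam ^ (q - 1) * w, hWk (q - 1) w w.2⟩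
      left_inv := by
        intro w
        apply Subtype.ext
        show lam ^ (q - 1) * (lam * (w : L)) = w
        rw [← mul_assoc, ← pow_succ, Nat.sub_add_cancel hq1, hlam, one_mul]
      right_inv := by
        intro w
        apply Subtype.ext
        show lam * (lam ^ (q - 1) * (w : L)) = w
        rw [← mul_assoc, ← pow_succ', Nat.sub_add_cancel hq1, hlam, one_mul] }
  have hσk : ∀ (k : ℕ) (w : W), (((σ ^ k) w : W) : L) = lam ^ k * w := by
    intro k
    induction k with
    | zero => intro w; simp
    | succ k ih =>
      intro w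
      rw [pow_succ, Equiv.Perm.mul_apply, ih, pow_succ, mul_assoc]
      rfl
  have hσq : σ ^ q ^ 1 = 1 := by
    rw [pow_one]
    ext w
    rw [hσk, hlam, one_mul]
    rfl
  have hfix : σ.supportᶜ = {0} := by
    ext w
    rw [Finset.mem_compl, Equiv.Perm.mem_support, not_not, Finset.mem_singleton]
    constructor
    · intro h
      have h1 : lam * (w : L) = w := congrArg Subtype.val h
      have h2 : (lam - 1) * (w : L) = 0 := by rw [sub_mul, h1, one_mul, sub_self]
      rcases mul_eq_zero.mp h2 with h3 | h3
      · exact absurd (sub_eq_zero.mp h3) hlam1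
      · exact Subtype.ext h3
    · intro h
      rw [h]
      apply Subtype.ext
      show lam * ((0 : W) : L) = ((0 : W) : L)
      simp
  have hmod := Equiv.Perm.card_compl_support_modEq hσq
  rw [hfix, Finset.card_singleton] at hmod
  -- the order of W
  have hdvd : Nat.card W ∣ p ^ orderOf (p : ZMod q) := by
    rw [← hcard]
    exact AddSubgroup.card_addSubgroup_dvd_card W
  obtain ⟨d, hd, hWd⟩ := (Nat.dvd_prime_pow hp).mp hdvd
  rw [← Nat.card_eq_fintype_card, hWd] at hmod
  have hd0 : d ≠ 0 := by
    rintro rfl
    apply hbot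
    rw [pow_zero] at hWd
    exact AddSubgroup.card_eq_one.mp hWd
  have hpd : ((p : ZMod q)) ^ d = 1 := by
    have := (ZMod.natCast_eq_natCast_iff _ _ _).mpr hmod
    rw [Nat.cast_one, Nat.cast_pow] at this
    exact this.symm
  have hle : orderOf (p : ZMod q) ≤ d :=
    Nat.le_of_dvd (Nat.pos_of_ne_zero hd0) (orderOf_dvd_of_pow_eq_one hpd)
  have hdeq : d = orderOf (p : ZMod q) := le_antisymm hd hle
  apply AddSubgroup.eq_top_of_card_eq
  rw [hWd, hcard, hdeq]


/-- the action of `C_n` on the additive group of a field through an `n`-th root of unity -/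
noncomputable def h48GfAct {L : Type u} [Field L] (n : ℕ) [NeZero n] (lam : L) (hlam : lam ^ n = 1) :
    Multiplicative (ZMod n) →* MulAut (Multiplicative L) where
  toFun j :=
    { toFun := fun x => Multiplicative.ofAdd (lam ^ (Multiplicative.toAdd j).val *
        Multiplicative.toAdd x)
      invFun := fun x => Multiplicative.ofAdd (lam ^ (-(Multiplicative.toAdd j)).val *
        Multiplicative.toAdd x)
      left_inv := by
        intro x
        show Multiplicative.ofAdd (lam ^ (-(Multiplicative.toAdd j)).val *
          (lam ^ (Multiplicative.toAdd j).val * Multiplicative.toAdd x)) = x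
        have h1 : lam ^ (-(Multiplicative.toAdd j)).val * lam ^ (Multiplicative.toAdd j).val = 1 := by
          rw [← pow_add]
          have h2 : ((-(Multiplicative.toAdd j)).val + (Multiplicative.toAdd j).val) % n = 0 := by
            rw [← ZMod.val_add, neg_add_cancel, ZMod.val_zero]
          obtain ⟨c, hc⟩ := Nat.dvd_of_mod_eq_zero h2
          rw [hc, pow_mul, hlam, one_pow]
        rw [← mul_assoc, h1, one_mul]
        rfl
      right_inv := by
        intro x
        show Multiplicative.ofAdd (lam ^ (Multiplicative.toAdd j).val *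
          (lam ^ (-(Multiplicative.toAdd j)).val * Multiplicative.toAdd x)) = x
        have h1 : lam ^ (Multiplicative.toAdd j).val * lam ^ (-(Multiplicative.toAdd j)).val = 1 := by
          rw [← pow_add]
          have h2 : ((Multiplicative.toAdd j).val + (-(Multiplicative.toAdd j)).val) % n = 0 := by
            rw [← ZMod.val_add, add_neg_cancel, ZMod.val_zero]
          obtain ⟨c, hc⟩ := Nat.dvd_of_mod_eq_zero h2
          rw [hc, pow_mul, hlam, one_pow]
        rw [← mul_assoc, h1, one_mul]
        rfl
      map_mul' := by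
        intro x y
        show Multiplicative.ofAdd (lam ^ (Multiplicative.toAdd j).val *
          (Multiplicative.toAdd x + Multiplicative.toAdd y)) = _
        rw [mul_add]
        rfl }
  map_one' := by
    apply MulEquiv.ext
    intro x
    show Multiplicative.ofAdd (lam ^ (0 : ZMod n).val * Multiplicative.toAdd x) = x
    rw [ZMod.val_zero, pow_zero, one_mul]
    rfl
  map_mul' := by
    intro j j'
    apply MulEquiv.ext
    intro x
    show Multiplicative.ofAdd (lam ^ (Multiplicative.toAdd j + Multiplicative.toAdd j').val *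
        Multiplicative.toAdd x) =
      Multiplicative.ofAdd (lam ^ (Multiplicative.toAdd j).val *
        (lam ^ (Multiplicative.toAdd j').val * Multiplicative.toAdd x))
    have h1 : lam ^ (Multiplicative.toAdd j + Multiplicative.toAdd j').val =
        lam ^ (Multiplicative.toAdd j).val * lam ^ (Multiplicative.toAdd j').val := by
      rw [← pow_add, ZMod.val_add]
      conv_rhs => rw [← Nat.div_add_mod ((Multiplicative.toAdd j).val +
        (Multiplicative.toAdd j').val) n, pow_add, pow_mul, hlam, one_pow, one_mul]
    rw [h1, mul_assoc]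

theorem h48GfAct_apply {L : Type u} [Field L] (n : ℕ) [NeZero n] (lam : L) (hlam : lam ^ n = 1)
    (j : Multiplicative (ZMod n)) (x : Multiplicative L) :
    h48GfAct n lam hlam j x =
      Multiplicative.ofAdd (lam ^ (Multiplicative.toAdd j).val * Multiplicative.toAdd x) := rfl

/-- EXA over an abstract field with `p ^ ord_q(p)` elements. -/
theorem h48_ex_cov_a_aux (p q r : ℕ) [Fact p.Prime] [Fact q.Prime] (hr : 1 ≤ r)
    (L : Type u) [Field L] [Finite L] (hchar : ∀ x : L, p • x = 0)
    (hcard : Nat.card L = p ^ orderOf (p : ZMod q)) :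
    ∃ (G : Type u) (_ : Group G) (_ : Finite G) (N P : Subgroup G) (y : G),
      Cov p q r N P y ∧ NonGen N ∧ Nat.card G = p ^ orderOf (p : ZMod q) * q ^ r := by
  classical
  have hp := (Fact.out : p.Prime)
  have hq := (Fact.out : q.Prime)
  -- an element of order q
  have hqdvd : q ∣ Nat.card Lˣ := by
    rw [Nat.card_units, hcard]
    have h1 : ((p ^ orderOf (p : ZMod q) : ℕ) : ZMod q) = ((1 : ℕ) : ZMod q) := by
      rw [Nat.cast_pow, Nat.cast_one, pow_orderOf_eq_one]
    have h2 := (ZMod.natCast_eq_natCast_iff _ _ _).mp h1
    exact (Nat.modEq_iff_dvd' (Nat.one_le_pow _ _ hp.pos)).mp h2.symm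
  have := Fintype.ofFinite Lˣ
  obtain ⟨lamu, hlamu⟩ := exists_prime_orderOf_dvd_card (G := Lˣ) q
    (by rwa [← Nat.card_eq_fintype_card])
  have hlam : (lamu : L) ^ q = 1 := by
    rw [← Units.val_pow_eq_pow_val, ← hlamu, pow_orderOf_eq_one, Units.val_one]
  have hlam1 : (lamu : L) ≠ 1 := by
    intro h
    have h1 : lamu = 1 := Units.ext h
    rw [h1, orderOf_one] at hlamu
    exact hq.one_lt.ne hlamu
  generalize (lamu : L) = lam at hlam hlam1
  have hne : NeZero (q ^ r) := ⟨pow_ne_zero _ hq.ne_zero⟩
  have hlamn : lam ^ (q ^ r) = 1 := by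
    obtain ⟨r', rfl⟩ : ∃ r', r = r' + 1 := ⟨r - 1, by omega⟩
    rw [pow_succ', pow_mul, hlam, one_pow]
  have hfinK : Finite (Multiplicative L ⋊[h48GfAct (q ^ r) lam hlamn] Multiplicative (ZMod (q ^ r))) :=
    Finite.of_equiv _ SemidirectProduct.equivProd.symm
  refine ⟨Multiplicative L ⋊[h48GfAct (q ^ r) lam hlamn] Multiplicative (ZMod (q ^ r)),
    inferInstance, hfinK, ⊥, (SemidirectProduct.rightHom).ker,
    SemidirectProduct.inr (Multiplicative.ofAdd (1 : ZMod (q ^ r))), ?_, ?_, ?_⟩
  · -- Cov
    set K := Multiplicative L ⋊[h48GfAct (q ^ r) lam hlamn] Multiplicative (ZMod (q ^ r)) with hK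
    set P : Subgroup K := (SemidirectProduct.rightHom).ker with hP
    set y : K := SemidirectProduct.inr (Multiplicative.ofAdd (1 : ZMod (q ^ r))) with hy
    have hPmem : ∀ u : K, u ∈ P ↔ u.right = 1 := fun u => by
      rw [hP, MonoidHom.mem_ker]
      rfl
    have hPinl : ∀ u : K, u ∈ P → u = SemidirectProduct.inl u.left := by
      intro u hu
      ext
      · rfl
      · rw [(hPmem u).mp hu]
        rfl
    have hinlP : ∀ x : Multiplicative L, (SemidirectProduct.inl x : K) ∈ P := fun x =>
      (hPmem _).mpr rfl
    have hypow : ∀ k : ℕ, y ^ k =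
        SemidirectProduct.inr (Multiplicative.ofAdd ((k : ZMod (q ^ r)))) := by
      intro k
      rw [hy, ← map_pow, ← ofAdd_nsmul, nsmul_one]
    have hconj : ∀ (k : ℕ) (x : Multiplicative L),
        y ^ k * SemidirectProduct.inl x * (y ^ k)⁻¹ =
          (SemidirectProduct.inl (Multiplicative.ofAdd (lam ^ k * Multiplicative.toAdd x)) : K) := by
      intro k x
      rw [hypow, ← map_inv, ← SemidirectProduct.inl_aut, h48GfAct_apply]
      congr 2
      show lam ^ ((k : ZMod (q ^ r))).val * _ = _
      rw [ZMod.val_natCast]
      congr 1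
      conv_rhs => rw [← Nat.div_add_mod k (q ^ r), pow_add, pow_mul, hlamn, one_pow, one_mul]
    have hpowP : ∀ u : K, u ∈ P → u ^ p = 1 := by
      intro u hu
      rw [hPinl u hu, ← map_pow]
      have : u.left ^ p = 1 := by
        show Multiplicative.ofAdd (p • Multiplicative.toAdd u.left) = 1
        rw [hchar]
        rfl
      rw [this, map_one]
    refine
      { N_le_P := bot_le
        N_central := bot_le
        P_normal := MonoidHom.normal_ker _
        P_pgroup := ?_
        comm_mem := ?_
        pow_mem := ?_
        sup_top := ?_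
        ord_dvd := ?_
        ord_mem := ?_
        yq := ?_
        nontriv := ?_
        irr := ?_ }
    · intro g
      refine ⟨1, ?_⟩
      apply Subtype.ext
      show (g : K) ^ p ^ 1 = 1
      rw [pow_one]
      exact hpowP g g.2
    · intro u hu v hv
      rw [Subgroup.mem_bot, hPinl u hu, hPinl v hv, ← map_inv, ← map_inv, ← map_mul, ← map_mul,
        ← map_mul]
      have : u.left * v.left * u.left⁻¹ * v.left⁻¹ = 1 := by
        rw [mul_comm u.left v.left, mul_assoc v.left, mul_inv_cancel, mul_one, mul_inv_cancel]
      rw [this, map_one]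
    · intro u hu
      rw [Subgroup.mem_bot]
      exact hpowP u hu
    · rw [eq_top_iff]
      intro g _
      rw [← SemidirectProduct.inl_left_mul_inr_right g]
      apply Subgroup.mul_mem_sup (hinlP _)
      rw [Subgroup.mem_zpowers_iff]
      refine ⟨((Multiplicative.toAdd g.right).val : ℤ), ?_⟩
      rw [zpow_natCast, hypow, ZMod.natCast_zmod_val]
      rfl
    · intro k hk
      rw [hPmem, hypow] at hk
      exact (ZMod.natCast_eq_zero_iff k (q ^ r)).mp hk
    · rw [hPmem, hypow]
      show Multiplicative.ofAdd (((q ^ r : ℕ) : ZMod (q ^ r))) = 1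
      rw [ZMod.natCast_self]
      rfl
    · intro u hu
      rw [Subgroup.mem_bot]
      have h1 := hconj q u.left
      rw [hlam, one_mul, ofAdd_toAdd, ← hPinl u hu] at h1
      rw [h1, mul_inv_cancel]
    · refine ⟨SemidirectProduct.inl (Multiplicative.ofAdd (1 : L)), hinlP _, ?_⟩
      rw [Subgroup.mem_bot]
      have h1 := hconj 1 (Multiplicative.ofAdd (1 : L))
      rw [pow_one, pow_one] at h1
      rw [h1, ← map_inv, ← map_mul]
      intro h
      have h' := SemidirectProduct.inl_injective (h.trans (map_one _).symm)
      have h'' : lam * 1 + -1 = 0 := h'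
      apply hlam1
      linear_combination h''
    · intro W _ hWP hWy
      let W' : AddSubgroup L :=
        { carrier := {x | (SemidirectProduct.inl (Multiplicative.ofAdd x) : K) ∈ W}
          add_mem' := by
            intro x z hx hz
            have : (SemidirectProduct.inl (Multiplicative.ofAdd (x + z)) : K) =
                SemidirectProduct.inl (Multiplicative.ofAdd x) *
                  SemidirectProduct.inl (Multiplicative.ofAdd z) := by
              rw [← map_mul]
              rfl
            show (SemidirectProduct.inl (Multiplicative.ofAdd (x + z)) : K) ∈ W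
            rw [this]
            exact W.mul_mem hx hz
          zero_mem' := by
            show (SemidirectProduct.inl (Multiplicative.ofAdd (0 : L)) : K) ∈ W
            have : (SemidirectProduct.inl (Multiplicative.ofAdd (0 : L)) : K) = 1 := map_one _
            rw [this]
            exact W.one_mem
          neg_mem' := by
            intro x hx
            have : (SemidirectProduct.inl (Multiplicative.ofAdd (-x)) : K) =
                (SemidirectProduct.inl (Multiplicative.ofAdd x))⁻¹ := by
              rw [← map_inv]
              rfl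
            show (SemidirectProduct.inl (Multiplicative.ofAdd (-x)) : K) ∈ W
            rw [this]
            exact W.inv_mem hx }
      have hW' : ∀ w ∈ W', lam * w ∈ W' := by
        intro w hw
        show (SemidirectProduct.inl (Multiplicative.ofAdd (lam * w)) : K) ∈ W
        have h1 := hconj 1 (Multiplicative.ofAdd w)
        rw [pow_one, pow_one] at h1
        have h2 : (SemidirectProduct.inl (Multiplicative.ofAdd (lam * w)) : K) =
            y * SemidirectProduct.inl (Multiplicative.ofAdd w) * y⁻¹ := h1.symm
        rw [h2]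
        exact hWy _ hw
      rcases h48_gf_irr_field p q hcard lam hlam hlam1 W' hW' with h | h
      · left
        rw [eq_bot_iff]
        intro w hw
        rw [Subgroup.mem_bot]
        have e := hPinl w (hWP hw)
        have h1 : Multiplicative.toAdd w.left ∈ W' := by
          show (SemidirectProduct.inl (Multiplicative.ofAdd (Multiplicative.toAdd w.left)) : K) ∈ W
          rw [ofAdd_toAdd, ← e]
          exact hw
        rw [h, AddSubgroup.mem_bot] at h1
        have h2 : w.left = 1 := h1
        rw [e, h2, map_one]
      · right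
        apply le_antisymm hWP
        intro u hu
        have h1 : Multiplicative.toAdd u.left ∈ W' := by
          rw [h]
          trivial
        have h2 : (SemidirectProduct.inl (Multiplicative.ofAdd (Multiplicative.toAdd u.left)) : K)
            ∈ W := h1
        rw [ofAdd_toAdd, ← hPinl u hu] at h2
        exact h2
  · intro S hS
    rwa [sup_bot_eq] at hS
  · rw [SemidirectProduct.card]
    show Nat.card L * Nat.card (ZMod (q ^ r)) = _
    rw [hcard, Nat.card_zmod]

/-- EXA : `F_{p^a} ⋊ C_{q^r}` (N = ⊥) -/
theorem ex_cov_a (p q r : ℕ) [Fact p.Prime] [Fact q.Prime] (hpq : p ≠ q) (hr : 1 ≤ r) :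
    ∃ (G : Type u) (_ : Group G) (_ : Finite G) (N P : Subgroup G) (y : G),
      Cov p q r N P y ∧ NonGen N ∧ Nat.card G = p ^ orderOf (p : ZMod q) * q ^ r := by
  have hp := (Fact.out : p.Prime)
  have hq := (Fact.out : q.Prime)
  have hpne : (p : ZMod q) ≠ 0 := by
    rw [Ne, ZMod.natCast_eq_zero_iff, Nat.prime_dvd_prime_iff_eq hq hp]
    exact fun h => hpq h.symm
  have ha0 : orderOf (p : ZMod q) ≠ 0 := by
    have h1 : IsOfFinOrder (p : ZMod q) :=
      isOfFinOrder_iff_pow_eq_one.mpr ⟨q - 1, Nat.sub_pos_of_lt hq.one_lt,
        ZMod.pow_card_sub_one_eq_one hpne⟩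
    exact (orderOf_pos_iff.mpr h1).ne'
  refine h48_ex_cov_a_aux p q r hr (ULift.{u} (GaloisField p (orderOf (p : ZMod q)))) ?_ ?_
  · intro x
    apply ULift.ext
    show p • x.down = 0
    have h := CharP.cast_eq_zero (GaloisField p (orderOf (p : ZMod q))) p
    rw [nsmul_eq_mul, h, zero_mul]
  · rw [Nat.card_ulift, GaloisField.card p _ ha0]

end Cfsg.Agent.Lib.helper3.Gf
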