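import Mathlib
import Cfsg.Prelude.Def_CaseTheorems
import Cfsg.Agent.Lib.helper26.ABGTransport
import Cfsg.Agent.Lib.helper37.S1238Cfg0
import Cfsg.Agent.Lib.helper60.S1238B3a

/-!
# S1238 / S5213, piece TG (`two_group_endgame`), modulo the y-free endgame

`two_group_endgame_of` is the verbatim statement of `two_group_endgame` of
`tools/S1238_Skel0.lean.txt` with one extra (first) hypothesis `hend`, which is exactly
`@endgame0 P _ _`.
-/

set_option autoImplicit false

namespace Cfsg.Agent.Lib.helper48.S1238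

open Cfsg Cfsg.Agent.Lib.helper26 Cfsg.Agent.Lib.helper37.S1238

/-- In a 2-group of 2-rank at most 2 whose centre has the unique involution `z`, a non-central
involution `u` is conjugate to `z * u`. -/
theorem helper48_exists_s {P : Type*} [Group P] [Finite P] (hP : IsPGroup 2 P)
    (h2 : Cfsg.PRankLE 2 2 P) (z u : P) (hz2 : orderOf z = 2) (hzc : ∀ g : P, g * z = z * g)
    (huniq : ∀ z' : P, (∀ g : P, g * z' = z' * g) → orderOf z' = 2 → z' = z)
    (huu : u * u = 1) (hu1 : u ≠ 1) (huz : u ≠ z) : ∃ s : P, s * u * s⁻¹ = z * u := by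
  by_contra hno
  push Not at hno
  have hzz : z * z = 1 := by
    have := pow_orderOf_eq_one z
    rw [hz2, pow_two] at this
    exact this
  have hz1 : z ≠ 1 := by
    intro h
    rw [h, orderOf_one] at hz2
    omega
  have huT : u ∈ Subgroup.centralizer ({u} : Set P) := Subgroup.mem_centralizer_singleton_iff.mpr rfl
  -- the normalizer of `T = C_P(u)` is `T`
  have hN : Subgroup.normalizer ((Subgroup.centralizer ({u} : Set P) : Subgroup P) : Set P) ≤
      Subgroup.centralizer ({u} : Set P) := by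
    intro g hg
    have h1 : g * u * g⁻¹ ∈ Subgroup.centralizer ({u} : Set P) :=
      (Subgroup.mem_normalizer_iff.mp hg u).mp huT
    have hc : (g * u * g⁻¹) * u = u * (g * u * g⁻¹) := Subgroup.mem_centralizer_singleton_iff.mp h1
    have hsq : (g * u * g⁻¹) * (g * u * g⁻¹) = 1 := by
      have : (g * u * g⁻¹) * (g * u * g⁻¹) = g * (u * u) * g⁻¹ := by group
      rw [this, huu]; group
    have hcases := Cfsg.Agent.Lib.helper60.S1238.rank_two_four h2 z u (g * u * g⁻¹) hzz huu hsq
      (hzc u).symm (hzc _).symm hc.symm hz1 hu1 (Ne.symm huz)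
    have hback : u = g⁻¹ * (g * u * g⁻¹) * g := by group
    rcases hcases with h | h | h | h
    · exfalso; apply hu1
      rw [hback, h]; group
    · exfalso; apply huz
      rw [hback, h, mul_assoc, ← hzc g, ← mul_assoc, inv_mul_cancel, one_mul]
    · rw [Subgroup.mem_centralizer_singleton_iff]
      have := congrArg (· * g) h
      simpa [mul_assoc] using this
    · exact (hno g h).elim
  have : Group.IsNilpotent P := hP.isNilpotent
  have hTtop : Subgroup.centralizer ({u} : Set P) = ⊤ := by
    by_contra hne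
    have hlt : Subgroup.centralizer ({u} : Set P) < ⊤ := lt_top_iff_ne_top.mpr hne
    have h3 := Group.normalizerCondition_of_isNilpotent (G := P) _ hlt
    exact absurd hN (not_le_of_gt h3)
  have huc : ∀ g : P, g * u = u * g := by
    intro g
    have hg : g ∈ Subgroup.centralizer ({u} : Set P) := by rw [hTtop]; trivial
    exact Subgroup.mem_centralizer_singleton_iff.mp hg
  have hou : orderOf u = 2 := orderOf_eq_prime (by rw [pow_two]; exact huu) hu1
  exact huz (huniq u huc hou)

/-- PIECE TG modulo `endgame0`: the statement of `two_group_endgame` with the extra first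
hypothesis `hend` (`:= @endgame0 P _ _`). -/
theorem two_group_endgame_of {P : Type*} [Group P] [Finite P]
    (hend : ∀ (_ : Cfsg.PRankLE 2 2 P) (S : Sylow 2 P) (T : Subgroup P) (z u s : P)
      (h : Cfg0 (S : Subgroup P) T z u s) (φ : MulAut ↥T)
      (_ : ((φ ⟨z, h.zT⟩ : ↥T) : P) = u) (_ : ((φ ⟨u, h.uT⟩ : ↥T) : P) = z * u),
      (∃ m : ℕ, 2 ≤ m ∧ Nonempty ((S : Subgroup P) ≃* DihedralGroup m)) ∨
      Cfsg.IsQuasiDihedral (S : Subgroup P) ∨ Cfsg.IsWreathed (S : Subgroup P))
    (hP : IsPGroup 2 P)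
    (h2 : Cfsg.PRankLE 2 2 P) (z u : P) (hz2 : orderOf z = 2) (hzc : ∀ g : P, g * z = z * g)
    (huniq : ∀ z' : P, (∀ g : P, g * z' = z' * g) → orderOf z' = 2 → z' = z)
    (huu : u * u = 1) (hu1 : u ≠ 1) (huz : u ≠ z)
    (φ : MulAut ↥(Subgroup.centralizer ({u} : Set P)))
    (hφz : ((φ ⟨z, Subgroup.mem_centralizer_singleton_iff.mpr (hzc u).symm⟩ :
      ↥(Subgroup.centralizer ({u} : Set P))) : P) = u)
    (hφu : ((φ ⟨u, Subgroup.mem_centralizer_singleton_iff.mpr rfl⟩ :
      ↥(Subgroup.centralizer ({u} : Set P))) : P) = z * u) :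
    (∃ m : ℕ, 2 ≤ m ∧ Nonempty (P ≃* DihedralGroup m)) ∨ Cfsg.IsQuasiDihedral P ∨
      Cfsg.IsWreathed P := by
  obtain ⟨s, hs⟩ := helper48_exists_s hP h2 z u hz2 hzc huniq huu hu1 huz
  obtain ⟨S, hS⟩ := (hP.to_subgroup (⊤ : Subgroup P)).exists_le_sylow
  have hStop : (S : Subgroup P) = ⊤ := top_le_iff.mp hS
  have hzz : z * z = 1 := by
    have := pow_orderOf_eq_one z
    rw [hz2, pow_two] at this
    exact this
  have hz1 : z ≠ 1 := by
    intro h
    rw [h, orderOf_one] at hz2
    omega
  have hcfg : Cfg0 (S : Subgroup P) (Subgroup.centralizer ({u} : Set P)) z u s :=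
    { TS := by rw [hStop]; exact le_top
      zT := Subgroup.mem_centralizer_singleton_iff.mpr (hzc u).symm
      uT := Subgroup.mem_centralizer_singleton_iff.mpr rfl
      zz := hzz
      uu := huu
      z1 := hz1
      u1 := hu1
      uz := huz
      zc := fun g _ => hzc g
      uc := fun t ht => Subgroup.mem_centralizer_singleton_iff.mp ht
      cent := fun g _ hg => Subgroup.mem_centralizer_singleton_iff.mpr hg
      sS := by rw [hStop]; trivial
      su := hs }
  have hres := hend h2 S _ z u s hcfg φ hφz hφu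
  let e : ↥(S : Subgroup P) ≃* P := (MulEquiv.subgroupCongr hStop).trans Subgroup.topEquiv
  rcases hres with ⟨m, hm, ⟨f⟩⟩ | hq | hw
  · exact Or.inl ⟨m, hm, ⟨e.symm.trans f⟩⟩
  · exact Or.inr (Or.inl (isQuasiDihedral_of_mulEquiv e hq))
  · exact Or.inr (Or.inr (isWreathed_of_mulEquiv e hw))

end Cfsg.Agent.Lib.helper48.S1238
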