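import Mathlib
import Cfsg.Agent.Lib.helper44.SL3Defs

/-!
# S2287 piece C4b (helper48): `core4_balance` (the field with four elements)
-/

set_option autoImplicit false

namespace Cfsg.Agent.Lib.helper44.SL3

/-- the four elements of a field of order four -/
theorem h48_four_cases {F : Type*} [Field F] [Fintype F] [CharP F 2]
    (hcard : Fintype.card F = 4) (ω : F) (hω : ω ^ 2 = ω + 1) (a : F) :
    a = 0 ∨ a = 1 ∨ a = ω ∨ a = ω + 1 := by
  classical
  have h2 : (1 : F) + 1 = 0 := CharTwo.add_self_eq_zero (1 : F)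
  have hω0 : ω ≠ 0 := by
    intro h0
    rw [h0] at hω
    simp at hω
  have hω1 : ω ≠ 1 := by
    intro h1
    rw [h1, one_pow, h2] at hω
    exact one_ne_zero hω
  have hω2 : ω + 1 ≠ 0 := by
    intro h
    apply hω1
    have e : ω = ω + 1 + 1 := by rw [add_assoc, h2, add_zero]
    rw [e, h, zero_add]
  have hs : ({0, 1, ω, ω + 1} : Finset F).card = 4 := by
    rw [Finset.card_insert_of_notMem, Finset.card_insert_of_notMem,
      Finset.card_insert_of_notMem, Finset.card_singleton]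
    · rw [Finset.mem_singleton]
      intro h
      have : (1 : F) = 0 := by
        have h' : ω + 0 = ω + 1 := by rw [add_zero]; exact h
        exact (add_left_cancel h').symm
      exact one_ne_zero this
    · rw [Finset.mem_insert, Finset.mem_singleton, not_or]
      refine ⟨fun h => hω1 h.symm, fun h => ?_⟩
      apply hω0
      have h' : 0 + 1 = ω + 1 := by rw [zero_add]; exact h
      exact (add_right_cancel h').symm
    · rw [Finset.mem_insert, Finset.mem_insert, Finset.mem_singleton, not_or, not_or]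
      exact ⟨zero_ne_one, fun h => hω0 h.symm, fun h => hω2 h.symm⟩
  have huniv := Finset.eq_univ_of_card _ (hs.trans hcard.symm)
  have ha : a ∈ ({0, 1, ω, ω + 1} : Finset F) := by rw [huniv]; exact Finset.mem_univ a
  rw [Finset.mem_insert, Finset.mem_insert, Finset.mem_insert, Finset.mem_singleton] at ha
  exact ha

theorem h48_cm_mul_left {G : Type*} [Group G] (u v w : G) (hu : Commute u (cm v w))
    (hw : Commute w (cm v w)) : cm (u * v) w = cm u w * cm v w := by
  have h1 : Commute (cm v w) (u * w * u⁻¹ * w⁻¹) :=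
    ((hu.symm.mul_right hw.symm).mul_right hu.symm.inv_right).mul_right hw.symm.inv_right
  calc cm (u * v) w = u * cm v w * w * u⁻¹ * w⁻¹ := by unfold cm; group
    _ = cm v w * (u * w * u⁻¹ * w⁻¹) := by rw [hu.eq]; group
    _ = cm u w * cm v w := h1.eq

theorem h48_cm_mul_right {G : Type*} [Group G] (u v w : G) (hv : Commute v (cm u w)) :
    cm u (v * w) = cm u v * cm u w := by
  calc cm u (v * w) = u * v * u⁻¹ * (cm u w * v⁻¹) := by unfold cm; group
    _ = u * v * u⁻¹ * (v⁻¹ * cm u w) := by rw [hv.symm.inv_right.eq]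
    _ = cm u v * cm u w := by unfold cm; group

/-- C4b -/
theorem core4_balance {G : Type*} [Group G] {F : Type*} [Field F] [Fintype F] [CharP F 2]
    (hcard : Fintype.card F = 4) (x y : F → G) (h : G) (ω : F) (hω : ω ^ 2 = ω + 1)
    (x_add : ∀ a b, x (a + b) = x a * x b) (y_add : ∀ a b, y (a + b) = y a * y b)
    (h_x : ∀ a, h * x a * h⁻¹ = x (ω * a)) (h_y : ∀ a, h * y a * h⁻¹ = y (ω * a))
    (qa : cm (x ω) (y 1) = cm (x 1) (y ω))
    (qc : h * cm (x 1) (y 1) * h⁻¹ = cm (x 1) (y 1) * cm (x ω) (y 1))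
    (hcen : ∀ a b a', Commute (x a') (cm (x a) (y b)) ∧ Commute (y a') (cm (x a) (y b))) :
    ∀ a b, cm (x a) (y b) = cm (x (a * b)) (y 1) := by
  have hx0 : x 0 = 1 := by
    have h1 := x_add 0 0
    rw [add_zero] at h1
    have h2 : x 0 * x 0 = x 0 * 1 := by rw [mul_one]; exact h1.symm
    exact mul_left_cancel h2
  have hy0 : y 0 = 1 := by
    have h1 := y_add 0 0
    rw [add_zero] at h1
    have h2 : y 0 * y 0 = y 0 * 1 := by rw [mul_one]; exact h1.symm
    exact mul_left_cancel h2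
  have Bl : ∀ a a' b, cm (x (a + a')) (y b) = cm (x a) (y b) * cm (x a') (y b) := by
    intro a a' b
    rw [x_add]
    exact h48_cm_mul_left _ _ _ (hcen a' b a).1 (hcen a' b b).2
  have Br : ∀ a b b', cm (x a) (y (b + b')) = cm (x a) (y b) * cm (x a) (y b') := by
    intro a b b'
    rw [y_add]
    exact h48_cm_mul_right _ _ _ (hcen a b' b).2
  have B0l : ∀ b, cm (x 0) (y b) = 1 := by intro b; rw [hx0]; unfold cm; group
  have B0r : ∀ a, cm (x a) (y 0) = 1 := by intro a; rw [hy0]; unfold cm; group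
  have Bc : ∀ a b a' b', Commute (cm (x a) (y b)) (cm (x a') (y b')) := by
    intro a b a' b'
    have hx := (hcen a' b' a).1
    have hy := (hcen a' b' b).2
    show Commute (x a * y b * (x a)⁻¹ * (y b)⁻¹) (cm (x a') (y b'))
    exact ((hx.mul_left hy).mul_left hx.inv_left).mul_left hy.inv_left
  have Bh : ∀ a b, h * cm (x a) (y b) * h⁻¹ = cm (x (ω * a)) (y (ω * b)) := by
    intro a b
    rw [← h_x a, ← h_y b]; unfold cm; group
  have hωω : ω * ω = ω + 1 := by rw [← hω, sq]
  have e11 : cm (x ω) (y ω) = cm (x 1) (y 1) * cm (x ω) (y 1) := by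
    have h1 := Bh 1 1
    rw [mul_one] at h1
    rw [← h1]; exact qc
  have Q11 : cm (x (ω * 1)) (y 1) = cm (x 1) (y (ω * 1)) := by rw [mul_one]; exact qa
  have Q1ω : cm (x (ω * 1)) (y ω) = cm (x 1) (y (ω * ω)) := by
    rw [mul_one, hωω, Br, e11, ← qa]; exact (Bc _ _ _ _).eq
  have Qω1 : cm (x (ω * ω)) (y 1) = cm (x ω) (y (ω * 1)) := by
    rw [mul_one, hωω, Bl, e11]; exact (Bc _ _ _ _).eq
  have Qωω : cm (x (ω * ω)) (y ω) = cm (x ω) (y (ω * ω)) := by
    rw [hωω, Bl, Br, qa]
  have Qaddl : ∀ a a' b, cm (x (ω * a)) (y b) = cm (x a) (y (ω * b)) →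
      cm (x (ω * a')) (y b) = cm (x a') (y (ω * b)) →
      cm (x (ω * (a + a'))) (y b) = cm (x (a + a')) (y (ω * b)) := by
    intro a a' b h1 h2
    rw [mul_add, Bl, Bl, h1, h2]
  have Qaddr : ∀ a b b', cm (x (ω * a)) (y b) = cm (x a) (y (ω * b)) →
      cm (x (ω * a)) (y b') = cm (x a) (y (ω * b')) →
      cm (x (ω * a)) (y (b + b')) = cm (x a) (y (ω * (b + b'))) := by
    intro a b b' h1 h2
    rw [mul_add, Br, Br, h1, h2]
  have Q0l : ∀ b, cm (x (ω * 0)) (y b) = cm (x 0) (y (ω * b)) := by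
    intro b; rw [mul_zero, B0l, B0l]
  have Q0r : ∀ a, cm (x (ω * a)) (y 0) = cm (x a) (y (ω * 0)) := by
    intro a; rw [mul_zero, B0r, B0r]
  have Qa1 : ∀ a, cm (x (ω * a)) (y 1) = cm (x a) (y (ω * 1)) := by
    intro a
    rcases h48_four_cases hcard ω hω a with h | h | h | h
    · rw [h]; exact Q0l 1
    · rw [h]; exact Q11
    · rw [h]; exact Qω1
    · rw [h]; exact Qaddl _ _ _ Qω1 Q11
  have Qaω : ∀ a, cm (x (ω * a)) (y ω) = cm (x a) (y (ω * ω)) := by
    intro a
    rcases h48_four_cases hcard ω hω a with h | h | h | h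
    · rw [h]; exact Q0l ω
    · rw [h]; exact Q1ω
    · rw [h]; exact Qωω
    · rw [h]; exact Qaddl _ _ _ Qωω Q1ω
  have Qall : ∀ a b, cm (x (ω * a)) (y b) = cm (x a) (y (ω * b)) := by
    intro a b
    rcases h48_four_cases hcard ω hω b with h | h | h | h
    · rw [h]; exact Q0r a
    · rw [h]; exact Qa1 a
    · rw [h]; exact Qaω a
    · rw [h]; exact Qaddr _ _ _ (Qaω a) (Qa1 a)
  have P : ∀ s a b, cm (x (s * a)) (y b) = cm (x a) (y (s * b)) := by
    intro s a b
    rcases h48_four_cases hcard ω hω s with h | h | h | h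
    · rw [h, zero_mul, zero_mul, B0l, B0r]
    · rw [h, one_mul, one_mul]
    · rw [h]; exact Qall a b
    · rw [h, add_mul, add_mul, one_mul, one_mul, Bl, Br, Qall]
  intro a b
  have h1 := P b a 1
  rw [mul_one] at h1
  rw [mul_comm a b]; exact h1.symm

end Cfsg.Agent.Lib.helper44.SL3

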