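import Mathlib
import Cfsg.Agent.Lib.helper45.RUDefs

/-!
# S2279 piece D (helper48): `Om_shift`
-/

set_option autoImplicit false

namespace Cfsg.Agent.Lib.helper45.RU

open Matrix Cfsg.Agent.Lib.helper44

variable {n : ℕ} {F : Type*} [Field F] {S : Set (Matrix (Fin n) (Fin n) F)}

/-- the vector `J^{-(j+1)} e_l`: entries `(-1)^(n-1-i) * binom(n-1-i+j, j)` -/
def h48_wv (F : Type*) [Field F] (n j : ℕ) : Fin n → F :=
  fun i => (-1) ^ (n - 1 - i.val) * ((n - 1 - i.val + j).choose j : F)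

theorem h48_jm_mulVec_wv_zero (l : Fin n) (hl : l.val + 1 = n) :
    jm F n *ᵥ h48_wv F n 0 = Pi.single l 1 := by
  ext i
  rw [jm_mulVec, Pi.single_apply]
  by_cases hil : i = l
  · subst hil
    rw [dif_neg (by omega), if_pos rfl, add_zero]
    unfold h48_wv
    have : n - 1 - i.val = 0 := by omega
    simp [this]
  · have h1 : i.val + 1 < n := by
      have := i.2
      have : i.val ≠ l.val := fun e => hil (Fin.ext e)
      omega
    rw [dif_pos h1, if_neg hil]
    unfold h48_wv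
    simp only [Nat.add_zero, Nat.choose_zero_right, Nat.cast_one, mul_one]
    have : n - 1 - i.val = (n - 1 - (i.val + 1)) + 1 := by omega
    rw [this, pow_succ]; ring

theorem h48_jm_mulVec_wv_succ (j : ℕ) :
    jm F n *ᵥ h48_wv F n (j + 1) = h48_wv F n j := by
  ext i
  rw [jm_mulVec]
  by_cases h1 : i.val + 1 < n
  · rw [dif_pos h1]
    unfold h48_wv
    simp only
    obtain ⟨m, hm⟩ : ∃ m, n - 1 - (i.val + 1) = m := ⟨_, rfl⟩
    have hm' : n - 1 - i.val = m + 1 := by omega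
    rw [hm, hm']
    have hP : (m + 1 + (j + 1)).choose (j + 1) =
        (m + 1 + j).choose j + (m + (j + 1)).choose (j + 1) := by
      have e1 : m + 1 + (j + 1) = (m + 1 + j) + 1 := by omega
      have e2 : m + (j + 1) = m + 1 + j := by omega
      rw [e1, Nat.choose_succ_succ, e2]
    rw [hP, Nat.cast_add, pow_succ]; ring
  · rw [dif_neg h1, add_zero]
    unfold h48_wv
    have : n - 1 - i.val = 0 := by have := i.2; omega
    simp [this]

theorem h48_pow_mulVec_wv (l : Fin n) (hl : l.val + 1 = n) (j : ℕ) :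
    (jm F n) ^ (j + 1) *ᵥ h48_wv F n j = Pi.single l 1 := by
  induction j with
  | zero => rw [zero_add, pow_one]; exact h48_jm_mulVec_wv_zero l hl
  | succ j ih =>
    rw [pow_succ, ← Matrix.mulVec_mulVec, h48_jm_mulVec_wv_succ, ih]

theorem h48_jm_pow_mem (hS : MatGrp S) (hJ : jm F n ∈ S) (k : ℕ) : (jm F n) ^ k ∈ S := by
  induction k with
  | zero => rw [pow_zero]; exact MatGrp_one_mem hS hJ
  | succ k ih => rw [pow_succ]; exact hS.mul ih hJ

/-- formula (C): the commutator of two transvections -/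
theorem h48_formulaC (a b φ ψ : Fin n → F) (h1 : ψ ⬝ᵥ a = 0) (h2 : ψ ⬝ᵥ b = 0) :
    (1 + vecMulVec a φ) * (1 + vecMulVec b ψ) =
      (1 + vecMulVec a ((φ ⬝ᵥ b) • ψ)) * ((1 + vecMulVec b ψ) * (1 + vecMulVec a φ)) := by
  have hBA : vecMulVec b ψ * vecMulVec a φ = 0 := by
    rw [Matrix.vecMulVec_mul_vecMulVec, h1, zero_smul, Matrix.vecMulVec_zero]
  have hCB : vecMulVec a ((φ ⬝ᵥ b) • ψ) * vecMulVec b ψ = 0 := by
    rw [Matrix.vecMulVec_mul_vecMulVec, smul_dotProduct, h2, smul_zero, zero_smul,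
      Matrix.vecMulVec_zero]
  have hCA : vecMulVec a ((φ ⬝ᵥ b) • ψ) * vecMulVec a φ = 0 := by
    rw [Matrix.vecMulVec_mul_vecMulVec, smul_dotProduct, h1, smul_zero, zero_smul,
      Matrix.vecMulVec_zero]
  have hAB : vecMulVec a φ * vecMulVec b ψ = vecMulVec a ((φ ⬝ᵥ b) • ψ) := by
    rw [Matrix.vecMulVec_mul_vecMulVec]
  simp only [mul_add, add_mul, mul_one, one_mul, hBA, hCB, hCA, hAB, add_zero]
  abel

/-- D -/
theorem Om_shift (hS : MatGrp S) (hJ : jm F n ∈ S) (z l : Fin n) (hz : z.val = 0)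
    (hl : l.val + 1 = n) (j i' : ℕ) (hj : 1 ≤ j) (hij : i' + j + 2 ≤ n) {x y : F}
    (hx : x ∈ Om S l 0) (hy : y ∈ Om S l i') :
    ((n + j - 2).choose (j - 1) : F) * x * y ∈ Om S l (i' + j) := by
  obtain ⟨j0, rfl⟩ : ∃ j0, j = j0 + 1 := ⟨j - 1, by omega⟩
  have e1 : n + (j0 + 1) - 2 = n - 1 + j0 := by omega
  have e2 : j0 + 1 - 1 = j0 := by omega
  rw [e1, e2]
  have hJw : (jm F n) ^ (j0 + 1) *ᵥ h48_wv F n j0 = Pi.single l 1 := h48_pow_mulVec_wv l hl j0
  have hJp : (jm F n) ^ (j0 + 1) ∈ S := h48_jm_pow_mem hS hJ (j0 + 1)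
  have hM : 1 + vecMulVec (h48_wv F n j0) (y • rowv F n (i' + (j0 + 1))) ∈ S := by
    have key := conj_rankOne ((jm F n) ^ (j0 + 1)) (h48_wv F n j0) (y • rowv F n i')
    rw [hJw, Matrix.smul_vecMul, ← rowv_add] at key
    exact hS.conj' hJp ((mem_Om S l i' y).mp hy) key
  have hX : 1 + vecMulVec (Pi.single l 1) (x • rowv F n 0) ∈ S := (mem_Om S l 0 x).mp hx
  have h1 : (y • rowv F n (i' + (j0 + 1))) ⬝ᵥ (Pi.single l 1 : Fin n → F) = 0 := by
    rw [smul_dotProduct, rowv_dot_last _ l hl (by omega), smul_zero]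
  have h2 : (y • rowv F n (i' + (j0 + 1))) ⬝ᵥ h48_wv F n j0 = 0 := by
    rw [smul_dotProduct, rowv_add, ← Matrix.dotProduct_mulVec, hJw,
      rowv_dot_last _ l hl (by omega), smul_zero]
  have h3 : (x • rowv F n 0) ⬝ᵥ h48_wv F n j0 =
      x * ((-1) ^ (n - 1) * ((n - 1 + j0).choose j0 : F)) := by
    rw [smul_dotProduct, rowv_zero z hz, single_dotProduct, one_mul, smul_eq_mul]
    congr 1
    unfold h48_wv
    simp only [hz, Nat.sub_zero]
  have hC := MatGrp_comm_mem hS hX hM (h48_formulaC _ _ _ _ h1 h2)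
  rw [h3, smul_smul] at hC
  have hmem : x * ((-1) ^ (n - 1) * ((n - 1 + j0).choose j0 : F)) * y ∈ Om S l (i' + (j0 + 1)) :=
    hC
  rcases neg_one_pow_eq_or F (n - 1) with he | he
  · rw [he, one_mul] at hmem
    have e : ((n - 1 + j0).choose j0 : F) * x * y = x * ((n - 1 + j0).choose j0 : F) * y := by
      ring
    rw [e]; exact hmem
  · rw [he] at hmem
    have e : x * (-1 * ((n - 1 + j0).choose j0 : F)) * y =
        -(((n - 1 + j0).choose j0 : F) * x * y) := by ring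
    rw [e] at hmem
    exact (Om_neg_iff hS l hl _ (by omega)).mp hmem

end Cfsg.Agent.Lib.helper45.RU

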