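import Mathlib
import Cfsg.Agent.Lib.helper45.RUDefs

/-!
# S2279 piece L (helper48): `lower_of_last_row`
-/

set_option autoImplicit false

namespace Cfsg.Agent.Lib.helper45.RU

open Matrix Cfsg.Agent.Lib.helper44

variable {n : ℕ} {F : Type*} [Field F] {S : Set (Matrix (Fin n) (Fin n) F)}

/-- from the entries `(k, j)` and `(k, j+1)` get the entry `(k-1, j)` -/
theorem h48_lower_row_step (hS : MatGrp S) (hJ : jm F n ∈ S) (c : F) (j j' k k' : Fin n)
    (hj : j.val + 1 = j'.val) (hk : k'.val + 1 = k.val) (hjk : j ≠ k) (hjk' : j ≠ k')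
    (h1 : 1 + vecMulVec (Pi.single k 1) (c • Pi.single j 1) ∈ S)
    (h2 : 1 + vecMulVec (Pi.single k 1) (c • Pi.single j' 1) ∈ S) :
    1 + vecMulVec (Pi.single k' 1) (c • Pi.single j 1) ∈ S := by
  have key := conj_rankOne (jm F n) (Pi.single k 1) (c • Pi.single j (1 : F))
  rw [jm_mulVec_single k k' hk, Matrix.smul_vecMul, single_vecMul_jm j j' hj, smul_add] at key
  have h3 : 1 + vecMulVec (Pi.single k 1) (c • Pi.single j (1 : F) + c • Pi.single j' 1) ∈ S := by
    rw [← rankOne_mul_right _ _ _ (smul_single_dotProduct_single c j k hjk)]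
    exact hS.mul h1 h2
  have h4 := hS.conj hJ h3 key.symm
  rw [← rankOne_mul_left _ _ _ (smul_single_dotProduct_single c j k' hjk')] at h4
  exact hS.cancel_left h1 h4

/-- L -/
theorem lower_of_last_row (hS : MatGrp S) (hJ : jm F n ∈ S) (l : Fin n) (hl : l.val + 1 = n)
    (c : F) (h : ∀ j : Fin n, j ≠ l → 1 + Matrix.single l j c ∈ S) :
    ∀ j k : Fin n, j < k → 1 + Matrix.single k j c ∈ S := by
  have key : ∀ d : ℕ, ∀ k : Fin n, k.val + d + 1 = n → ∀ j : Fin n, j < k →
      1 + vecMulVec (Pi.single k 1) (c • Pi.single j (1 : F)) ∈ S := by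
    intro d
    induction d with
    | zero =>
      intro k hk j hjk
      have hkl : k = l := Fin.ext (by omega)
      subst hkl
      rw [← one_add_single_eq]
      exact h j (ne_of_lt hjk)
    | succ d ih =>
      intro k hk j hjk
      have hjk' : j.val < k.val := hjk
      have h1 := ih ⟨k.val + 1, by omega⟩ (by simp only; omega) j (by
        rw [Fin.lt_def]; simp only; omega)
      have h2 := ih ⟨k.val + 1, by omega⟩ (by simp only; omega) ⟨j.val + 1, by omega⟩ (by
        rw [Fin.lt_def]; simp only; omega)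
      refine h48_lower_row_step hS hJ c j ⟨j.val + 1, by omega⟩ ⟨k.val + 1, by omega⟩ k rfl rfl
        ?_ ?_ h1 h2
      · intro e
        have := congrArg Fin.val e
        simp only at this
        omega
      · exact ne_of_lt hjk
  intro j k hjk
  rw [one_add_single_eq]
  exact key (n - 1 - k.val) k (by have := k.2; omega) j hjk

end Cfsg.Agent.Lib.helper45.RU

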