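import Cfsg.Agent.Lib.helper47.D4T

set_option autoImplicit false

namespace Cfsg.Agent.Lib.helper48.D4

open Matrix Cfsg Cfsg.Lie Cfsg.Agent.Lib.helper95.D4 Cfsg.Agent.Lib.helper47.D4

variable {F : Type*} [Field F]


theorem helper48_Eg8_le_Og8 : Eg8 F ≤ Og8 F := by
  unfold Eg8
  rw [Subgroup.closure_le]
  rintro g ⟨r, t, hg⟩
  rw [SetLike.mem_coe, mem_Og8]
  intro v
  rw [hg]
  exact h47_Q r t v

theorem helper48_B8_eq (u v : Fin 8 → F) : B8 u v = Q8 (u + v) - Q8 u - Q8 v := by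
  simp only [B8, Q8, Pi.add_apply]
  ring

/-- isometries of `Q8` preserve the polar form -/
theorem helper48_Og8_B8 (g : GL (Fin 8) F) (hg : g ∈ Og8 F) (u v : Fin 8 → F) :
    B8 ((g : Matrix (Fin 8) (Fin 8) F) *ᵥ u) ((g : Matrix (Fin 8) (Fin 8) F) *ᵥ v) = B8 u v := by
  rw [helper48_B8_eq, helper48_B8_eq, ← Matrix.mulVec_add, (mem_Og8 g).mp hg, (mem_Og8 g).mp hg,
    (mem_Og8 g).mp hg]

theorem helper48_gl8_mulVec_ne (g : GL (Fin 8) F) (u : Fin 8 → F) (hu : u ≠ 0) :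
    (g : Matrix (Fin 8) (Fin 8) F) *ᵥ u ≠ 0 := by
  intro h
  apply hu
  have : ((g⁻¹ : GL (Fin 8) F) : Matrix (Fin 8) (Fin 8) F) *ᵥ
      ((g : Matrix (Fin 8) (Fin 8) F) *ᵥ u) = u := by
    rw [Matrix.mulVec_mulVec, ← Matrix.GeneralLinearGroup.coe_mul, inv_mul_cancel, Units.val_one,
      Matrix.one_mulVec]
  rw [← this, h, Matrix.mulVec_zero]

theorem helper48_coe8_mul_mulVec (a b : GL (Fin 8) F) (u : Fin 8 → F) :
    ((a * b : GL (Fin 8) F) : Matrix (Fin 8) (Fin 8) F) *ᵥ u =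
      (a : Matrix (Fin 8) (Fin 8) F) *ᵥ ((b : Matrix (Fin 8) (Fin 8) F) *ᵥ u) := by
  rw [Matrix.GeneralLinearGroup.coe_mul, Matrix.mulVec_mulVec]

theorem helper48_B8_e0 (u : Fin 8 → F) : B8 u (Pi.single 0 1) = u 4 := by simp [B8]
theorem helper48_B8_e4 (u : Fin 8 → F) : B8 u (Pi.single 4 1) = u 0 := by simp [B8]
theorem helper48_B8_e1 (u : Fin 8 → F) : B8 u (Pi.single 1 1) = u 5 := by simp [B8]
theorem helper48_B8_e5 (u : Fin 8 → F) : B8 u (Pi.single 5 1) = u 1 := by simp [B8]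
theorem helper48_B8_e2 (u : Fin 8 → F) : B8 u (Pi.single 2 1) = u 6 := by simp [B8]
theorem helper48_B8_e6 (u : Fin 8 → F) : B8 u (Pi.single 6 1) = u 2 := by simp [B8]

theorem helper48_Q8_single (i : Fin 8) (c : F) : Q8 (Pi.single i c) = 0 := by
  fin_cases i <;> simp [Q8]

theorem helper48_single8_ne (i : Fin 8) : (Pi.single i 1 : Fin 8 → F) ≠ 0 := by
  intro h
  have := congrFun h i
  simp at this

/-- if `h` fixes `single k 1` and `B8 u (single k 1) = u k'` then `h` preserves the `k'`-coordinate -/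
theorem helper48_coord (h : GL (Fin 8) F) (hO : h ∈ Og8 F) (k k' : Fin 8)
    (hB : ∀ u : Fin 8 → F, B8 u (Pi.single k 1) = u k')
    (hfix : (h : Matrix (Fin 8) (Fin 8) F) *ᵥ Pi.single k 1 = Pi.single k 1) (v : Fin 8 → F) :
    ((h : Matrix (Fin 8) (Fin 8) F) *ᵥ v) k' = v k' := by
  have h1 := helper48_Og8_B8 h hO v (Pi.single k 1)
  rw [hfix, hB, hB] at h1
  exact h1

theorem Og8_decomp (g : GL (Fin 8) F) (hg : g ∈ Og8 F) :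
    ∃ e ∈ Eg8 F, ∃ c : F, c ≠ 0 ∧
      (((e * g : GL (Fin 8) F) : Matrix (Fin 8) (Fin 8) F) = dgc c ∨
       ((e * g : GL (Fin 8) F) : Matrix (Fin 8) (Fin 8) F) = dgc c * sw) := by
  -- stage 1
  obtain ⟨g₁, hg₁, a1⟩ := T1_0 ((g : Matrix (Fin 8) (Fin 8) F) *ᵥ Pi.single 0 1)
    (helper48_gl8_mulVec_ne g _ (helper48_single8_ne 0))
    (by rw [(mem_Og8 g).mp hg]; exact helper48_Q8_single 0 1)
  have hO1 : g₁ * g ∈ Og8 F := (Og8 F).mul_mem (helper48_Eg8_le_Og8 hg₁) hg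
  have f10 : ((g₁ * g : GL (Fin 8) F) : Matrix (Fin 8) (Fin 8) F) *ᵥ Pi.single 0 1 = Pi.single 0 1 := by
    rw [helper48_coe8_mul_mulVec]; exact a1
  -- stage 2
  obtain ⟨g₂, hg₂, b0, b4⟩ := T2_0 (((g₁ * g : GL (Fin 8) F) : Matrix (Fin 8) (Fin 8) F) *ᵥ Pi.single 4 1)
    (by rw [(mem_Og8 _).mp hO1]; exact helper48_Q8_single 4 1)
    (by rw [helper48_coord _ hO1 0 4 helper48_B8_e0 f10]; simp)
  have hO2 : g₂ * (g₁ * g) ∈ Og8 F := (Og8 F).mul_mem (helper48_Eg8_le_Og8 hg₂) hO1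
  have f20 : ((g₂ * (g₁ * g) : GL (Fin 8) F) : Matrix (Fin 8) (Fin 8) F) *ᵥ Pi.single 0 1 = Pi.single 0 1 := by
    rw [helper48_coe8_mul_mulVec, f10]; exact b0
  have f24 : ((g₂ * (g₁ * g) : GL (Fin 8) F) : Matrix (Fin 8) (Fin 8) F) *ᵥ Pi.single 4 1 = Pi.single 4 1 := by
    rw [helper48_coe8_mul_mulVec]; exact b4
  -- stage 3
  obtain ⟨g₃, hg₃, c0, c4, c1⟩ :=
    T1_1 (((g₂ * (g₁ * g) : GL (Fin 8) F) : Matrix (Fin 8) (Fin 8) F) *ᵥ Pi.single 1 1)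
    (helper48_gl8_mulVec_ne _ _ (helper48_single8_ne 1))
    (by rw [(mem_Og8 _).mp hO2]; exact helper48_Q8_single 1 1)
    (by rw [helper48_coord _ hO2 4 0 helper48_B8_e4 f24]; simp)
    (by rw [helper48_coord _ hO2 0 4 helper48_B8_e0 f20]; simp)
  have hO3 : g₃ * (g₂ * (g₁ * g)) ∈ Og8 F := (Og8 F).mul_mem (helper48_Eg8_le_Og8 hg₃) hO2
  have f30 : ((g₃ * (g₂ * (g₁ * g)) : GL (Fin 8) F) : Matrix (Fin 8) (Fin 8) F) *ᵥ Pi.single 0 1 =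
      Pi.single 0 1 := by
    rw [helper48_coe8_mul_mulVec, f20]; exact c0
  have f34 : ((g₃ * (g₂ * (g₁ * g)) : GL (Fin 8) F) : Matrix (Fin 8) (Fin 8) F) *ᵥ Pi.single 4 1 =
      Pi.single 4 1 := by
    rw [helper48_coe8_mul_mulVec, f24]; exact c4
  have f31 : ((g₃ * (g₂ * (g₁ * g)) : GL (Fin 8) F) : Matrix (Fin 8) (Fin 8) F) *ᵥ Pi.single 1 1 =
      Pi.single 1 1 := by
    rw [helper48_coe8_mul_mulVec]; exact c1
  -- stage 4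
  obtain ⟨g₄, hg₄, d0, d4, d1, d5⟩ :=
    T2_1 (((g₃ * (g₂ * (g₁ * g)) : GL (Fin 8) F) : Matrix (Fin 8) (Fin 8) F) *ᵥ Pi.single 5 1)
    (by rw [(mem_Og8 _).mp hO3]; exact helper48_Q8_single 5 1)
    (by rw [helper48_coord _ hO3 4 0 helper48_B8_e4 f34]; simp)
    (by rw [helper48_coord _ hO3 0 4 helper48_B8_e0 f30]; simp)
    (by rw [helper48_coord _ hO3 1 5 helper48_B8_e1 f31]; simp)
  have hO4 : g₄ * (g₃ * (g₂ * (g₁ * g))) ∈ Og8 F := (Og8 F).mul_mem (helper48_Eg8_le_Og8 hg₄) hO3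
  have f40 : ((g₄ * (g₃ * (g₂ * (g₁ * g))) : GL (Fin 8) F) : Matrix (Fin 8) (Fin 8) F) *ᵥ
      Pi.single 0 1 = Pi.single 0 1 := by
    rw [helper48_coe8_mul_mulVec, f30]; exact d0
  have f44 : ((g₄ * (g₃ * (g₂ * (g₁ * g))) : GL (Fin 8) F) : Matrix (Fin 8) (Fin 8) F) *ᵥ
      Pi.single 4 1 = Pi.single 4 1 := by
    rw [helper48_coe8_mul_mulVec, f34]; exact d4
  have f41 : ((g₄ * (g₃ * (g₂ * (g₁ * g))) : GL (Fin 8) F) : Matrix (Fin 8) (Fin 8) F) *ᵥ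
      Pi.single 1 1 = Pi.single 1 1 := by
    rw [helper48_coe8_mul_mulVec, f31]; exact d1
  have f45 : ((g₄ * (g₃ * (g₂ * (g₁ * g))) : GL (Fin 8) F) : Matrix (Fin 8) (Fin 8) F) *ᵥ
      Pi.single 5 1 = Pi.single 5 1 := by
    rw [helper48_coe8_mul_mulVec]; exact d5
  -- stage 5
  obtain ⟨g₅, hg₅, e0, e4, e1, e5, e2⟩ :=
    T1_2 (((g₄ * (g₃ * (g₂ * (g₁ * g))) : GL (Fin 8) F) : Matrix (Fin 8) (Fin 8) F) *ᵥ Pi.single 2 1)
    (helper48_gl8_mulVec_ne _ _ (helper48_single8_ne 2))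
    (by rw [(mem_Og8 _).mp hO4]; exact helper48_Q8_single 2 1)
    (by rw [helper48_coord _ hO4 4 0 helper48_B8_e4 f44]; simp)
    (by rw [helper48_coord _ hO4 0 4 helper48_B8_e0 f40]; simp)
    (by rw [helper48_coord _ hO4 5 1 helper48_B8_e5 f45]; simp)
    (by rw [helper48_coord _ hO4 1 5 helper48_B8_e1 f41]; simp)
  have hO5 : g₅ * (g₄ * (g₃ * (g₂ * (g₁ * g)))) ∈ Og8 F :=
    (Og8 F).mul_mem (helper48_Eg8_le_Og8 hg₅) hO4
  have f50 : ((g₅ * (g₄ * (g₃ * (g₂ * (g₁ * g)))) : GL (Fin 8) F) : Matrix (Fin 8) (Fin 8) F) *ᵥ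
      Pi.single 0 1 = Pi.single 0 1 := by
    rw [helper48_coe8_mul_mulVec, f40]; exact e0
  have f54 : ((g₅ * (g₄ * (g₃ * (g₂ * (g₁ * g)))) : GL (Fin 8) F) : Matrix (Fin 8) (Fin 8) F) *ᵥ
      Pi.single 4 1 = Pi.single 4 1 := by
    rw [helper48_coe8_mul_mulVec, f44]; exact e4
  have f51 : ((g₅ * (g₄ * (g₃ * (g₂ * (g₁ * g)))) : GL (Fin 8) F) : Matrix (Fin 8) (Fin 8) F) *ᵥ
      Pi.single 1 1 = Pi.single 1 1 := by
    rw [helper48_coe8_mul_mulVec, f41]; exact e1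
  have f55 : ((g₅ * (g₄ * (g₃ * (g₂ * (g₁ * g)))) : GL (Fin 8) F) : Matrix (Fin 8) (Fin 8) F) *ᵥ
      Pi.single 5 1 = Pi.single 5 1 := by
    rw [helper48_coe8_mul_mulVec, f45]; exact e5
  have f52 : ((g₅ * (g₄ * (g₃ * (g₂ * (g₁ * g)))) : GL (Fin 8) F) : Matrix (Fin 8) (Fin 8) F) *ᵥ
      Pi.single 2 1 = Pi.single 2 1 := by
    rw [helper48_coe8_mul_mulVec]; exact e2
  -- stage 6
  obtain ⟨g₆, hg₆, k0, k4, k1, k5, k2, k6⟩ :=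
    T2_2 (((g₅ * (g₄ * (g₃ * (g₂ * (g₁ * g)))) : GL (Fin 8) F) : Matrix (Fin 8) (Fin 8) F) *ᵥ
      Pi.single 6 1)
    (by rw [(mem_Og8 _).mp hO5]; exact helper48_Q8_single 6 1)
    (by rw [helper48_coord _ hO5 4 0 helper48_B8_e4 f54]; simp)
    (by rw [helper48_coord _ hO5 0 4 helper48_B8_e0 f50]; simp)
    (by rw [helper48_coord _ hO5 5 1 helper48_B8_e5 f55]; simp)
    (by rw [helper48_coord _ hO5 1 5 helper48_B8_e1 f51]; simp)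
    (by rw [helper48_coord _ hO5 2 6 helper48_B8_e2 f52]; simp)
  have hO6 : g₆ * (g₅ * (g₄ * (g₃ * (g₂ * (g₁ * g))))) ∈ Og8 F :=
    (Og8 F).mul_mem (helper48_Eg8_le_Og8 hg₆) hO5
  -- stage 7
  obtain ⟨c, hc, hfin⟩ := T5 (g₆ * (g₅ * (g₄ * (g₃ * (g₂ * (g₁ * g)))))) hO6
    (by rw [helper48_coe8_mul_mulVec, f50]; exact k0)
    (by rw [helper48_coe8_mul_mulVec, f54]; exact k4)
    (by rw [helper48_coe8_mul_mulVec, f51]; exact k1)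
    (by rw [helper48_coe8_mul_mulVec, f55]; exact k5)
    (by rw [helper48_coe8_mul_mulVec, f52]; exact k2)
    (by rw [helper48_coe8_mul_mulVec]; exact k6)
  refine ⟨g₆ * g₅ * g₄ * g₃ * g₂ * g₁,
    (Eg8 F).mul_mem ((Eg8 F).mul_mem ((Eg8 F).mul_mem ((Eg8 F).mul_mem ((Eg8 F).mul_mem hg₆ hg₅) hg₄)
      hg₃) hg₂) hg₁, c, hc, ?_⟩
  have hassoc : g₆ * g₅ * g₄ * g₃ * g₂ * g₁ * g = g₆ * (g₅ * (g₄ * (g₃ * (g₂ * (g₁ * g))))) := by
    simp only [mul_assoc]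
  rw [hassoc]
  exact hfin

end Cfsg.Agent.Lib.helper48.D4
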