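import Cfsg.Agent.Lib.helper32.B2T2
import Cfsg.Agent.Lib.helper32.B2T4
import Cfsg.Agent.Lib.helper52.B2T5

set_option autoImplicit false

namespace Cfsg.Agent.Lib.helper95.B2

open Matrix Cfsg Cfsg.Lie

variable {F : Type*} [Field F]

theorem helper48_E5_le_O5 : E5 F ≤ O5 F := by
  unfold E5
  rw [Subgroup.closure_le]
  rintro g ⟨r, t, hg⟩
  rw [SetLike.mem_coe, mem_O5]
  intro v
  rw [hg]
  exact helper32_N5_Q r t v

theorem helper48_B5_eq (u v : Fin 5 → F) : B5 u v = Q5 (u + v) - Q5 u - Q5 v := by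
  simp only [B5, Q5, Pi.add_apply]
  ring

/-- isometries of `Q5` preserve the polar form -/
theorem helper48_O5_B5 (g : GL (Fin 5) F) (hg : g ∈ O5 F) (u v : Fin 5 → F) :
    B5 ((g : Matrix (Fin 5) (Fin 5) F) *ᵥ u) ((g : Matrix (Fin 5) (Fin 5) F) *ᵥ v) = B5 u v := by
  rw [helper48_B5_eq, helper48_B5_eq, ← Matrix.mulVec_add, (mem_O5 g).mp hg, (mem_O5 g).mp hg,
    (mem_O5 g).mp hg]

/-! ## Piece CH -/

theorem helper48_gl_mulVec_ne (g : GL (Fin 5) F) (u : Fin 5 → F) (hu : u ≠ 0) :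
    (g : Matrix (Fin 5) (Fin 5) F) *ᵥ u ≠ 0 := by
  intro h
  apply hu
  have : ((g⁻¹ : GL (Fin 5) F) : Matrix (Fin 5) (Fin 5) F) *ᵥ
      ((g : Matrix (Fin 5) (Fin 5) F) *ᵥ u) = u := by
    rw [Matrix.mulVec_mulVec, ← Matrix.GeneralLinearGroup.coe_mul, inv_mul_cancel, Units.val_one,
      Matrix.one_mulVec]
  rw [← this, h, Matrix.mulVec_zero]

theorem helper48_coe_mul_mulVec (a b : GL (Fin 5) F) (u : Fin 5 → F) :
    ((a * b : GL (Fin 5) F) : Matrix (Fin 5) (Fin 5) F) *ᵥ u =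
      (a : Matrix (Fin 5) (Fin 5) F) *ᵥ ((b : Matrix (Fin 5) (Fin 5) F) *ᵥ u) := by
  rw [Matrix.GeneralLinearGroup.coe_mul, Matrix.mulVec_mulVec]

theorem helper48_B5_e1 (u : Fin 5 → F) : B5 u (Pi.single 1 1) = u 3 := by
  simp [B5]

theorem helper48_B5_e3 (u : Fin 5 → F) : B5 u (Pi.single 3 1) = u 1 := by
  simp [B5]

theorem helper48_B5_e2 (u : Fin 5 → F) (c : F) : B5 u (Pi.single 2 c) = u 4 * c := by
  simp [B5]

theorem helper48_Q5_single (i : Fin 5) (hi : i ≠ 0) (c : F) : Q5 (Pi.single i c) = 0 := by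
  fin_cases i <;> simp [Q5] at hi ⊢

theorem helper48_single_ne (i : Fin 5) : (Pi.single i 1 : Fin 5 → F) ≠ 0 := by
  intro h
  have := congrFun h i
  simp at this

theorem helper48_key (h : GL (Fin 5) F) (hO : h ∈ O5 F) (w w' : Fin 5 → F)
    (hw : (h : Matrix (Fin 5) (Fin 5) F) *ᵥ w = w') (v : Fin 5 → F) :
    B5 ((h : Matrix (Fin 5) (Fin 5) F) *ᵥ v) w' = B5 v w := by
  rw [← hw, helper48_O5_B5 _ hO]

theorem O5_decomp (g : GL (Fin 5) F) (hg : g ∈ O5 F) :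
    ∃ e ∈ E5 F, ∃ ε c : F, ε * ε = 1 ∧ c ≠ 0 ∧
      ((e * g : GL (Fin 5) F) : Matrix (Fin 5) (Fin 5) F) = dg ε 1 c := by
  -- step 1
  obtain ⟨g₁, hg₁, h11⟩ := T1 ((g : Matrix (Fin 5) (Fin 5) F) *ᵥ Pi.single 1 1)
    (helper48_gl_mulVec_ne g _ (helper48_single_ne 1))
    (by rw [(mem_O5 g).mp hg]; exact helper48_Q5_single 1 (by decide) 1)
  have hO1 : g₁ * g ∈ O5 F := (O5 F).mul_mem (helper48_E5_le_O5 hg₁) hg
  have e11 : ((g₁ * g : GL (Fin 5) F) : Matrix (Fin 5) (Fin 5) F) *ᵥ Pi.single 1 1 = Pi.single 1 1 := by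
    rw [helper48_coe_mul_mulVec]; exact h11
  -- step 2
  obtain ⟨g₂, hg₂, h21, h23⟩ := T2 (((g₁ * g : GL (Fin 5) F) : Matrix (Fin 5) (Fin 5) F) *ᵥ Pi.single 3 1)
    (by rw [(mem_O5 _).mp hO1]; exact helper48_Q5_single 3 (by decide) 1)
    (by
      have := helper48_key _ hO1 _ _ e11 (Pi.single 3 1)
      rw [helper48_B5_e1, helper48_B5_e1] at this
      simpa using this)
  have hO2 : g₂ * (g₁ * g) ∈ O5 F := (O5 F).mul_mem (helper48_E5_le_O5 hg₂) hO1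
  have e21 : ((g₂ * (g₁ * g) : GL (Fin 5) F) : Matrix (Fin 5) (Fin 5) F) *ᵥ Pi.single 1 1 = Pi.single 1 1 := by
    rw [helper48_coe_mul_mulVec, e11]; exact h21
  have e23 : ((g₂ * (g₁ * g) : GL (Fin 5) F) : Matrix (Fin 5) (Fin 5) F) *ᵥ Pi.single 3 1 = Pi.single 3 1 := by
    rw [helper48_coe_mul_mulVec]; exact h23
  -- step 3
  obtain ⟨g₃, hg₃, c, hc, h31, h33, h32⟩ :=
    T3 (((g₂ * (g₁ * g) : GL (Fin 5) F) : Matrix (Fin 5) (Fin 5) F) *ᵥ Pi.single 2 1)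
    (helper48_gl_mulVec_ne _ _ (helper48_single_ne 2))
    (by rw [(mem_O5 _).mp hO2]; exact helper48_Q5_single 2 (by decide) 1)
    (by
      have := helper48_key _ hO2 _ _ e23 (Pi.single 2 1)
      rw [helper48_B5_e3, helper48_B5_e3] at this
      simpa using this)
    (by
      have := helper48_key _ hO2 _ _ e21 (Pi.single 2 1)
      rw [helper48_B5_e1, helper48_B5_e1] at this
      simpa using this)
  have hO3 : g₃ * (g₂ * (g₁ * g)) ∈ O5 F := (O5 F).mul_mem (helper48_E5_le_O5 hg₃) hO2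
  have e31 : ((g₃ * (g₂ * (g₁ * g)) : GL (Fin 5) F) : Matrix (Fin 5) (Fin 5) F) *ᵥ Pi.single 1 1 =
      Pi.single 1 1 := by
    rw [helper48_coe_mul_mulVec, e21]; exact h31
  have e33 : ((g₃ * (g₂ * (g₁ * g)) : GL (Fin 5) F) : Matrix (Fin 5) (Fin 5) F) *ᵥ Pi.single 3 1 =
      Pi.single 3 1 := by
    rw [helper48_coe_mul_mulVec, e23]; exact h33
  have e32 : ((g₃ * (g₂ * (g₁ * g)) : GL (Fin 5) F) : Matrix (Fin 5) (Fin 5) F) *ᵥ Pi.single 2 1 =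
      Pi.single 2 c := by
    rw [helper48_coe_mul_mulVec]; exact h32
  -- step 4
  set u4 := ((g₃ * (g₂ * (g₁ * g)) : GL (Fin 5) F) : Matrix (Fin 5) (Fin 5) F) *ᵥ Pi.single 4 1 with hu4
  have hu41 : u4 1 = 0 := by
    have := helper48_key _ hO3 _ _ e33 (Pi.single 4 1)
    rw [helper48_B5_e3, helper48_B5_e3] at this
    rw [hu4, this]; simp
  have hu43 : u4 3 = 0 := by
    have := helper48_key _ hO3 _ _ e31 (Pi.single 4 1)
    rw [helper48_B5_e1, helper48_B5_e1] at this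
    rw [hu4, this]; simp
  have hu44 : u4 4 * c = 1 := by
    have := helper48_key _ hO3 _ _ e32 (Pi.single 4 1)
    rw [helper48_B5_e2, helper48_B5_e2] at this
    rw [hu4, this]; simp
  have hu4Q : Q5 u4 = 0 := by
    rw [hu4, (mem_O5 _).mp hO3]; exact helper48_Q5_single 4 (by decide) 1
  obtain ⟨g₄, hg₄, h41, h43, h42, h44⟩ := T4 (c • u4)
    (by
      have : Q5 (c • u4) = c ^ 2 * Q5 u4 := by simp [Q5]; ring
      rw [this, hu4Q, mul_zero])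
    (by simp [hu41]) (by simp [hu43]) (by simp; rw [mul_comm]; exact hu44)
  have hO4 : g₄ * (g₃ * (g₂ * (g₁ * g))) ∈ O5 F := (O5 F).mul_mem (helper48_E5_le_O5 hg₄) hO3
  have h44' : (g₄ : Matrix (Fin 5) (Fin 5) F) *ᵥ u4 = Pi.single 4 c⁻¹ := by
    have : u4 = c⁻¹ • (c • u4) := by rw [smul_smul, inv_mul_cancel₀ hc, one_smul]
    rw [this, Matrix.mulVec_smul, h44]
    ext i
    simp [Pi.single_apply]
  have h42' : (g₄ : Matrix (Fin 5) (Fin 5) F) *ᵥ Pi.single 2 c = Pi.single 2 c := by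
    have : (Pi.single 2 c : Fin 5 → F) = c • Pi.single 2 1 := by
      ext i
      simp [Pi.single_apply]
    rw [this, Matrix.mulVec_smul, h42]
  obtain ⟨ε, hε, hfin⟩ := T5 (g₄ * (g₃ * (g₂ * (g₁ * g)))) hO4 c hc
    (by rw [helper48_coe_mul_mulVec, e31]; exact h41)
    (by rw [helper48_coe_mul_mulVec, e33]; exact h43)
    (by rw [helper48_coe_mul_mulVec, e32]; exact h42')
    (by rw [helper48_coe_mul_mulVec, ← hu4]; exact h44')
  refine ⟨g₄ * g₃ * g₂ * g₁, (E5 F).mul_mem ((E5 F).mul_mem ((E5 F).mul_mem hg₄ hg₃) hg₂) hg₁,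
    ε, c, hε, hc, ?_⟩
  rw [← hfin]
  simp only [mul_assoc]

end Cfsg.Agent.Lib.helper95.B2
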