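import Cfsg.Agent.Lib.helper95.B2Defs

set_option autoImplicit false

namespace Cfsg.Agent.Lib.helper95.B2

open Matrix Cfsg Cfsg.Lie

variable {F : Type*} [Field F]

theorem helper48_N5_mul_neg (r : Fin 8) (t : F) : N5 r t * N5 r (-t) = 1 := by
  fin_cases r <;>
  · ext i j
    fin_cases i <;> fin_cases j <;>
      simp [N5, Matrix.mul_apply, Fin.sum_univ_succ] <;> ring

/-- the root element `N5 r t` as an element of `GL₅(F)` -/
def helper48_N5gl (r : Fin 8) (t : F) : GL (Fin 5) F :=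
  ⟨N5 r t, N5 r (-t), helper48_N5_mul_neg r t, by
    have := helper48_N5_mul_neg r (-t)
    rwa [neg_neg] at this⟩

theorem helper48_N5gl_coe (r : Fin 8) (t : F) :
    ((helper48_N5gl r t : GL (Fin 5) F) : Matrix (Fin 5) (Fin 5) F) = N5 r t := rfl

theorem helper48_N5gl_mem (r : Fin 8) (t : F) : helper48_N5gl r t ∈ E5 F :=
  Subgroup.subset_closure ⟨r, t, rfl⟩

/-- one reduction step: it suffices to reach the target from `N5 r t *ᵥ u` -/
theorem helper48_step (r : Fin 8) (t : F) (u v : Fin 5 → F)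
    (h : ∃ g ∈ E5 F, (g : Matrix (Fin 5) (Fin 5) F) *ᵥ (N5 r t *ᵥ u) = v) :
    ∃ g ∈ E5 F, (g : Matrix (Fin 5) (Fin 5) F) *ᵥ u = v := by
  obtain ⟨g, hg, hgu⟩ := h
  refine ⟨g * helper48_N5gl r t, (E5 F).mul_mem hg (helper48_N5gl_mem r t), ?_⟩
  rw [Matrix.GeneralLinearGroup.coe_mul, helper48_N5gl_coe, ← Matrix.mulVec_mulVec]
  exact hgu

theorem helper48_N5_0 (t a b c d e : F) :
    N5 0 t *ᵥ ![a, b, c, d, e] = ![a, b, c, t * c + d, -t * b + e] := by
  ext i
  fin_cases i <;> simp [N5, Matrix.mulVec, dotProduct, Fin.sum_univ_succ]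

theorem helper48_N5_1 (t a b c d e : F) :
    N5 1 t *ᵥ ![a, b, c, d, e] = ![a + t * b, b, c, -(2 * t) * a - t ^ 2 * b + d, e] := by
  ext i
  fin_cases i <;> simp [N5, Matrix.mulVec, dotProduct, Fin.sum_univ_succ] <;> ring

theorem helper48_N5_3 (t a b c d e : F) :
    N5 3 t *ᵥ ![a, b, c, d, e] = ![a, b, -t * b + c, d + t * e, e] := by
  ext i
  fin_cases i <;> simp [N5, Matrix.mulVec, dotProduct, Fin.sum_univ_succ]

theorem helper48_N5_4 (t a b c d e : F) :
    N5 4 t *ᵥ ![a, b, c, d, e] = ![a, b - t * c, c, d, t * d + e] := by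
  ext i
  fin_cases i <;> simp [N5, Matrix.mulVec, dotProduct, Fin.sum_univ_succ] <;> ring

theorem helper48_N5_6 (t a b c d e : F) :
    N5 6 t *ᵥ ![a, b, c, d, e] = ![a - t * d, 2 * t * a + b - t ^ 2 * d, c, d, e] := by
  ext i
  fin_cases i <;> simp [N5, Matrix.mulVec, dotProduct, Fin.sum_univ_succ] <;> ring

theorem helper48_N5_7 (t a b c d e : F) :
    N5 7 t *ᵥ ![a, b, c, d, e] = ![a, b - t * e, c + t * d, d, e] := by
  ext i
  fin_cases i <;> simp [N5, Matrix.mulVec, dotProduct, Fin.sum_univ_succ] <;> ring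

theorem helper48_e1 : (Pi.single 1 1 : Fin 5 → F) = ![0, 1, 0, 0, 0] := by
  ext i
  fin_cases i <;> simp

theorem helper48_vec (u : Fin 5 → F) : u = ![u 0, u 1, u 2, u 3, u 4] := by
  ext i
  fin_cases i <;> rfl

/-- second coordinate `1` -/
theorem helper48_T1_L3 (a c d e : F) (hQ : a ^ 2 + d + c * e = 0) :
    ∃ g ∈ E5 F, (g : Matrix (Fin 5) (Fin 5) F) *ᵥ ![a, 1, c, d, e] = ![0, 1, 0, 0, 0] := by
  apply helper48_step 1 (-a)
  rw [helper48_N5_1]
  apply helper48_step 3 c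
  rw [helper48_N5_3]
  apply helper48_step 0 e
  rw [helper48_N5_0]
  refine ⟨1, (E5 F).one_mem, ?_⟩
  rw [Units.val_one, Matrix.one_mulVec]
  have h3 : e * (-c * 1 + c) + (-(2 * -a) * a - (-a) ^ 2 * 1 + d + c * e) = 0 := by
    linear_combination hQ
  have h0 : a + -a * 1 = 0 := by ring
  have h2 : -c * 1 + c = 0 := by ring
  have h4 : -e * 1 + e = 0 := by ring
  rw [h3, h0, h2, h4]

/-- third coordinate nonzero -/
theorem helper48_T1_L2 (a b c d e : F) (hc : c ≠ 0) (hQ : a ^ 2 + b * d + c * e = 0) :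
    ∃ g ∈ E5 F, (g : Matrix (Fin 5) (Fin 5) F) *ᵥ ![a, b, c, d, e] = ![0, 1, 0, 0, 0] := by
  apply helper48_step 4 ((b - 1) / c)
  rw [helper48_N5_4]
  have h1 : b - (b - 1) / c * c = 1 := by field_simp; ring
  rw [h1]
  apply helper48_T1_L3
  have : (b - 1) / c * c = b - 1 := by field_simp
  linear_combination hQ + d * this

/-- second coordinate nonzero -/
theorem helper48_T1_L1 (a b c d e : F) (hb : b ≠ 0) (hQ : a ^ 2 + b * d + c * e = 0) :
    ∃ g ∈ E5 F, (g : Matrix (Fin 5) (Fin 5) F) *ᵥ ![a, b, c, d, e] = ![0, 1, 0, 0, 0] := by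
  by_cases hc : c = 0
  · apply helper48_step 3 1
    rw [helper48_N5_3]
    apply helper48_T1_L2
    · rw [hc]; simpa using hb
    · linear_combination hQ
  · exact helper48_T1_L2 a b c d e hc hQ

theorem helper48_T1_L0 (a b c d e : F) (hne : ![a, b, c, d, e] ≠ 0)
    (hQ : a ^ 2 + b * d + c * e = 0) :
    ∃ g ∈ E5 F, (g : Matrix (Fin 5) (Fin 5) F) *ᵥ ![a, b, c, d, e] = ![0, 1, 0, 0, 0] := by
  by_cases hb : b = 0
  swap
  · exact helper48_T1_L1 a b c d e hb hQ
  by_cases he : e = 0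
  swap
  · apply helper48_step 7 1
    rw [helper48_N5_7]
    apply helper48_T1_L1
    · rw [hb]; simpa using he
    · linear_combination hQ
  by_cases hc : c = 0
  swap
  · exact helper48_T1_L2 a b c d e hc hQ
  subst hb he hc
  have ha : a = 0 := by
    have : a ^ 2 = 0 := by linear_combination hQ
    exact pow_eq_zero_iff (two_ne_zero) |>.mp this
  subst ha
  have hd : d ≠ 0 := by
    rintro rfl
    apply hne
    ext i
    fin_cases i <;> rfl
  apply helper48_step 6 1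
  rw [helper48_N5_6]
  apply helper48_T1_L1
  · simpa using hd
  · ring

theorem helper48_T1_spare (u : Fin 5 → F) (hu : u ≠ 0) (hQ : Q5 u = 0) :
    ∃ g ∈ E5 F, (g : Matrix (Fin 5) (Fin 5) F) *ᵥ u = Pi.single 1 1 := by
  rw [helper48_e1, helper48_vec u]
  apply helper48_T1_L0
  · rw [← helper48_vec u]; exact hu
  · simpa [Q5] using hQ

end Cfsg.Agent.Lib.helper95.B2
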