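import Mathlib
import Cfsg.Agent.Lib.helper2.BGDefs
import Cfsg.Agent.Lib.helper20.D1EFinal
import Cfsg.Agent.Lib.helper4.CharDecomp
import Cfsg.Agent.Lib.helper81.Kernel
import Cfsg.Agent.Lib.helper97.BFB6a
import Cfsg.Agent.Lib.helper40.BGO00
import Cfsg.Agent.Lib.helper48.BGJ

/-!
S4504 split project, piece O0 (helper48, insurance copy under a prefixed name): the sum of a class
function over the `p`-singular elements.
-/

set_option autoImplicit false

open Cfsg Cfsg.Agent.Lib.helper20.D1E Cfsg.Agent.Lib.helper2.BF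
open scoped ComplexConjugate

namespace Cfsg.Agent.Lib.helper2.BG

universe u

variable {G : Type*} [Group G] [Fintype G]

/-- O0 (sum of a class function over the `p`-singular elements). -/
theorem helper48_psing_sum (p : ℕ) [Fact p.Prime] (P : Sylow p G) (hP : Nat.card P = p)
    (x : G) (hx : x ∈ (P : Subgroup G)) (hx1 : x ≠ 1) (H : Subgroup (ZMod p)ˣ)
    (hH : ∀ r : (ZMod p)ˣ, r ∈ H ↔ ∃ n : G, n * x * n⁻¹ = x ^ ((r : ZMod p).val))
    (hHc : Nat.card H = (Subgroup.centralizer ((P : Subgroup G) : Set G)).relIndex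
        (Subgroup.normalizer ((P : Subgroup G) : Set G)))
    (hK : ∀ k ∈ Subgroup.centralizer ((P : Subgroup G) : Set G), ¬ p ∣ orderOf k →
      k ∈ Subgroup.center G)
    (hZ : ∀ z ∈ Subgroup.center G, ¬ p ∣ orderOf z)
    (F : G → ℂ) (hF : IsClassFunction G F) (hreg : ∀ g, ¬ p ∣ orderOf g → F g = 0)
    (hFz : ∀ g z : G, z ∈ Subgroup.center G → F (g * z) = F g) :
    ((p : ℂ) * (Nat.card H : ℂ)) * ∑ g : G, F g =
      (Nat.card G : ℂ) * ∑ u : (ZMod p)ˣ, F (x ^ ((u : ZMod p).val)) := by
  classical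
  have hTI := Cfsg.Agent.Lib.helper2.BF.norm_TI p P hP x hx hx1 F hF hreg
  obtain ⟨hcard, hiff⟩ := card_centralizer p P hP hK hZ
  have hinner : ∀ u : (ZMod p)ˣ, ∑ k : G, Set.indicator
      {k : G | k ∈ Subgroup.centralizer ((P : Subgroup G) : Set G) ∧ ¬ p ∣ orderOf k}
      (fun k => F (x ^ (u : ZMod p).val * k)) k =
      (Nat.card (Subgroup.center G) : ℂ) * F (x ^ (u : ZMod p).val) := by
    intro u
    rw [← helper48_sum_ind_const]
    refine Finset.sum_congr rfl (fun k _ => ?_)
    simp only [Set.indicator_apply, Set.mem_ofPred_eq, SetLike.mem_coe]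
    by_cases hk : k ∈ Subgroup.center G
    · rw [if_pos ((hiff k).mpr hk), if_pos hk, hFz _ _ hk]
    · rw [if_neg (fun h => hk ((hiff k).mp h)), if_neg hk]
  rw [Finset.sum_congr rfl (fun u _ => hinner u), ← Finset.mul_sum] at hTI
  have hN : Nat.card (Subgroup.normalizer ((P : Subgroup G) : Set G)) =
      Nat.card H * (p * Nat.card (Subgroup.center G)) := by
    have hle : Subgroup.centralizer ((P : Subgroup G) : Set G) ≤
        Subgroup.normalizer ((P : Subgroup G) : Set G) := Subgroup.centralizer_le_normalizer _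
    have h1 := Subgroup.card_mul_index ((Subgroup.centralizer ((P : Subgroup G) : Set G)).subgroupOf
      (Subgroup.normalizer ((P : Subgroup G) : Set G)))
    have h2 : Nat.card ((Subgroup.centralizer ((P : Subgroup G) : Set G)).subgroupOf
        (Subgroup.normalizer ((P : Subgroup G) : Set G))) =
        Nat.card (Subgroup.centralizer ((P : Subgroup G) : Set G)) :=
      Nat.card_congr (Subgroup.subgroupOfEquivOfLe hle).toEquiv
    rw [h2, hcard] at h1
    rw [hHc, ← h1]
    unfold Subgroup.relIndex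
    ring
  have hZ0 : (Nat.card (Subgroup.center G) : ℂ) ≠ 0 := by
    exact_mod_cast Nat.card_pos.ne'
  rw [hN] at hTI
  push_cast at hTI
  have h3 : (Nat.card (Subgroup.center G) : ℂ) * (((p : ℂ) * (Nat.card H : ℂ)) * ∑ g : G, F g) =
      (Nat.card (Subgroup.center G) : ℂ) *
        ((Nat.card G : ℂ) * ∑ u : (ZMod p)ˣ, F (x ^ ((u : ZMod p).val))) := by
    linear_combination hTI
  exact mul_left_cancel₀ hZ0 h3

end Cfsg.Agent.Lib.helper2.BG
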