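import Mathlib
import Cfsg.Agent.Lib.helper2.BGDefs

/-!
S4504 split project, R sub-split, pieces R5 and R6 (helper48, insurance copies under prefixed
names).
-/

set_option autoImplicit false

open Cfsg

namespace Cfsg.Agent.Lib.helper2.BG

universe u

/-- R5: a Sylow `p`-subgroup of order `p` of a normal subgroup is not normal in it. -/
theorem helper48_R_not_normal {G : Type u} [Group G] [Finite G] (p : ℕ) [Fact p.Prime]
    (hnn : ∀ H : Subgroup G, H.Normal → Nat.card H ≠ p) (N : Subgroup G) [N.Normal]
    (Q : Sylow p N) (hQ : Nat.card Q = p) : ¬ (Q : Subgroup N).Normal := by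
  intro hQn
  have hchar : (Q : Subgroup N).Characteristic := Sylow.characteristic_of_normal Q hQn
  have hnorm : ((Q : Subgroup N).map N.subtype).Normal :=
    ConjAct.normal_of_characteristic_of_normal
  apply hnn _ hnorm
  exact (Nat.card_congr (Subgroup.equivMapOfInjective (Q : Subgroup N) N.subtype
    N.subtype_injective).toEquiv.symm).trans hQ

/-- R6: a normal subgroup of index prime to `p` has the same number of Sylow `p`-subgroups. -/
theorem helper48_R_card_sylow {G : Type u} [Group G] [Finite G] (p : ℕ) [Fact p.Prime]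
    (N : Subgroup G) [hNn : N.Normal] (hN : ¬ p ∣ N.index) :
    Nat.card (Sylow p N) = Nat.card (Sylow p G) := by
  have hp : p.Prime := Fact.out
  have hidx : ∀ Q : Sylow p N, ¬ p ∣ ((Q : Subgroup N).map N.subtype).index := by
    intro Q h
    rw [Subgroup.index_map_subtype] at h
    rcases hp.dvd_mul.mp h with h | h
    · exact Q.not_dvd_index h
    · exact hN h
  let f : Sylow p N → Sylow p G := fun Q => (Q.isPGroup'.map N.subtype).toSylow (hidx Q)
  have hf_coe : ∀ Q : Sylow p N,
      ((f Q : Sylow p G) : Subgroup G) = (Q : Subgroup N).map N.subtype :=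
    fun Q => IsPGroup.toSylow_coe _ _
  refine Nat.card_eq_of_bijective f ⟨?_, ?_⟩
  · intro Q Q' h
    have h1 : (Q : Subgroup N).map N.subtype = (Q' : Subgroup N).map N.subtype := by
      rw [← hf_coe, ← hf_coe, h]
    exact Sylow.ext (Subgroup.map_injective N.subtype_injective h1)
  · intro R
    obtain ⟨Q₀⟩ : Nonempty (Sylow p N) := inferInstance
    have hR₀ : ((f Q₀ : Sylow p G) : Subgroup G) ≤ N := by
      rw [hf_coe]
      exact Subgroup.map_subtype_le _
    obtain ⟨g, hg⟩ := MulAction.exists_smul_eq G (f Q₀) R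
    have hRN : (R : Subgroup G) ≤ N := by
      rw [← hg]
      intro y hy
      rw [Sylow.smul_def, Sylow.pointwise_smul_def,
        Subgroup.mem_pointwise_smul_iff_inv_smul_mem] at hy
      have h2 := hR₀ hy
      have h3 : (MulAut.conj g)⁻¹ • y = g⁻¹ * y * g := by
        simp [MulAut.smul_def]
      rw [h3] at h2
      have h4 := hNn.conj_mem _ h2 g
      simpa [mul_assoc] using h4
    refine ⟨R.subtype hRN, ?_⟩
    apply Sylow.ext
    rw [hf_coe, Sylow.coe_subtype, Subgroup.subgroupOf_map_subtype, inf_eq_left.mpr hRN]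

end Cfsg.Agent.Lib.helper2.BG
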