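import Mathlib

/-! S4501 split project, piece AR1 (helper48, insurance copy under a prefixed name). -/

set_option autoImplicit false

namespace Cfsg.Agent.Lib.helper48.BW

/-- A prime dividing `x` and `x + 1` does not exist. -/
theorem h48_no_prime_consec (t x y : ℕ) (ht : t.Prime) (hx : t ∣ x) (hy : t ∣ y)
    (h : y = x + 1) : False := by
  rw [h] at hy
  have h1 : t ∣ 1 := (Nat.dvd_add_right hx).mp hy
  exact ht.one_lt.ne' (Nat.dvd_one.mp h1)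

/-- AR1 (sign `+`): `x`, `(x-1)/2`, `(x+1)/4` are three pairwise coprime divisors `≥ 2` of
`p^a q^b`. -/
theorem h48_ar_plus (p q a b x cJ cP m : ℕ) (hp : p.Prime) (hq : q.Prime) (hp2 : p ≠ 2)
    (hq2 : q ≠ 2)
    (hx5 : 5 ≤ x) (hx4 : x % 4 = 3) (hxd : x ∣ 4 * p ^ a * q ^ b)
    (hcJ : cJ ∣ 4 * p ^ a * q ^ b) (hcP : 4 ∣ cP)
    (h1 : 4 * cJ = m * cP * (x + 1))
    (h2 : 8 * (4 * p ^ a * q ^ b) = m ^ 3 * cP * (x ^ 3 - x)) : False := by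
  obtain ⟨g₀, hg₀⟩ : ∃ g₀ : ℕ, g₀ = p ^ a * q ^ b := ⟨_, rfl⟩
  have hn : 4 * p ^ a * q ^ b = 4 * g₀ := by rw [hg₀]; ring
  rw [hn] at hxd hcJ h2
  -- primes dividing g₀
  have hg : ∀ t : ℕ, t.Prime → t ∣ g₀ → t = p ∨ t = q := by
    intro t ht htg
    rw [hg₀] at htg
    rcases (Nat.Prime.dvd_mul ht).mp htg with h | h
    · left
      exact (Nat.prime_dvd_prime_iff_eq ht hp).mp (ht.dvd_of_dvd_pow h)
    · right
      exact (Nat.prime_dvd_prime_iff_eq ht hq).mp (ht.dvd_of_dvd_pow h)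
  -- primes dividing 2^k * g₀ that are odd
  have hg2 : ∀ (k t : ℕ), t.Prime → t ∣ 2 ^ k * g₀ → t ≠ 2 → t = p ∨ t = q := by
    intro k t ht htg ht2
    rcases (Nat.Prime.dvd_mul ht).mp htg with h | h
    · exact absurd ((Nat.prime_dvd_prime_iff_eq ht Nat.prime_two).mp (ht.dvd_of_dvd_pow h)) ht2
    · exact hg t ht h
  obtain ⟨u, hu⟩ : ∃ u : ℕ, x = 2 * u + 1 := ⟨x / 2, by omega⟩
  obtain ⟨v, hv⟩ : ∃ v : ℕ, x + 1 = 4 * v := ⟨(x + 1) / 4, by omega⟩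
  obtain ⟨c', hc'⟩ := hcP
  have huv : 2 * v = u + 1 := by omega
  have hu3 : 3 ≤ u := by omega
  have hv2 : 2 ≤ v := by omega
  have huodd : u % 2 = 1 := by omega
  -- prime factor of x
  obtain ⟨t₁, ht₁, ht₁x⟩ := Nat.exists_prime_and_dvd (show x ≠ 1 by omega)
  have ht₁pq : t₁ = p ∨ t₁ = q := by
    apply hg2 2 t₁ ht₁ (by simpa using dvd_trans ht₁x hxd)
    intro h
    rw [h] at ht₁x
    obtain ⟨k, hk⟩ := ht₁x
    omega
  -- prime factor of u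
  obtain ⟨t₂, ht₂, ht₂u⟩ := Nat.exists_prime_and_dvd (show u ≠ 1 by omega)
  have hx3 : x ^ 3 = 4 * u * (u + 1) * (2 * u + 1) + x := by
    rw [hu]; ring
  have ht₂pq : t₂ = p ∨ t₂ = q := by
    apply hg2 5 t₂ ht₂
    · have h3 : (2 : ℕ) ^ 5 * g₀ = u * (m ^ 3 * cP * (4 * (u + 1) * (2 * u + 1))) := by
        rw [hx3, Nat.add_sub_cancel] at h2
        nlinarith [h2]
      rw [h3]
      exact Dvd.dvd.mul_right ht₂u _
    · intro h
      rw [h] at ht₂u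
      obtain ⟨k, hk⟩ := ht₂u
      omega
  -- prime factor of v
  obtain ⟨t₃, ht₃, ht₃v⟩ := Nat.exists_prime_and_dvd (show v ≠ 1 by omega)
  have ht₃pq : t₃ = p ∨ t₃ = q := by
    apply hg t₃ ht₃
    obtain ⟨k, hk⟩ := hcJ
    have h3 : g₀ = v * (m * c' * k) := by
      have h4 : 4 * cJ = 4 * (4 * (m * c' * v)) := by
        rw [h1, hv, hc']; ring
      have h5 : cJ = 4 * (m * c' * v) := by omega
      rw [h5] at hk
      nlinarith [hk]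
    rw [h3]
    exact Dvd.dvd.mul_right ht₃v _
  -- pairwise coprimality
  have hxu : ∀ t : ℕ, t.Prime → t ∣ x → t ∣ u → False := by
    intro t ht htx htu
    exact h48_no_prime_consec t (2 * u) x ht (Dvd.dvd.mul_left htu 2) htx hu
  have hxv : ∀ t : ℕ, t.Prime → t ∣ x → t ∣ v → False := by
    intro t ht htx htv
    exact h48_no_prime_consec t x (4 * v) ht htx (Dvd.dvd.mul_left htv 4) hv.symm
  have huv' : ∀ t : ℕ, t.Prime → t ∣ u → t ∣ v → False := by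
    intro t ht htu htv
    exact h48_no_prime_consec t u (2 * v) ht htu (Dvd.dvd.mul_left htv 2) huv
  -- pigeonhole
  rcases ht₁pq with e1 | e1 <;> rcases ht₂pq with e2 | e2 <;> rcases ht₃pq with e3 | e3
  · exact hxu p hp (e1 ▸ ht₁x) (e2 ▸ ht₂u)
  · exact hxu p hp (e1 ▸ ht₁x) (e2 ▸ ht₂u)
  · exact hxv p hp (e1 ▸ ht₁x) (e3 ▸ ht₃v)
  · exact huv' q hq (e2 ▸ ht₂u) (e3 ▸ ht₃v)
  · exact huv' p hp (e2 ▸ ht₂u) (e3 ▸ ht₃v)
  · exact hxv q hq (e1 ▸ ht₁x) (e3 ▸ ht₃v)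
  · exact hxu q hq (e1 ▸ ht₁x) (e2 ▸ ht₂u)
  · exact hxu q hq (e1 ▸ ht₁x) (e2 ▸ ht₂u)

end Cfsg.Agent.Lib.helper48.BW
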