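import Mathlib
import Cfsg.Prelude.Def_Characters
import Cfsg.Prelude.Def_Blocks
import Cfsg.Agent.Lib.helper81.CharOrtho
import Cfsg.Agent.Lib.helper81.Blocks
import Cfsg.Agent.Lib.helper82.S3875E3
import Cfsg.Agent.Lib.helper48.BU_FAITH

/-! S4501 split project, piece DEGF (helper48, insurance copy under a prefixed name). -/

set_option autoImplicit false

namespace Cfsg.Agent.Lib.helper48.BW

open Cfsg
open scoped commutatorElement

universe u

variable {G : Type u} [Group G] [Finite G]

/-- DEGF : a nontrivial irreducible character of a non-abelian simple group is nonlinear,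
its degree divides `|G|`, and it is faithful. -/
theorem h48_deg_facts [IsSimpleGroup G] (hna : ∃ x y : G, x * y ≠ y * x) (χ : IrrCharacter G)
    (hχ : (χ : G → ℂ) ≠ fun _ => 1) :
    1 < charDegree (χ : G → ℂ) ∧ charDegree (χ : G → ℂ) ∣ Nat.card G ∧
      ∀ g : G, (χ : G → ℂ) g = (χ : G → ℂ) 1 → g = 1 := by
  classical
  have hfin : Fintype G := Fintype.ofFinite G
  have hperf : commutator G = ⊤ := by
    rcases (inferInstance : (commutator G).Normal).eq_bot_or_eq_top with h | h
    · exfalso
      obtain ⟨x, y, hxy⟩ := hna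
      apply hxy
      have h1 : ⁅x, y⁆ ∈ commutator G :=
        Subgroup.commutator_mem_commutator (Subgroup.mem_top x) (Subgroup.mem_top y)
      rw [h, Subgroup.mem_bot] at h1
      exact commutatorElement_eq_one_iff_mul_comm.mp h1
    · exact h
  refine ⟨?_, Cfsg.Agent.Lib.helper81.irr_degree_dvd_card χ, ?_⟩
  · have hpos := Cfsg.Agent.Lib.helper81.irr_charDegree_pos χ
    by_contra hlt
    have h1 : charDegree (χ : G → ℂ) = 1 := by omega
    exact hχ (Cfsg.Agent.Lib.helper82.S3875.degree_one_trivial hperf χ h1)
  · intro g hg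
    have hne : χ ≠ Cfsg.Agent.Lib.helper81.trivChar G := by
      intro h
      apply hχ
      rw [h]
      rfl
    exact Cfsg.Agent.Lib.helper48.BU.faithful_of_simple χ hne g hg

end Cfsg.Agent.Lib.helper48.BW
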