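import Mathlib

set_option autoImplicit false

namespace Cfsg.Agent.Lib.helper48

section Cayley
variable {F R : Type*} [Field F] [CommRing R] [Algebra F R] [Nontrivial R]

/-- the Cayley transform `x ↦ (1 - x) / (1 + x)` -/
noncomputable def cay (x : R) : R := (1 - x) * Ring.inverse (1 + x)

theorem isNilpotent_algebraMap_iff' (c : F) : IsNilpotent (algebraMap F R c) ↔ c = 0 := by
  constructor
  · rintro ⟨k, hk⟩
    rw [← map_pow] at hk
    have : c ^ k = 0 := by
      apply (algebraMap F R).injective
      rw [hk, map_zero]
    exact IsNilpotent.eq_zero ⟨k, this⟩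
  · rintro rfl
    simp

/-- in a "local" algebra an element with residue `c` is a unit iff `c ≠ 0` -/
theorem isUnit_iff_of_loc {x : R} {c : F} (h : IsNilpotent (x - algebraMap F R c)) :
    IsUnit x ↔ c ≠ 0 := by
  constructor
  · intro hu hc
    subst hc
    rw [map_zero, sub_zero] at h
    exact h.not_isUnit hu
  · intro hc
    have hu : IsUnit (algebraMap F R c) := (IsUnit.mk0 _ hc).map (algebraMap F R)
    have := IsNilpotent.isUnit_add_left_of_commute h hu (Commute.all _ _)
    simpa using this

omit [Nontrivial R] in
theorem cay_add_one {x : R} (hx : IsUnit (1 + x)) : 1 + cay x = 2 * Ring.inverse (1 + x) := by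
  have hv := Ring.mul_inverse_cancel _ hx
  unfold cay
  linear_combination (-1 : R) * hv

theorem cay_cay (h2 : IsUnit (2 : R)) {x : R} (hx : IsUnit (1 + x)) : cay (cay x) = x := by
  have hv := Ring.mul_inverse_cancel _ hx
  have hvu : IsUnit (Ring.inverse (1 + x)) := IsUnit.of_mul_eq_one _ (by rw [mul_comm]; exact hv)
  have h1 := cay_add_one hx
  have h3 : (2 * Ring.inverse (1 + x)) * Ring.inverse (2 * Ring.inverse (1 + x)) = 1 :=
    Ring.mul_inverse_cancel _ (h2.mul hvu)
  have h4 : 1 - cay x = x * (2 * Ring.inverse (1 + x)) := by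
    unfold cay
    linear_combination (-1 : R) * hv
  show (1 - cay x) * Ring.inverse (1 + cay x) = x
  rw [h1, h4, mul_assoc, h3, mul_one]

/-- **Cayley count**: in a finite commutative local algebra with residue field `F` of
characteristic `≠ 2` and an algebra endomorphism `σ`, the "unitary" elements `σ y * y = 1`
are twice as many as the "skew" elements `σ x = -x`. -/
theorem cayley_count [Finite R] (h2 : (2 : F) ≠ 0)
    (hloc : ∀ x : R, ∃ c : F, IsNilpotent (x - algebraMap F R c))
    (σ : R →ₐ[F] R) :
    Nat.card {y : R // σ y * y = 1} = 2 * Nat.card {x : R // σ x = -x} := by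
  classical
  have h2R : IsUnit (2 : R) := by
    have : (2 : R) = algebraMap F R 2 := (map_ofNat (algebraMap F R) 2).symm
    rw [this]; exact (IsUnit.mk0 _ h2).map _
  have hσloc : ∀ (x : R) (c : F), IsNilpotent (x - algebraMap F R c) →
      IsNilpotent (σ x - algebraMap F R c) := by
    intro x c hc
    have := hc.map σ
    simpa using this
  -- skew elements are nilpotent
  have H2 : ∀ x : R, σ x = -x → IsUnit (1 + x) := by
    intro x hx
    obtain ⟨c, hc⟩ := hloc x
    have h1 := hσloc x c hc
    rw [hx] at h1
    have h3 : IsNilpotent (algebraMap F R (-(2 * c))) := by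
      have := (Commute.all (x - algebraMap F R c) (-x - algebraMap F R c)).isNilpotent_add hc h1
      have e : algebraMap F R (-(2 * c)) = (x - algebraMap F R c) + (-x - algebraMap F R c) := by
        rw [map_neg, map_mul]
        have : algebraMap F R 2 = 2 := map_ofNat (algebraMap F R) 2
        rw [this]; ring
      rw [e]; exact this
    rw [isNilpotent_algebraMap_iff'] at h3
    have hc0 : c = 0 := by
      rcases mul_eq_zero.1 (neg_eq_zero.1 h3) with h | h
      · exact absurd h h2
      · exact h
    subst hc0
    rw [map_zero, sub_zero] at hc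
    exact hc.isUnit_one_add
  -- unitary elements have residue ±1
  have H1 : ∀ y : R, σ y * y = 1 → (IsUnit (1 + y) ↔ ¬ IsUnit (1 - y)) := by
    intro y hy
    obtain ⟨c, hc⟩ := hloc y
    have h1 := hσloc y c hc
    have h3 : IsNilpotent (algebraMap F R (1 - c * c)) := by
      have ha : IsNilpotent ((σ y - algebraMap F R c) * y) :=
        (Commute.all _ _).isNilpotent_mul_right h1
      have hb : IsNilpotent (algebraMap F R c * (y - algebraMap F R c)) :=
        (Commute.all _ _).isNilpotent_mul_left hc
      have := (Commute.all _ _).isNilpotent_add ha hb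
      have e : algebraMap F R (1 - c * c)
          = (σ y - algebraMap F R c) * y + algebraMap F R c * (y - algebraMap F R c) := by
        rw [map_sub, map_mul, map_one]
        linear_combination (-1 : R) * hy
      rw [e]; exact this
    rw [isNilpotent_algebraMap_iff'] at h3
    have hcc : c = 1 ∨ c = -1 := by
      have : (c - 1) * (c + 1) = 0 := by linear_combination (-1 : F) * h3
      rcases mul_eq_zero.1 this with h | h
      · left; exact sub_eq_zero.1 h
      · right; exact eq_neg_of_add_eq_zero_left h
    have hp : IsUnit (1 + y) ↔ (1 + c) ≠ 0 := by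
      apply isUnit_iff_of_loc
      have e : 1 + y - algebraMap F R (1 + c) = y - algebraMap F R c := by
        rw [map_add, map_one]; ring
      rw [e]; exact hc
    have hm : IsUnit (1 - y) ↔ (1 - c) ≠ 0 := by
      apply isUnit_iff_of_loc
      have e : 1 - y - algebraMap F R (1 - c) = -(y - algebraMap F R c) := by
        rw [map_sub, map_one]; ring
      rw [e]; exact hc.neg
    rw [hp, hm]
    rcases hcc with rfl | rfl
    · constructor
      · intro _; simp
      · intro _
        have : (1 : F) + 1 = 2 := by norm_num
        rw [this]; exact h2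
    · constructor
      · intro h; exact absurd (by ring) h
      · intro h
        exfalso; apply h
        have : (1 : F) - -1 = 2 := by norm_num
        rw [this]; exact h2
  set S : Set R := {y | σ y * y = 1} with hS
  set K : Set R := {x | σ x = -x} with hK
  set S₁ : Set R := {y | σ y * y = 1 ∧ IsUnit (1 + y)} with hS₁
  set S₂ : Set R := {y | σ y * y = 1 ∧ ¬ IsUnit (1 + y)} with hS₂
  have hcard1 : Nat.card {y : R // σ y * y = 1} = S.ncard := (Nat.card_coe_set_eq S)
  have hcard2 : Nat.card {x : R // σ x = -x} = K.ncard := (Nat.card_coe_set_eq K)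
  rw [hcard1, hcard2]
  -- Cayley maps K into S₁ and S₁ into K
  have hKS : ∀ x ∈ K, cay x ∈ S₁ := by
    intro x hx
    have hx' : σ x = -x := hx
    have hu := H2 x hx'
    have hv := Ring.mul_inverse_cancel _ hu
    have hσv : (1 - x) * σ (Ring.inverse (1 + x)) = 1 := by
      have := congrArg σ hv
      simp only [map_mul, map_add, map_one, hx'] at this
      linear_combination this
    refine ⟨?_, ?_⟩
    · show σ (cay x) * cay x = 1
      unfold cay
      rw [map_mul, map_sub, map_one, hx']
      linear_combination ((1 - x) * σ (Ring.inverse (1 + x))) * hv + hσv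
    · rw [cay_add_one hu]
      exact h2R.mul (IsUnit.of_mul_eq_one _ (by rw [mul_comm]; exact hv))
  have hSK : ∀ y ∈ S₁, cay y ∈ K := by
    rintro y ⟨hy, hu⟩
    have hw := Ring.mul_inverse_cancel _ hu
    set w := Ring.inverse (1 + y) with hwdef
    have hσw : (1 + σ y) * σ w = 1 := by
      have := congrArg σ hw
      simp only [map_mul, map_add, map_one] at this
      exact this
    have h₁ : (1 + σ y) * (w * y) = 1 := by
      linear_combination hw + w * hy
    have h₂ : σ w = w * y := by
      linear_combination (-σ w) * h₁ + (w * y) * hσw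
    show σ (cay y) = -cay y
    unfold cay
    rw [map_mul, map_sub, map_one, ← hwdef, h₂]
    linear_combination (-w) * hy
  have hS₁im : S₁ = cay '' K := by
    apply Set.eq_of_subset_of_subset
    · intro y hy
      exact ⟨cay y, hSK y hy, cay_cay h2R hy.2⟩
    · rintro _ ⟨x, hx, rfl⟩
      exact hKS x hx
  have hS₂im : S₂ = Neg.neg '' S₁ := by
    apply Set.eq_of_subset_of_subset
    · rintro y ⟨hy, hu⟩
      refine ⟨-y, ⟨?_, ?_⟩, neg_neg y⟩
      · rw [map_neg]; linear_combination hy
      · have h := H1 (-y) (by rw [map_neg]; linear_combination hy)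
        rw [h]
        have e : 1 - -y = 1 + y := by ring
        rw [e]; exact hu
    · rintro _ ⟨y, ⟨hy, hu⟩, rfl⟩
      refine ⟨?_, ?_⟩
      · show σ (-y) * (-y) = 1
        rw [map_neg]; linear_combination hy
      · have h := (H1 y hy).1 hu
        have e : 1 + -y = 1 - y := by ring
        rw [e]; exact h
  have hunion : S = S₁ ∪ S₂ := by
    ext y
    simp only [hS, hS₁, hS₂, Set.mem_union, Set.mem_ofPred_eq]
    tauto
  have hdisj : Disjoint S₁ S₂ := by
    rw [Set.disjoint_left]
    rintro y ⟨_, hu⟩ ⟨_, hnu⟩
    exact hnu hu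
  have hinj : Set.InjOn (cay : R → R) K := by
    intro x hx x' hx' h
    have := congrArg (cay : R → R) h
    rwa [cay_cay h2R (H2 x hx), cay_cay h2R (H2 x' hx')] at this
  rw [hunion, Set.ncard_union_eq hdisj (Set.toFinite _) (Set.toFinite _), hS₂im,
    Set.ncard_image_of_injective _ neg_injective, hS₁im, hinj.ncard_image]
  ring

end Cayley

end Cfsg.Agent.Lib.helper48
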