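import Mathlib

set_option autoImplicit false

namespace Cfsg.Agent.Lib.helper48

open Polynomial

/-- For monic `g`, the "top coefficient" functional on `F[X]/(g)` kills no nonzero ideal. -/
theorem frob_monic {F : Type*} [Field F] (g : F[X]) (hg : g.Monic) :
    ∃ lam : AdjoinRoot g →ₗ[F] F, ∀ a : AdjoinRoot g, a ≠ 0 → ∃ b, lam (a * b) ≠ 0 := by
  refine ⟨(Polynomial.lcoeff F (g.natDegree - 1)).comp (AdjoinRoot.modByMonicHom hg), ?_⟩
  intro a ha
  obtain ⟨h, rfl⟩ := AdjoinRoot.mk_surjective a
  set r := h %ₘ g with hr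
  have hr0 : r ≠ 0 := by
    intro h0
    apply ha
    rw [AdjoinRoot.mk_eq_zero]
    exact (Polynomial.modByMonic_eq_zero_iff_dvd hg).1 h0
  have hdeg : r.degree < g.degree := Polynomial.degree_modByMonic_lt h hg
  have hnat : r.natDegree < g.natDegree := Polynomial.natDegree_lt_natDegree hr0 hdeg
  set k := g.natDegree - 1 - r.natDegree with hk
  have hk' : g.natDegree - 1 = r.natDegree + k := by omega
  refine ⟨AdjoinRoot.mk g (X ^ k), ?_⟩
  rw [← map_mul]
  simp only [LinearMap.comp_apply, AdjoinRoot.modByMonicHom_mk, Polynomial.lcoeff_apply]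
  have h1 : (h * X ^ k) %ₘ g = r * X ^ k := by
    have h2 : h = r + g * (h /ₘ g) := (Polynomial.modByMonic_add_div h g).symm
    conv_lhs => rw [h2, add_mul, Polynomial.add_modByMonic]
    have h3 : (g * (h /ₘ g) * X ^ k) %ₘ g = 0 := by
      rw [Polynomial.modByMonic_eq_zero_iff_dvd hg]
      exact ⟨(h /ₘ g) * X ^ k, mul_assoc _ _ _⟩
    rw [h3, add_zero, Polynomial.modByMonic_eq_self_iff hg]
    rw [Polynomial.degree_mul, Polynomial.degree_X_pow, Polynomial.degree_eq_natDegree hr0,
      Polynomial.degree_eq_natDegree hg.ne_zero]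
    norm_cast
    omega
  rw [h1, hk', Polynomial.coeff_mul_X_pow]
  exact Polynomial.leadingCoeff_ne_zero.2 hr0


/-- For nonzero `g`, there is an `F`-linear functional on `F[X]/(g)` killing no nonzero ideal. -/
theorem frob_general {F : Type*} [Field F] (g : F[X]) (hg : g ≠ 0) :
    ∃ lam : (F[X] ⧸ (Ideal.span {g} : Ideal F[X])) → F,
      (∀ a b, lam (a + b) = lam a + lam b) ∧
      (∀ (c : F) a, lam (Ideal.Quotient.mk _ (C c) * a) = c * lam a) ∧
      (∀ a, a ≠ 0 → ∃ b, lam (a * b) ≠ 0) := by
  classical
  have hmonic : (normalize g).Monic := Polynomial.monic_normalize hg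
  have hI : (Ideal.span {g} : Ideal F[X]) = Ideal.span {normalize g} :=
    Ideal.span_singleton_eq_span_singleton.2 (associated_normalize g)
  obtain ⟨lam', hlam'⟩ := frob_monic (normalize g) hmonic
  let ψ : (F[X] ⧸ (Ideal.span {g} : Ideal F[X])) ≃+* AdjoinRoot (normalize g) :=
    Ideal.quotEquivOfEq hI
  have hψmk : ∀ x : F[X], ψ (Ideal.Quotient.mk _ x) = AdjoinRoot.mk (normalize g) x := by
    intro x
    rfl
  refine ⟨fun a => lam' (ψ a), ?_, ?_, ?_⟩
  · intro a b
    simp only [map_add]
  · intro c a
    simp only [map_mul, hψmk]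
    rw [AdjoinRoot.mk_C, ← AdjoinRoot.algebraMap_eq, ← Algebra.smul_def, map_smul, smul_eq_mul]
  · intro a ha
    have hψa : ψ a ≠ 0 := by
      intro h0
      exact ha (ψ.injective (by rw [h0, map_zero]))
    obtain ⟨b', hb'⟩ := hlam' (ψ a) hψa
    refine ⟨ψ.symm b', ?_⟩
    simp only [map_mul, RingEquiv.apply_symm_apply]
    exact hb'


/-- A matrix over a field is similar to its transpose. -/
theorem conj_transpose {F : Type*} [Field F] {κ : Type*} [Fintype κ] [DecidableEq κ]
    (A : Matrix κ κ F) :
    IsConj A A.transpose := by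
  classical
  let φ : (κ → F) →ₗ[F] (κ → F) := Matrix.toLin' A
  have hT : Module.IsTorsion F[X] (Module.AEval' φ) :=
    Module.AEval.isTorsion_of_finiteDimensional F (κ → F) φ
  obtain ⟨ι, _, p, hp, e, ⟨L⟩⟩ := Module.equiv_directSum_of_isTorsion hT
  have hg : ∀ i, p i ^ e i ≠ 0 := fun i => pow_ne_zero _ (hp i).ne_zero
  choose lam hadd hsmul hnd using fun i => frob_general (p i ^ e i) (hg i)
  let comp : ∀ i : ι, (κ → F) → (F[X] ⧸ (Ideal.span {p i ^ e i} : Ideal F[X])) :=
    fun i v => L (Module.AEval'.of φ v) i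
  have comp_add : ∀ i v w, comp i (v + w) = comp i v + comp i w := by
    intro i v w
    simp only [comp, map_add, DirectSum.add_apply]
  have comp_rsmul : ∀ (i : ι) (r : F[X]) (m : Module.AEval' φ),
      (L (r • m)) i = Ideal.Quotient.mk (Ideal.span {p i ^ e i}) r * (L m i) := by
    intro i r m
    rw [map_smul, DirectSum.smul_apply]
    rfl
  have comp_smul : ∀ i (c : F) v, comp i (c • v) = Ideal.Quotient.mk _ (C c) * comp i v := by
    intro i c v
    simp only [comp]
    rw [← comp_rsmul, Module.AEval.C_smul, map_smul]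
  have comp_phi : ∀ i v, comp i (φ v) = Ideal.Quotient.mk _ X * comp i v := by
    intro i v
    simp only [comp]
    rw [← comp_rsmul, Module.AEval'.X_smul_of]
  let B : LinearMap.BilinForm F (κ → F) :=
    LinearMap.mk₂ F (fun v w => ∑ i, lam i (comp i v * comp i w))
      (by
        intro v v' w
        simp only [comp_add, add_mul, hadd, Finset.sum_add_distrib])
      (by
        intro c v w
        simp only [comp_smul, mul_assoc, hsmul, smul_eq_mul, Finset.mul_sum])
      (by
        intro v w w'
        simp only [comp_add, mul_add, hadd, Finset.sum_add_distrib])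
      (by
        intro c v w
        simp only [comp_smul, smul_eq_mul, Finset.mul_sum]
        refine Finset.sum_congr rfl (fun i _ => ?_)
        rw [← hsmul]
        congr 1
        ring)
  have hB : ∀ v w, B v w = ∑ i, lam i (comp i v * comp i w) := fun v w => rfl
  have hsym : ∀ v w, B (φ v) w = B v (φ w) := by
    intro v w
    rw [hB, hB]
    refine Finset.sum_congr rfl (fun i _ => ?_)
    rw [comp_phi, comp_phi]
    congr 1
    ring
  have hnondeg : ∀ v, (∀ w, B v w = 0) → v = 0 := by
    intro v hv
    by_contra hne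
    have h1 : L (Module.AEval'.of φ v) ≠ 0 := by
      intro h0
      apply hne
      have := L.injective (h0.trans (map_zero L).symm)
      exact (Module.AEval'.of φ).injective (this.trans (map_zero _).symm)
    have h2 : ∃ i, comp i v ≠ 0 := by
      by_contra hall
      push Not at hall
      apply h1
      ext i
      exact hall i
    obtain ⟨i, hi⟩ := h2
    obtain ⟨b, hb⟩ := hnd i (comp i v) hi
    let w : κ → F := (Module.AEval'.of φ).symm (L.symm (DirectSum.of _ i b))
    have hw : ∀ j, comp j w = if j = i then (DirectSum.of (fun i => F[X] ⧸ (Ideal.span {p i ^ e i} : Ideal F[X])) i b) j else 0 := by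
      intro j
      simp only [comp, w, LinearEquiv.apply_symm_apply]
      split_ifs with hji
      · rfl
      · exact DirectSum.of_eq_of_ne _ _ _ hji
    have h3 := hv w
    rw [hB, Finset.sum_eq_single i] at h3
    · rw [hw i, if_pos rfl, DirectSum.of_eq_same] at h3
      exact hb h3
    · intro j _ hji
      rw [hw j, if_neg hji, mul_zero]
      have := hadd j 0 0
      simpa using this
    · intro h; exact absurd (Finset.mem_univ i) h
  -- the matrix
  set P : Matrix κ κ F := LinearMap.BilinForm.toMatrix' B with hP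
  have hPA : A.transpose * P = P * A := by
    have h1 : B.compLeft φ = B.compRight φ := by
      refine LinearMap.ext fun v => LinearMap.ext fun w => ?_
      exact hsym v w
    have h2 := congrArg LinearMap.BilinForm.toMatrix' h1
    rw [LinearMap.BilinForm.toMatrix'_compLeft, LinearMap.BilinForm.toMatrix'_compRight,
      LinearMap.toMatrix'_toLin'] at h2
    exact h2
  have hPunit : IsUnit P := by
    rw [← Matrix.vecMul_injective_iff_isUnit]
    intro v v' hvv'
    have hvv'' : Matrix.vecMul v P = Matrix.vecMul v' P := hvv'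
    have h0 : Matrix.vecMul (v - v') P = 0 := by
      rw [Matrix.sub_vecMul, hvv'', sub_self]
    have h1 : ∀ w, B (v - v') w = 0 := by
      intro w
      rw [← Matrix.toBilin'_toMatrix' B, Matrix.toBilin'_apply', Matrix.dotProduct_mulVec, ← hP, h0,
        zero_dotProduct]
    exact sub_eq_zero.1 (hnondeg _ h1)
  exact ⟨hPunit.unit, hPA.symm⟩


end Cfsg.Agent.Lib.helper48
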