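import Cfsg.Agent.Lib.helper95.D4Defs

set_option autoImplicit false

namespace Cfsg.Agent.Lib.helper48.D4

open Matrix Cfsg Cfsg.Lie Cfsg.Agent.Lib.helper95.D4

variable {F : Type*} [Field F]

/-- coordinate vector of `e_k` -/
def helper48_cv (F : Type*) [Field F] (k : Fin 24) : chevD4.Idx → F :=
  (Sum.elim (fun _ : Fin 4 => (0 : F)) (fun j : Fin 24 => if j = k then (1 : F) else 0) : Fin 4 ⊕ Fin 24 → F)

theorem helper48_cv_eI (k j : Fin 24) : helper48_cv F k (eI j) = if j = k then 1 else 0 := rfl

theorem helper48_cv_hI (k : Fin 24) (i : Fin 4) : helper48_cv F k (hI i) = 0 := rfl

set_option maxHeartbeats 4000000 in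
/-- a matrix commuting with all of `so₈` is a scalar -/
theorem comm_Lmap (g : Matrix (Fin 8) (Fin 8) F) (h : ∀ c : chevD4.Idx → F, g * Lmap c = Lmap c * g) :
    ∃ a : F, g = a • (1 : Matrix (Fin 8) (Fin 8) F) := by
  have E0 := h (helper48_cv F 0)
  have E1 := h (helper48_cv F 1)
  have E2 := h (helper48_cv F 2)
  have E3 := h (helper48_cv F 3)
  have E4 := h (helper48_cv F 4)
  have E5 := h (helper48_cv F 5)
  have E6 := h (helper48_cv F 6)
  have E7 := h (helper48_cv F 7)
  have E8 := h (helper48_cv F 8)
  have E9 := h (helper48_cv F 9)
  have E14 := h (helper48_cv F 14)
  have E18 := h (helper48_cv F 18)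
  have z01 : g 0 1 = 0 := by
    have := congrFun (congrFun E1 6) 1
    simp [Lmap, helper48_cv_eI, helper48_cv_hI, Matrix.mul_apply, Fin.sum_univ_succ] at this
    first | exact this | linear_combination this | linear_combination -this
  have z02 : g 0 2 = 0 := by
    have := congrFun (congrFun E0 5) 2
    simp [Lmap, helper48_cv_eI, helper48_cv_hI, Matrix.mul_apply, Fin.sum_univ_succ] at this
    first | exact this | linear_combination this | linear_combination -this
  have z03 : g 0 3 = 0 := by
    have := congrFun (congrFun E0 5) 3
    simp [Lmap, helper48_cv_eI, helper48_cv_hI, Matrix.mul_apply, Fin.sum_univ_succ] at this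
    first | exact this | linear_combination this | linear_combination -this
  have z04 : g 0 4 = 0 := by
    have := congrFun (congrFun E0 0) 1
    simp [Lmap, helper48_cv_eI, helper48_cv_hI, Matrix.mul_apply, Fin.sum_univ_succ] at this
    first | exact this | linear_combination this | linear_combination -this
  have z05 : g 0 5 = 0 := by
    have := congrFun (congrFun E0 0) 0
    simp [Lmap, helper48_cv_eI, helper48_cv_hI, Matrix.mul_apply, Fin.sum_univ_succ] at this
    first | exact this | linear_combination this | linear_combination -this
  have z06 : g 0 6 = 0 := by
    have := congrFun (congrFun E0 5) 6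
    simp [Lmap, helper48_cv_eI, helper48_cv_hI, Matrix.mul_apply, Fin.sum_univ_succ] at this
    first | exact this | linear_combination this | linear_combination -this
  have z07 : g 0 7 = 0 := by
    have := congrFun (congrFun E0 5) 7
    simp [Lmap, helper48_cv_eI, helper48_cv_hI, Matrix.mul_apply, Fin.sum_univ_succ] at this
    first | exact this | linear_combination this | linear_combination -this
  have z10 : g 1 0 = 0 := by
    have := congrFun (congrFun E6 6) 0
    simp [Lmap, helper48_cv_eI, helper48_cv_hI, Matrix.mul_apply, Fin.sum_univ_succ] at this
    first | exact this | linear_combination this | linear_combination -this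
  have z12 : g 1 2 = 0 := by
    have := congrFun (congrFun E0 4) 2
    simp [Lmap, helper48_cv_eI, helper48_cv_hI, Matrix.mul_apply, Fin.sum_univ_succ] at this
    first | exact this | linear_combination this | linear_combination -this
  have z13 : g 1 3 = 0 := by
    have := congrFun (congrFun E0 4) 3
    simp [Lmap, helper48_cv_eI, helper48_cv_hI, Matrix.mul_apply, Fin.sum_univ_succ] at this
    first | exact this | linear_combination this | linear_combination -this
  have z14 : g 1 4 = 0 := by
    have := congrFun (congrFun E0 1) 1
    simp [Lmap, helper48_cv_eI, helper48_cv_hI, Matrix.mul_apply, Fin.sum_univ_succ] at this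
    first | exact this | linear_combination this | linear_combination -this
  have z15 : g 1 5 = 0 := by
    have := congrFun (congrFun E0 1) 0
    simp [Lmap, helper48_cv_eI, helper48_cv_hI, Matrix.mul_apply, Fin.sum_univ_succ] at this
    first | exact this | linear_combination this | linear_combination -this
  have z16 : g 1 6 = 0 := by
    have := congrFun (congrFun E0 4) 6
    simp [Lmap, helper48_cv_eI, helper48_cv_hI, Matrix.mul_apply, Fin.sum_univ_succ] at this
    first | exact this | linear_combination this | linear_combination -this
  have z17 : g 1 7 = 0 := by
    have := congrFun (congrFun E0 4) 7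
    simp [Lmap, helper48_cv_eI, helper48_cv_hI, Matrix.mul_apply, Fin.sum_univ_succ] at this
    first | exact this | linear_combination this | linear_combination -this
  have z20 : g 2 0 = 0 := by
    have := congrFun (congrFun E6 5) 0
    simp [Lmap, helper48_cv_eI, helper48_cv_hI, Matrix.mul_apply, Fin.sum_univ_succ] at this
    first | exact this | linear_combination this | linear_combination -this
  have z21 : g 2 1 = 0 := by
    have := congrFun (congrFun E1 4) 1
    simp [Lmap, helper48_cv_eI, helper48_cv_hI, Matrix.mul_apply, Fin.sum_univ_succ] at this
    first | exact this | linear_combination this | linear_combination -this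
  have z23 : g 2 3 = 0 := by
    have := congrFun (congrFun E1 4) 3
    simp [Lmap, helper48_cv_eI, helper48_cv_hI, Matrix.mul_apply, Fin.sum_univ_succ] at this
    first | exact this | linear_combination this | linear_combination -this
  have z24 : g 2 4 = 0 := by
    have := congrFun (congrFun E0 2) 1
    simp [Lmap, helper48_cv_eI, helper48_cv_hI, Matrix.mul_apply, Fin.sum_univ_succ] at this
    first | exact this | linear_combination this | linear_combination -this
  have z25 : g 2 5 = 0 := by
    have := congrFun (congrFun E0 2) 0
    simp [Lmap, helper48_cv_eI, helper48_cv_hI, Matrix.mul_apply, Fin.sum_univ_succ] at this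
    first | exact this | linear_combination this | linear_combination -this
  have z26 : g 2 6 = 0 := by
    have := congrFun (congrFun E1 2) 0
    simp [Lmap, helper48_cv_eI, helper48_cv_hI, Matrix.mul_apply, Fin.sum_univ_succ] at this
    first | exact this | linear_combination this | linear_combination -this
  have z27 : g 2 7 = 0 := by
    have := congrFun (congrFun E1 4) 7
    simp [Lmap, helper48_cv_eI, helper48_cv_hI, Matrix.mul_apply, Fin.sum_univ_succ] at this
    first | exact this | linear_combination this | linear_combination -this
  have z30 : g 3 0 = 0 := by
    have := congrFun (congrFun E8 5) 0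
    simp [Lmap, helper48_cv_eI, helper48_cv_hI, Matrix.mul_apply, Fin.sum_univ_succ] at this
    first | exact this | linear_combination this | linear_combination -this
  have z31 : g 3 1 = 0 := by
    have := congrFun (congrFun E3 4) 1
    simp [Lmap, helper48_cv_eI, helper48_cv_hI, Matrix.mul_apply, Fin.sum_univ_succ] at this
    first | exact this | linear_combination this | linear_combination -this
  have z32 : g 3 2 = 0 := by
    have := congrFun (congrFun E3 4) 2
    simp [Lmap, helper48_cv_eI, helper48_cv_hI, Matrix.mul_apply, Fin.sum_univ_succ] at this
    first | exact this | linear_combination this | linear_combination -this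
  have z34 : g 3 4 = 0 := by
    have := congrFun (congrFun E0 3) 1
    simp [Lmap, helper48_cv_eI, helper48_cv_hI, Matrix.mul_apply, Fin.sum_univ_succ] at this
    first | exact this | linear_combination this | linear_combination -this
  have z35 : g 3 5 = 0 := by
    have := congrFun (congrFun E0 3) 0
    simp [Lmap, helper48_cv_eI, helper48_cv_hI, Matrix.mul_apply, Fin.sum_univ_succ] at this
    first | exact this | linear_combination this | linear_combination -this
  have z36 : g 3 6 = 0 := by
    have := congrFun (congrFun E1 3) 0
    simp [Lmap, helper48_cv_eI, helper48_cv_hI, Matrix.mul_apply, Fin.sum_univ_succ] at this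
    first | exact this | linear_combination this | linear_combination -this
  have z37 : g 3 7 = 0 := by
    have := congrFun (congrFun E3 3) 0
    simp [Lmap, helper48_cv_eI, helper48_cv_hI, Matrix.mul_apply, Fin.sum_univ_succ] at this
    first | exact this | linear_combination this | linear_combination -this
  have z40 : g 4 0 = 0 := by
    have := congrFun (congrFun E18 4) 1
    simp [Lmap, helper48_cv_eI, helper48_cv_hI, Matrix.mul_apply, Fin.sum_univ_succ] at this
    first | exact this | linear_combination this | linear_combination -this
  have z41 : g 4 1 = 0 := by
    have := congrFun (congrFun E14 4) 2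
    simp [Lmap, helper48_cv_eI, helper48_cv_hI, Matrix.mul_apply, Fin.sum_univ_succ] at this
    first | exact this | linear_combination this | linear_combination -this
  have z42 : g 4 2 = 0 := by
    have := congrFun (congrFun E9 4) 1
    simp [Lmap, helper48_cv_eI, helper48_cv_hI, Matrix.mul_apply, Fin.sum_univ_succ] at this
    first | exact this | linear_combination this | linear_combination -this
  have z43 : g 4 3 = 0 := by
    have := congrFun (congrFun E7 4) 1
    simp [Lmap, helper48_cv_eI, helper48_cv_hI, Matrix.mul_apply, Fin.sum_univ_succ] at this
    first | exact this | linear_combination this | linear_combination -this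
  have z45 : g 4 5 = 0 := by
    have := congrFun (congrFun E6 4) 2
    simp [Lmap, helper48_cv_eI, helper48_cv_hI, Matrix.mul_apply, Fin.sum_univ_succ] at this
    first | exact this | linear_combination this | linear_combination -this
  have z46 : g 4 6 = 0 := by
    have := congrFun (congrFun E6 4) 1
    simp [Lmap, helper48_cv_eI, helper48_cv_hI, Matrix.mul_apply, Fin.sum_univ_succ] at this
    first | exact this | linear_combination this | linear_combination -this
  have z47 : g 4 7 = 0 := by
    have := congrFun (congrFun E8 4) 1
    simp [Lmap, helper48_cv_eI, helper48_cv_hI, Matrix.mul_apply, Fin.sum_univ_succ] at this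
    first | exact this | linear_combination this | linear_combination -this
  have z50 : g 5 0 = 0 := by
    have := congrFun (congrFun E14 6) 0
    simp [Lmap, helper48_cv_eI, helper48_cv_hI, Matrix.mul_apply, Fin.sum_univ_succ] at this
    first | exact this | linear_combination this | linear_combination -this
  have z51 : g 5 1 = 0 := by
    have := congrFun (congrFun E5 4) 1
    simp [Lmap, helper48_cv_eI, helper48_cv_hI, Matrix.mul_apply, Fin.sum_univ_succ] at this
    first | exact this | linear_combination this | linear_combination -this
  have z52 : g 5 2 = 0 := by
    have := congrFun (congrFun E4 5) 0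
    simp [Lmap, helper48_cv_eI, helper48_cv_hI, Matrix.mul_apply, Fin.sum_univ_succ] at this
    first | exact this | linear_combination this | linear_combination -this
  have z53 : g 5 3 = 0 := by
    have := congrFun (congrFun E2 5) 0
    simp [Lmap, helper48_cv_eI, helper48_cv_hI, Matrix.mul_apply, Fin.sum_univ_succ] at this
    first | exact this | linear_combination this | linear_combination -this
  have z54 : g 5 4 = 0 := by
    have := congrFun (congrFun E1 5) 2
    simp [Lmap, helper48_cv_eI, helper48_cv_hI, Matrix.mul_apply, Fin.sum_univ_succ] at this
    first | exact this | linear_combination this | linear_combination -this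
  have z56 : g 5 6 = 0 := by
    have := congrFun (congrFun E1 5) 0
    simp [Lmap, helper48_cv_eI, helper48_cv_hI, Matrix.mul_apply, Fin.sum_univ_succ] at this
    first | exact this | linear_combination this | linear_combination -this
  have z57 : g 5 7 = 0 := by
    have := congrFun (congrFun E3 5) 0
    simp [Lmap, helper48_cv_eI, helper48_cv_hI, Matrix.mul_apply, Fin.sum_univ_succ] at this
    first | exact this | linear_combination this | linear_combination -this
  have z60 : g 6 0 = 0 := by
    have := congrFun (congrFun E9 5) 0
    simp [Lmap, helper48_cv_eI, helper48_cv_hI, Matrix.mul_apply, Fin.sum_univ_succ] at this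
    first | exact this | linear_combination this | linear_combination -this
  have z61 : g 6 1 = 0 := by
    have := congrFun (congrFun E4 4) 1
    simp [Lmap, helper48_cv_eI, helper48_cv_hI, Matrix.mul_apply, Fin.sum_univ_succ] at this
    first | exact this | linear_combination this | linear_combination -this
  have z62 : g 6 2 = 0 := by
    have := congrFun (congrFun E4 4) 2
    simp [Lmap, helper48_cv_eI, helper48_cv_hI, Matrix.mul_apply, Fin.sum_univ_succ] at this
    first | exact this | linear_combination this | linear_combination -this
  have z63 : g 6 3 = 0 := by
    have := congrFun (congrFun E2 6) 0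
    simp [Lmap, helper48_cv_eI, helper48_cv_hI, Matrix.mul_apply, Fin.sum_univ_succ] at this
    first | exact this | linear_combination this | linear_combination -this
  have z64 : g 6 4 = 0 := by
    have := congrFun (congrFun E0 6) 1
    simp [Lmap, helper48_cv_eI, helper48_cv_hI, Matrix.mul_apply, Fin.sum_univ_succ] at this
    first | exact this | linear_combination this | linear_combination -this
  have z65 : g 6 5 = 0 := by
    have := congrFun (congrFun E0 6) 0
    simp [Lmap, helper48_cv_eI, helper48_cv_hI, Matrix.mul_apply, Fin.sum_univ_succ] at this
    first | exact this | linear_combination this | linear_combination -this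
  have z67 : g 6 7 = 0 := by
    have := congrFun (congrFun E3 6) 0
    simp [Lmap, helper48_cv_eI, helper48_cv_hI, Matrix.mul_apply, Fin.sum_univ_succ] at this
    first | exact this | linear_combination this | linear_combination -this
  have z70 : g 7 0 = 0 := by
    have := congrFun (congrFun E7 5) 0
    simp [Lmap, helper48_cv_eI, helper48_cv_hI, Matrix.mul_apply, Fin.sum_univ_succ] at this
    first | exact this | linear_combination this | linear_combination -this
  have z71 : g 7 1 = 0 := by
    have := congrFun (congrFun E2 4) 1
    simp [Lmap, helper48_cv_eI, helper48_cv_hI, Matrix.mul_apply, Fin.sum_univ_succ] at this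
    first | exact this | linear_combination this | linear_combination -this
  have z72 : g 7 2 = 0 := by
    have := congrFun (congrFun E2 4) 2
    simp [Lmap, helper48_cv_eI, helper48_cv_hI, Matrix.mul_apply, Fin.sum_univ_succ] at this
    first | exact this | linear_combination this | linear_combination -this
  have z73 : g 7 3 = 0 := by
    have := congrFun (congrFun E2 4) 3
    simp [Lmap, helper48_cv_eI, helper48_cv_hI, Matrix.mul_apply, Fin.sum_univ_succ] at this
    first | exact this | linear_combination this | linear_combination -this
  have z74 : g 7 4 = 0 := by
    have := congrFun (congrFun E0 7) 1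
    simp [Lmap, helper48_cv_eI, helper48_cv_hI, Matrix.mul_apply, Fin.sum_univ_succ] at this
    first | exact this | linear_combination this | linear_combination -this
  have z75 : g 7 5 = 0 := by
    have := congrFun (congrFun E0 7) 0
    simp [Lmap, helper48_cv_eI, helper48_cv_hI, Matrix.mul_apply, Fin.sum_univ_succ] at this
    first | exact this | linear_combination this | linear_combination -this
  have z76 : g 7 6 = 0 := by
    have := congrFun (congrFun E1 7) 0
    simp [Lmap, helper48_cv_eI, helper48_cv_hI, Matrix.mul_apply, Fin.sum_univ_succ] at this
    first | exact this | linear_combination this | linear_combination -this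
  have e50 : g 5 5 = g 0 0 := by
    have := congrFun (congrFun E0 5) 0
    simp [Lmap, helper48_cv_eI, helper48_cv_hI, Matrix.mul_apply, Fin.sum_univ_succ] at this
    first | exact this | exact this.symm | linear_combination this | linear_combination -this
  have d5 : g 5 5 = g 0 0 := e50
  have e60 : g 6 6 = g 0 0 := by
    have := congrFun (congrFun E1 6) 0
    simp [Lmap, helper48_cv_eI, helper48_cv_hI, Matrix.mul_apply, Fin.sum_univ_succ] at this
    first | exact this | exact this.symm | linear_combination this | linear_combination -this
  have d6 : g 6 6 = g 0 0 := e60
  have e30 : g 3 3 = g 0 0 := by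
    have := congrFun (congrFun E2 3) 0
    simp [Lmap, helper48_cv_eI, helper48_cv_hI, Matrix.mul_apply, Fin.sum_univ_succ] at this
    first | exact this | exact this.symm | linear_combination this | linear_combination -this
  have d3 : g 3 3 = g 0 0 := e30
  have e70 : g 7 7 = g 0 0 := by
    have := congrFun (congrFun E3 7) 0
    simp [Lmap, helper48_cv_eI, helper48_cv_hI, Matrix.mul_apply, Fin.sum_univ_succ] at this
    first | exact this | exact this.symm | linear_combination this | linear_combination -this
  have d7 : g 7 7 = g 0 0 := e70
  have e20 : g 2 2 = g 0 0 := by
    have := congrFun (congrFun E4 2) 0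
    simp [Lmap, helper48_cv_eI, helper48_cv_hI, Matrix.mul_apply, Fin.sum_univ_succ] at this
    first | exact this | exact this.symm | linear_combination this | linear_combination -this
  have d2 : g 2 2 = g 0 0 := e20
  have e10 : g 1 1 = g 0 0 := by
    have := congrFun (congrFun E5 1) 0
    simp [Lmap, helper48_cv_eI, helper48_cv_hI, Matrix.mul_apply, Fin.sum_univ_succ] at this
    first | exact this | exact this.symm | linear_combination this | linear_combination -this
  have d1 : g 1 1 = g 0 0 := e10
  have e45 : g 4 4 = g 5 5 := by
    have := congrFun (congrFun E5 4) 5
    simp [Lmap, helper48_cv_eI, helper48_cv_hI, Matrix.mul_apply, Fin.sum_univ_succ] at this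
    first | exact this | exact this.symm | linear_combination this | linear_combination -this
  have d4 : g 4 4 = g 0 0 := e45.trans d5
  refine ⟨g 0 0, ?_⟩
  ext i j
  fin_cases i <;> fin_cases j <;> simp <;> assumption

end Cfsg.Agent.Lib.helper48.D4
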