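import Cfsg.Agent.Lib.helper48.D4GS

set_option autoImplicit false

namespace Cfsg.Agent.Lib.helper48.D4

/-- Goursat with a simple second projection -/
theorem goursat_simple {A B : Type*} [Group A] [Group B] (S : Subgroup (A × B))
    (hs : IsSimpleGroup ↥(S.map (MonoidHom.snd A B)))
    (hnc : ¬ IsMulCommutative ↥(S.map (MonoidHom.snd A B)))
    (h1 : ∀ p ∈ S, p.2 = 1 → ∀ q ∈ S, p.1 * q.1 = q.1 * p.1)
    (h2 : ∃ p ∈ S, ∃ q ∈ S, p.1 * q.1 ≠ q.1 * p.1) :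
    Nonempty (↥(S.map (MonoidHom.snd A B)) ≃*
      ↥(S.map (MonoidHom.fst A B)) ⧸ Subgroup.center ↥(S.map (MonoidHom.fst A B))) := by
  apply Cfsg.Agent.Lib.helper48.D4GS.goursat_center S hs hnc h1
  obtain ⟨p₀, hp₀, q₀, hq₀, hne⟩ := h2
  refine ⟨p₀, hp₀, ?_⟩
  intro p hp hp1 hp2
  apply hne
  have hmem : p₀ * p⁻¹ ∈ S := S.mul_mem hp₀ (S.inv_mem hp)
  have h2' : (p₀ * p⁻¹).2 = 1 := by
    show p₀.2 * p.2⁻¹ = 1
    rw [hp2, mul_inv_cancel]
  have h3 : (p₀ * p⁻¹).1 = p₀.1 := by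
    show p₀.1 * p.1⁻¹ = p₀.1
    rw [hp1, inv_one, mul_one]
  have := h1 _ hmem h2' q₀ hq₀
  rw [h3] at this
  exact this

theorem quot_center_congr {A B : Type*} [Group A] [Group B] (ψ : A ≃* B) :
    Nonempty (A ⧸ Subgroup.center A ≃* B ⧸ Subgroup.center B) := by
  refine ⟨QuotientGroup.congr (Subgroup.center A) (Subgroup.center B) ψ ?_⟩
  ext b
  constructor
  · rintro ⟨a, ha, rfl⟩
    rw [Subgroup.mem_center_iff]
    intro g
    obtain ⟨g', rfl⟩ := ψ.surjective g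
    have := Subgroup.mem_center_iff.mp ha g'
    show ψ g' * ψ a = ψ a * ψ g'
    rw [← map_mul, ← map_mul, this]
  · intro hb
    refine ⟨ψ.symm b, ?_, ψ.apply_symm_apply b⟩
    rw [SetLike.mem_coe, Subgroup.mem_center_iff]
    intro g
    apply ψ.injective
    rw [map_mul, map_mul, ψ.apply_symm_apply]
    exact Subgroup.mem_center_iff.mp hb (ψ g)

end Cfsg.Agent.Lib.helper48.D4
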