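import Mathlib

set_option autoImplicit false

namespace Cfsg.Agent.Lib.helper48.D4GS

/-- Goursat with a simple second projection: if `π₂(S)` is simple and non-commutative, the elements
of `S` with trivial second component have central first component, and `1 × π₂(S) ⊄ S`, then
`π₂(S) ≃* π₁(S) ⧸ Z(π₁(S))`. -/
theorem goursat_center {A B : Type*} [Group A] [Group B] (S : Subgroup (A × B))
    (hs : IsSimpleGroup ↥(S.map (MonoidHom.snd A B)))
    (hnc : ¬ IsMulCommutative ↥(S.map (MonoidHom.snd A B)))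
    (hK : ∀ p ∈ S, p.2 = 1 → ∀ q ∈ S, p.1 * q.1 = q.1 * p.1)
    (hW : ∃ q ∈ S, ∀ p ∈ S, p.1 = 1 → p.2 ≠ q.2) :
    Nonempty (↥(S.map (MonoidHom.snd A B)) ≃*
      ↥(S.map (MonoidHom.fst A B)) ⧸ Subgroup.center ↥(S.map (MonoidHom.fst A B))) := by
  classical
  set ψ₁ : ↥S →* ↥(S.map (MonoidHom.fst A B)) := (MonoidHom.fst A B).subgroupMap S with hψ₁
  set ψ₂ : ↥S →* ↥(S.map (MonoidHom.snd A B)) := (MonoidHom.snd A B).subgroupMap S with hψ₂
  have hsurj₁ : Function.Surjective ψ₁ := MonoidHom.subgroupMap_surjective _ _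
  have hsurj₂ : Function.Surjective ψ₂ := MonoidHom.subgroupMap_surjective _ _
  have hψ₁v : ∀ p : ↥S, ((ψ₁ p : ↥(S.map (MonoidHom.fst A B))) : A) = (p : A × B).1 := fun p => rfl
  have hψ₂v : ∀ p : ↥S, ((ψ₂ p : ↥(S.map (MonoidHom.snd A B))) : B) = (p : A × B).2 := fun p => rfl
  -- Step 1: trivial first component implies trivial second component
  have hN2n : ((ψ₁.ker).map ψ₂).Normal := Subgroup.Normal.map (MonoidHom.normal_ker ψ₁) ψ₂ hsurj₂
  have hN2 : (ψ₁.ker).map ψ₂ = ⊥ := by
    rcases hN2n.eq_bot_or_eq_top with h | h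
    · exact h
    · exfalso
      obtain ⟨q, hq, hq'⟩ := hW
      have : ψ₂ ⟨q, hq⟩ ∈ (ψ₁.ker).map ψ₂ := by rw [h]; exact Subgroup.mem_top _
      obtain ⟨p, hp, hpq⟩ := Subgroup.mem_map.mp this
      have h1 : (p : A × B).1 = 1 := by
        have := MonoidHom.mem_ker.mp hp
        have h2 := congrArg Subtype.val this
        rw [hψ₁v] at h2
        exact h2
      have h2 : (p : A × B).2 = q.2 := by
        have h3 := congrArg Subtype.val hpq
        rw [hψ₂v, hψ₂v] at h3
        exact h3
      exact hq' p p.2 h1 h2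
  have step1 : ∀ p ∈ S, p.1 = 1 → p.2 = 1 := by
    intro p hp h1
    have hker : (⟨p, hp⟩ : ↥S) ∈ ψ₁.ker := by
      rw [MonoidHom.mem_ker]
      apply Subtype.ext
      rw [hψ₁v]
      exact h1
    have : ψ₂ ⟨p, hp⟩ ∈ (ψ₁.ker).map ψ₂ := Subgroup.mem_map_of_mem ψ₂ hker
    rw [hN2, Subgroup.mem_bot] at this
    have h2 := congrArg Subtype.val this
    rw [hψ₂v] at h2
    exact h2
  -- Step 3: the centre of the second projection is trivial
  have hZ : Subgroup.center ↥(S.map (MonoidHom.snd A B)) = ⊥ := by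
    rcases (inferInstance : (Subgroup.center ↥(S.map (MonoidHom.snd A B))).Normal).eq_bot_or_eq_top
      with h | h
    · exact h
    · exfalso
      apply hnc
      refine ⟨⟨fun a b => ?_⟩⟩
      have hb : b ∈ Subgroup.center ↥(S.map (MonoidHom.snd A B)) := by rw [h]; exact Subgroup.mem_top _
      exact Subgroup.mem_center_iff.mp hb a
  -- the two kernels agree
  have hker : ((QuotientGroup.mk' (Subgroup.center ↥(S.map (MonoidHom.fst A B)))).comp ψ₁).ker =
      ψ₂.ker := by
    ext p
    rw [MonoidHom.mem_ker, MonoidHom.mem_ker, MonoidHom.comp_apply, QuotientGroup.mk'_apply,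
      QuotientGroup.eq_one_iff, Subgroup.mem_center_iff]
    constructor
    · intro hc
      -- `p.1` is central in the first projection
      have hc' : ∀ q ∈ S, q.1 * (p : A × B).1 = (p : A × B).1 * q.1 := by
        intro q hq
        have := hc (ψ₁ ⟨q, hq⟩)
        have h2 := congrArg Subtype.val this
        exact h2
      have hcen : ψ₂ p ∈ Subgroup.center ↥(S.map (MonoidHom.snd A B)) := by
        rw [Subgroup.mem_center_iff]
        intro y
        obtain ⟨q, rfl⟩ := hsurj₂ y
        apply Subtype.ext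
        show (q : A × B).2 * (p : A × B).2 = (p : A × B).2 * (q : A × B).2
        have hmem : (q : A × B) * (p : A × B) * ((p : A × B) * (q : A × B))⁻¹ ∈ S :=
          S.mul_mem (S.mul_mem q.2 p.2) (S.inv_mem (S.mul_mem p.2 q.2))
        have h1 : ((q : A × B) * (p : A × B) * ((p : A × B) * (q : A × B))⁻¹).1 = 1 := by
          show (q : A × B).1 * (p : A × B).1 * ((p : A × B).1 * (q : A × B).1)⁻¹ = 1
          rw [hc' q q.2, mul_inv_cancel]
        have h2 := step1 _ hmem h1
        have h3 : (q : A × B).2 * (p : A × B).2 * ((p : A × B).2 * (q : A × B).2)⁻¹ = 1 := h2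
        exact mul_inv_eq_one.mp h3
      rw [hZ, Subgroup.mem_bot] at hcen
      exact hcen
    · intro h2 y
      obtain ⟨q, rfl⟩ := hsurj₁ y
      apply Subtype.ext
      show (q : A × B).1 * (p : A × B).1 = (p : A × B).1 * (q : A × B).1
      have h3 : (p : A × B).2 = 1 := by
        have h4 := congrArg Subtype.val h2
        rw [hψ₂v] at h4
        exact h4
      exact (hK p p.2 h3 q q.2).symm
  have hsurjφ : Function.Surjective
      ((QuotientGroup.mk' (Subgroup.center ↥(S.map (MonoidHom.fst A B)))).comp ψ₁) :=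
    (QuotientGroup.mk'_surjective _).comp hsurj₁
  exact ⟨(QuotientGroup.quotientKerEquivOfSurjective ψ₂ hsurj₂).symm.trans
    ((QuotientGroup.quotientMulEquivOfEq hker.symm).trans
      (QuotientGroup.quotientKerEquivOfSurjective _ hsurjφ))⟩

end Cfsg.Agent.Lib.helper48.D4GS
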