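import Mathlib
import Cfsg.Prelude.Def_Classical
import Cfsg.Prelude.Def_GeometricClasses
import Cfsg.Agent.Lib.helper63.Elusive1

/-! S5977/S5978 block [B], piece AKER (helper48, racing copy): for `i = ord_r(q)` odd, `r` odd,
an element `A` of order `r` of `GL_i(F)` has a polynomial `f` (its minimal polynomial) with
`f(A) = 0`, `f(1) ≠ 0` and `f` invertible at the inverse transpose of `A`. -/

set_option autoImplicit false

namespace Cfsg.Agent.Lib.helper96.FE

open Polynomial

theorem h48_q_ne_zero {F : Type*} [Field F] [Fintype F] (r : ℕ) [Fact r.Prime]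
    (hrF : (r : F) ≠ 0) : ((Fintype.card F : ℕ) : ZMod r) ≠ 0 := by
  have hr : r.Prime := Fact.out
  intro h0
  rw [ZMod.natCast_eq_zero_iff] at h0
  obtain ⟨p, hp⟩ := CharP.exists F
  have hpp : p.Prime := CharP.char_is_prime F p
  have : Fact p.Prime := ⟨hpp⟩
  obtain ⟨k, -, hk⟩ := FiniteField.card F p
  rw [hk] at h0
  have h1 := Nat.Prime.dvd_of_dvd_pow hr h0
  have h2 := (Nat.prime_dvd_prime_iff_eq hr hpp).mp h1
  apply hrF
  rw [h2]
  exact CharP.cast_eq_zero F p

theorem h48_frob_step {F : Type*} [Field F] [Fintype F] {L : Type*} [CommRing L] [Algebra F L]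
    (y : L) (g : F[X]) :
    aeval (y ^ Fintype.card F) g = (aeval y g) ^ Fintype.card F := by
  rw [← Polynomial.expand_aeval, FiniteField.expand_card, map_pow]

theorem h48_frob_iter {F : Type*} [Field F] [Fintype F] {L : Type*} [CommRing L] [Algebra F L]
    (x : L) (g : F[X]) (j : ℕ) :
    aeval (x ^ (Fintype.card F ^ j)) g = (aeval x g) ^ (Fintype.card F ^ j) := by
  induction j with
  | zero => simp
  | succ j ih => rw [pow_succ, pow_mul, h48_frob_step, ih, ← pow_mul]

/-- A linear map of prime order `r` on a space of dimension `ord_r(q)` acts irreducibly: every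
polynomial in it is zero or injective. -/
theorem h48_simple {F V : Type*} [Field F] [Fintype F] [AddCommGroup V] [Module F V] [Finite V]
    (r : ℕ) [Fact r.Prime] (hq : ((Fintype.card F : ℕ) : ZMod r) ≠ 0)
    (hdim : Module.finrank F V = orderOf ((Fintype.card F : ℕ) : ZMod r))
    (φ : V →ₗ[F] V) (hφ : φ ^ r = 1) (hφ1 : φ ≠ 1) (h : F[X]) :
    aeval φ h = 0 ∨ LinearMap.ker (aeval φ h) = ⊥ := by
  classical
  have h1 := Cfsg.Agent.Lib.helper63.Elusive.orderOf_dvd_finrank_sub r hq φ hφ
  have hle : Module.finrank F (LinearMap.ker (φ - 1)) ≤ Module.finrank F V :=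
    Submodule.finrank_le _
  have hbot : LinearMap.ker (φ - 1) = ⊥ := by
    by_contra hne
    have hd0 : Module.finrank F (LinearMap.ker (φ - 1)) ≠ 0 := fun h0 =>
      hne (Submodule.finrank_eq_zero.mp h0)
    have hsub : Module.finrank F V - Module.finrank F (LinearMap.ker (φ - 1)) = 0 := by
      by_contra hpos
      have h3 := Nat.le_of_dvd (Nat.pos_of_ne_zero hpos) h1
      rw [← hdim] at h3
      omega
    have hd : Module.finrank F (LinearMap.ker (φ - 1)) = Module.finrank F V := by omega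
    have htop : LinearMap.ker (φ - 1) = ⊤ := Submodule.eq_top_of_finrank_eq hd
    apply hφ1
    apply LinearMap.ext
    intro v
    have hv : v ∈ LinearMap.ker (φ - 1) := by rw [htop]; trivial
    rw [LinearMap.mem_ker, LinearMap.sub_apply, sub_eq_zero] at hv
    exact hv
  have hcomm : aeval φ h * φ = φ * aeval φ h := by
    have := congrArg (aeval φ) (mul_comm h X)
    simpa [map_mul, aeval_X] using this
  have hW : ∀ w ∈ LinearMap.ker (aeval φ h), φ w ∈ LinearMap.ker (aeval φ h) := by
    intro w hw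
    rw [LinearMap.mem_ker] at hw ⊢
    have h2 : (aeval φ h * φ) w = (φ * aeval φ h) w := by rw [hcomm]
    rw [Module.End.mul_apply, Module.End.mul_apply] at h2
    rw [h2, hw, map_zero]
  obtain ⟨ψ, hψ⟩ : ∃ ψ : LinearMap.ker (aeval φ h) →ₗ[F] LinearMap.ker (aeval φ h),
      ψ = φ.restrict hW := ⟨_, rfl⟩
  have hψapp : ∀ (k : ℕ) (w : LinearMap.ker (aeval φ h)), (((ψ ^ k) w : LinearMap.ker (aeval φ h)) : V)
      = (φ ^ k) (w : V) := by
    intro k
    induction k with
    | zero => intro w; rfl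
    | succ k ih =>
      intro w
      rw [pow_succ, pow_succ, Module.End.mul_apply, Module.End.mul_apply, ih, hψ]
      rfl
  have hψr : ψ ^ r = 1 := by
    apply LinearMap.ext
    intro w
    apply Subtype.ext
    rw [hψapp, hφ]
    rfl
  have hψbot : LinearMap.ker (ψ - 1) = ⊥ := by
    rw [Submodule.eq_bot_iff]
    intro w hw
    rw [LinearMap.mem_ker, LinearMap.sub_apply, sub_eq_zero] at hw
    have hw' : φ (w : V) = (w : V) := by
      have h3 := congrArg Subtype.val hw
      rw [hψ] at h3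
      exact h3
    have hmem : (w : V) ∈ LinearMap.ker (φ - 1) := by
      rw [LinearMap.mem_ker, LinearMap.sub_apply, sub_eq_zero]; exact hw'
    rw [hbot, Submodule.mem_bot] at hmem
    exact Subtype.ext hmem
  have h2 := Cfsg.Agent.Lib.helper63.Elusive.orderOf_dvd_finrank_sub r hq ψ hψr
  rw [hψbot, finrank_bot, Nat.sub_zero] at h2
  have hle2 : Module.finrank F (LinearMap.ker (aeval φ h)) ≤ Module.finrank F V :=
    Submodule.finrank_le _
  by_cases h0 : Module.finrank F (LinearMap.ker (aeval φ h)) = 0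
  · right
    exact Submodule.finrank_eq_zero.mp h0
  · left
    have h3 := Nat.le_of_dvd (Nat.pos_of_ne_zero h0) h2
    rw [← hdim] at h3
    have htop : LinearMap.ker (aeval φ h) = ⊤ :=
      Submodule.eq_top_of_finrank_eq (le_antisymm hle2 h3)
    exact LinearMap.ker_eq_top.mp htop

theorem h48_fe_gl_poly_core {F : Type*} [Field F] [Fintype F] (r : ℕ) [Fact r.Prime] (hr2 : r ≠ 2)
    (hrF : (r : F) ≠ 0) (i : ℕ) (hidef : i = orderOf ((Fintype.card F : ℕ) : ZMod r)) (hi : Odd i)
    (A : GL (Fin i) F) (hA : orderOf A = r) :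
    ∃ f : F[X], aeval A.val f = 0 ∧ f.eval 1 ≠ 0 ∧ IsUnit (aeval ((A⁻¹).val.transpose) f) := by
  classical
  have hr : r.Prime := Fact.out
  have hq := h48_q_ne_zero (F := F) r hrF
  obtain ⟨M, hM⟩ : ∃ M : Matrix (Fin i) (Fin i) F, M = A.val := ⟨_, rfl⟩
  have hAr : A ^ r = 1 := by rw [← hA]; exact pow_orderOf_eq_one A
  have hA1 : A ≠ 1 := by
    intro h
    rw [h, orderOf_one] at hA
    exact hr.one_lt.ne' hA.symm
  have hMr : M ^ r = 1 := by
    rw [hM, ← Units.val_pow_eq_pow_val, hAr, Units.val_one]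
  have hM1 : M ≠ 1 := by
    intro h; apply hA1; apply Units.ext; rw [Units.val_one, ← hM, h]
  -- every polynomial in `M` is zero or a unit
  have key : ∀ h : F[X], aeval M h = 0 ∨ IsUnit (aeval M h) := by
    intro h
    have hφr : (Matrix.toLinAlgEquiv' M : (Fin i → F) →ₗ[F] (Fin i → F)) ^ r = 1 := by
      rw [← map_pow, hMr, map_one]
    have hφ1 : (Matrix.toLinAlgEquiv' M : (Fin i → F) →ₗ[F] (Fin i → F)) ≠ 1 := by
      intro h'
      apply hM1
      apply (Matrix.toLinAlgEquiv' (R := F) (n := Fin i)).injective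
      rw [h', map_one]
    have hdim : Module.finrank F (Fin i → F) = orderOf ((Fintype.card F : ℕ) : ZMod r) := by
      rw [Module.finrank_fin_fun, hidef]
    have hae : aeval (Matrix.toLinAlgEquiv' M : (Fin i → F) →ₗ[F] (Fin i → F)) h
        = Matrix.toLinAlgEquiv' (aeval M h) :=
      Polynomial.aeval_algHom_apply (Matrix.toLinAlgEquiv' (R := F) (n := Fin i)) M h
    rcases h48_simple r hq hdim _ hφr hφ1 h with h0 | h0
    · left
      rw [hae] at h0
      apply (Matrix.toLinAlgEquiv' (R := F) (n := Fin i)).injective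
      rw [h0, map_zero]
    · right
      rw [hae] at h0
      rw [← Matrix.mulVec_injective_iff_isUnit]
      have h1 := LinearMap.ker_eq_bot.mp h0
      intro v w hvw
      apply h1
      simpa [Matrix.toLinAlgEquiv'_apply] using hvw
  have hint : IsIntegral F M := Matrix.isIntegral M
  obtain ⟨μ, hμdef⟩ : ∃ μ : F[X], μ = minpoly F M := ⟨_, rfl⟩
  have hμmon : μ.Monic := hμdef ▸ minpoly.monic hint
  have hμM : aeval M μ = 0 := hμdef ▸ minpoly.aeval F M
  have hμdvd : ∀ g : F[X], aeval M g = 0 → μ ∣ g := fun g hg => hμdef ▸ minpoly.dvd F M hg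
  have hμ0 : μ ≠ 0 := hμmon.ne_zero
  have hμne1 : ¬ IsUnit μ := by
    intro hu
    have h1 := hu.map (aeval M)
    rw [hμM] at h1
    have : Nontrivial (Matrix (Fin i) (Fin i) F) := nontrivial_of_ne M 1 hM1
    exact not_isUnit_zero h1
  have hμirr : Irreducible μ := by
    refine ⟨hμne1, ?_⟩
    intro a b hab
    have h0 : aeval M a * aeval M b = 0 := by rw [← map_mul, ← hab, hμM]
    rcases key a with ha | ha
    · right
      obtain ⟨c, hc⟩ := hμdvd a ha
      have h1 : μ * 1 = μ * (c * b) := by rw [mul_one, ← mul_assoc, ← hc, ← hab]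
      have h2 : c * b = 1 := (mul_left_cancel₀ hμ0 h1).symm
      exact ⟨⟨b, c, by rw [mul_comm]; exact h2, h2⟩, rfl⟩
    · left
      have hb : aeval M b = 0 := ha.mul_right_eq_zero.mp h0
      obtain ⟨c, hc⟩ := hμdvd b hb
      have h1 : μ * 1 = μ * (a * c) := by rw [mul_one, mul_left_comm, ← hc, ← hab]
      have h2 : a * c = 1 := (mul_left_cancel₀ hμ0 h1).symm
      exact ⟨⟨a, c, h2, by rw [mul_comm]; exact h2⟩, rfl⟩
  have hμ1 : μ.eval 1 ≠ 0 := by
    intro h0
    have hdvd : (X - C (1 : F)) ∣ μ := Polynomial.dvd_iff_isRoot.mpr h0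
    have hassoc := (irreducible_X_sub_C (1 : F)).associated_of_dvd hμirr hdvd
    have heq : X - C (1 : F) = μ := eq_of_monic_of_associated (monic_X_sub_C 1) hμmon hassoc
    apply hM1
    have h1 := hμM
    rw [← heq] at h1
    simpa [sub_eq_zero] using h1
  have hdeg : μ.natDegree ≤ i := by
    have h1 : μ ∣ M.charpoly := hμdef ▸ Matrix.minpoly_dvd_charpoly M
    have h2 := Polynomial.natDegree_le_of_dvd h1 (Matrix.charpoly_monic M).ne_zero
    rw [Matrix.charpoly_natDegree_eq_dim, Fintype.card_fin] at h2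
    exact h2
  have hcrux : aeval (M ^ (r - 1)) μ ≠ 0 := by
    intro h0
    have : Fact (Irreducible μ) := ⟨hμirr⟩
    obtain ⟨ρ, hρdef⟩ : ∃ ρ : AdjoinRoot μ, ρ = AdjoinRoot.root μ := ⟨_, rfl⟩
    have hρ : ∀ g : F[X], aeval ρ g = 0 ↔ μ ∣ g := by
      intro g
      rw [hρdef, AdjoinRoot.aeval_eq, AdjoinRoot.mk_eq_zero]
    have hρμ : aeval ρ μ = 0 := (hρ μ).mpr dvd_rfl
    have hρr : ρ ^ r = 1 := by
      have h1 : aeval ρ (X ^ r - 1 : F[X]) = 0 := (hρ _).mpr (hμdvd _ (by simp [hMr]))
      simpa [sub_eq_zero] using h1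
    have hρ1 : ρ ≠ 1 := by
      intro h1
      rw [h1] at hρμ
      have h2 : aeval (1 : AdjoinRoot μ) μ = algebraMap F (AdjoinRoot μ) (μ.eval 1) := by
        rw [← map_one (algebraMap F (AdjoinRoot μ)),
          Polynomial.aeval_algebraMap_apply_eq_algebraMap_eval]
      rw [h2] at hρμ
      exact hμ1 ((map_eq_zero _).mp hρμ)
    have hord : orderOf ρ = r := orderOf_eq_prime hρr hρ1
    have hρ0 : ρ ≠ 0 := by
      intro h; rw [h, zero_pow hr.ne_zero] at hρr; exact zero_ne_one hρr
    have hroot : ∀ j : ℕ, aeval (ρ ^ (Fintype.card F ^ j)) μ = 0 := by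
      intro j
      rw [h48_frob_iter, hρμ, zero_pow (pow_ne_zero _ Fintype.card_ne_zero)]
    have hinv : aeval (ρ ^ (r - 1)) μ = 0 := by
      have h1 : μ ∣ μ.comp (X ^ (r - 1)) :=
        hμdvd _ (by rw [Polynomial.aeval_comp]; simpa using h0)
      have h2 := (hρ _).mpr h1
      rw [Polynomial.aeval_comp] at h2
      simpa using h2
    have aux : ∀ j k : ℕ, j < k → k < i →
        ρ ^ (Fintype.card F ^ j) ≠ ρ ^ (Fintype.card F ^ k) := by
      intro j k hjk hk heq
      have hle : Fintype.card F ^ j ≤ Fintype.card F ^ k :=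
        Nat.pow_le_pow_right Fintype.card_pos hjk.le
      have h1 : ρ ^ (Fintype.card F ^ k - Fintype.card F ^ j) = 1 := by
        have h : ρ ^ (Fintype.card F ^ j) * ρ ^ (Fintype.card F ^ k - Fintype.card F ^ j)
            = ρ ^ (Fintype.card F ^ j) * 1 := by
          rw [← pow_add, Nat.add_sub_cancel' hle, mul_one, heq]
        exact mul_left_cancel₀ (pow_ne_zero _ hρ0) h
      have h2 : r ∣ Fintype.card F ^ k - Fintype.card F ^ j := by
        rw [← hord]; exact orderOf_dvd_of_pow_eq_one h1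
      have h3 : ((Fintype.card F : ℕ) : ZMod r) ^ k = ((Fintype.card F : ℕ) : ZMod r) ^ j := by
        have h := (ZMod.natCast_eq_zero_iff _ r).mpr h2
        rw [Nat.cast_sub hle, sub_eq_zero] at h
        simpa using h
      have h4 := Cfsg.Agent.Lib.helper63.Elusive.orderOf_dvd_sub _ hq hjk.le h3
      rw [← hidef] at h4
      have h5 := Nat.le_of_dvd (by omega) h4
      omega
    have hinj : Set.InjOn (fun j : ℕ => ρ ^ (Fintype.card F ^ j)) (Finset.range i : Set ℕ) := by
      intro j hj k hk hjk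
      simp only [Finset.coe_range, Set.mem_Iio] at hj hk
      by_contra hne
      rcases Nat.lt_or_gt_of_ne hne with h | h
      · exact aux j k h hk hjk
      · exact aux k j h hj hjk.symm
    obtain ⟨S, hSdef⟩ : ∃ S : Finset (AdjoinRoot μ),
        S = (Finset.range i).image (fun j : ℕ => ρ ^ (Fintype.card F ^ j)) := ⟨_, rfl⟩
    have hScard : S.card = i := by
      rw [hSdef, Finset.card_image_of_injOn hinj, Finset.card_range]
    have hμ'0 : μ.map (algebraMap F (AdjoinRoot μ)) ≠ 0 := (hμmon.map _).ne_zero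
    have hSroots : ∀ x ∈ S, x ∈ (μ.map (algebraMap F (AdjoinRoot μ))).roots := by
      intro x hx
      rw [hSdef, Finset.mem_image] at hx
      obtain ⟨j, -, rfl⟩ := hx
      rw [Polynomial.mem_roots hμ'0, Polynomial.IsRoot.def, Polynomial.eval_map_algebraMap]
      exact hroot j
    have hmem : ρ ^ (r - 1) ∈ S := by
      by_contra hnot
      have hsub : (insert (ρ ^ (r - 1)) S).val ⊆ (μ.map (algebraMap F (AdjoinRoot μ))).roots := by
        intro x hx
        rw [Finset.mem_val, Finset.mem_insert] at hx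
        rcases hx with rfl | hx
        · rw [Polynomial.mem_roots hμ'0, Polynomial.IsRoot.def, Polynomial.eval_map_algebraMap]
          exact hinv
        · exact hSroots x hx
      have h1 := Polynomial.card_le_degree_of_subset_roots hsub
      rw [Finset.card_insert_of_notMem hnot, hScard, Polynomial.natDegree_map] at h1
      omega
    rw [hSdef, Finset.mem_image] at hmem
    obtain ⟨j, hj, hjeq⟩ := hmem
    rw [Finset.mem_range] at hj
    have h1 : ρ ^ (Fintype.card F ^ j + 1) = 1 := by
      rw [pow_succ, hjeq, ← pow_succ, Nat.sub_add_cancel hr.one_lt.le, hρr]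
    have h2 : r ∣ Fintype.card F ^ j + 1 := by
      rw [← hord]; exact orderOf_dvd_of_pow_eq_one h1
    have h3 : ((Fintype.card F : ℕ) : ZMod r) ^ j = -1 := by
      have h := (ZMod.natCast_eq_zero_iff _ r).mpr h2
      push_cast at h
      exact eq_neg_of_add_eq_zero_left h
    have h4 : ((Fintype.card F : ℕ) : ZMod r) ^ (2 * j) = 1 := by
      rw [mul_comm, pow_mul, h3]; norm_num
    have h5 : i ∣ 2 * j := by rw [hidef]; exact orderOf_dvd_of_pow_eq_one h4
    have h6 : i ∣ j := (Nat.coprime_two_right.mpr hi).dvd_of_dvd_mul_left h5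
    have hj0 : j = 0 := Nat.eq_zero_of_dvd_of_lt h6 hj
    rw [hj0, pow_zero] at h3
    have h7 : ((2 : ℕ) : ZMod r) = 0 := by
      have h := eq_neg_iff_add_eq_zero.mp h3
      push_cast
      rw [← one_add_one_eq_two]
      exact h
    have h8 := (ZMod.natCast_eq_zero_iff 2 r).mp h7
    have h9 := Nat.le_of_dvd (by norm_num) h8
    have h10 := hr.two_le
    omega
  refine ⟨μ, ?_, hμ1, ?_⟩
  · rw [← hM]; exact hμM
  · have hinvA : (A⁻¹).val = M ^ (r - 1) := by
      have h1 : A⁻¹ = A ^ (r - 1) := by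
        apply inv_eq_of_mul_eq_one_right
        rw [← pow_succ', Nat.sub_add_cancel hr.one_lt.le, hAr]
      rw [h1, Units.val_pow_eq_pow_val, hM]
    have hunit : IsUnit (aeval (M ^ (r - 1)) μ) := by
      rcases key (μ.comp (X ^ (r - 1))) with h0 | h0
      · exfalso; apply hcrux; rw [Polynomial.aeval_comp] at h0; simpa using h0
      · rw [Polynomial.aeval_comp] at h0; simpa using h0
    have htr : aeval ((M ^ (r - 1)).transpose) μ = (aeval (M ^ (r - 1)) μ).transpose := by
      rw [Polynomial.aeval_eq_sum_range, Polynomial.aeval_eq_sum_range, Matrix.transpose_sum]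
      apply Finset.sum_congr rfl
      intro k _
      simp only [Matrix.transpose_smul, Matrix.transpose_pow]
    rw [hinvA, htr]
    rw [Matrix.isUnit_iff_isUnit_det, Matrix.det_transpose, ← Matrix.isUnit_iff_isUnit_det]
    exact hunit

/-- AKER (L), racing copy of `fe_gl_poly` (verbatim statement). -/
theorem h48_fe_gl_poly {F : Type*} [Field F] [Fintype F] (r : ℕ) [Fact r.Prime] (hr2 : r ≠ 2)
    (hrF : (r : F) ≠ 0) (hi : Odd (orderOf ((Fintype.card F : ℕ) : ZMod r)))
    (A : GL (Fin (orderOf ((Fintype.card F : ℕ) : ZMod r))) F) (hA : orderOf A = r) :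
    ∃ f : F[X], aeval A.val f = 0 ∧ f.eval 1 ≠ 0 ∧ IsUnit (aeval ((A⁻¹).val.transpose) f) :=
  h48_fe_gl_poly_core r hr2 hrF _ rfl hi A hA

end Cfsg.Agent.Lib.helper96.FE
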