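import Mathlib
import Cfsg.Agent.Lib.helper3.GfDefs
import Cfsg.Agent.Lib.helper48.GfEXA

set_option autoImplicit false

namespace Cfsg.Agent.Lib.helper3.Gf

universe u

open Polynomial in
/-- Field facts for the involution `x ↦ x ^ p ^ b` of a field with `p ^ (2 b)` elements. -/
theorem h48_gf_sigma {L : Type*} [Field L] [Finite L] (p b : ℕ) [Fact p.Prime] [CharP L p]
    (hb : 1 ≤ b) (hcard : Nat.card L = p ^ (2 * b)) :
    (∀ x : L, (x ^ p ^ b) ^ p ^ b = x) ∧
    Nat.card {m : L // m ^ p ^ b = m} = p ^ b ∧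
    (∀ z : L, z ^ p ^ b = -z → ∃ v : L, v - v ^ p ^ b = z) := by
  classical
  have hp := (Fact.out : p.Prime)
  have := Fintype.ofFinite L
  set s := p ^ b with hs
  have hs2 : 2 ≤ s := by
    calc 2 ≤ p := hp.two_le
      _ = p ^ 1 := (pow_one p).symm
      _ ≤ p ^ b := Nat.pow_le_pow_right hp.pos hb
  have hcardL : Fintype.card L = s * s := by
    rw [← Nat.card_eq_fintype_card, hcard, hs, ← pow_add, two_mul]
  have hσσ : ∀ x : L, (x ^ s) ^ s = x := by
    intro x
    rw [← pow_mul, ← hcardL, FiniteField.pow_card]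
  have hsub : ∀ x y : L, (x - y) ^ s = x ^ s - y ^ s := fun x y => sub_pow_char_pow x y b
  -- root bounds
  have hdeg1 : (X ^ s - X : L[X]).natDegree = s := by
    rw [natDegree_sub_eq_left_of_natDegree_lt, natDegree_X_pow]
    rw [natDegree_X_pow, natDegree_X]
    omega
  have hdeg2 : (X ^ s + X : L[X]).natDegree = s := by
    rw [natDegree_add_eq_left_of_natDegree_lt, natDegree_X_pow]
    rw [natDegree_X_pow, natDegree_X]
    omega
  have hne1 : (X ^ s - X : L[X]) ≠ 0 := ne_zero_of_natDegree_gt (n := 0) (by rw [hdeg1]; omega)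
  have hne2 : (X ^ s + X : L[X]) ≠ 0 := ne_zero_of_natDegree_gt (n := 0) (by rw [hdeg2]; omega)
  have hA : (Finset.univ.filter (fun m : L => m ^ s = m)).card ≤ s := by
    have h1 := card_le_degree_of_subset_roots (p := (X ^ s - X : L[X]))
      (Z := Finset.univ.filter (fun m : L => m ^ s = m)) (by
        intro m hm
        rw [Finset.mem_val, Finset.mem_filter] at hm
        rw [mem_roots hne1, IsRoot.def, eval_sub, eval_pow, eval_X, hm.2, sub_self])
    rwa [hdeg1] at h1
  have hK : (Finset.univ.filter (fun z : L => z ^ s = -z)).card ≤ s := by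
    have h1 := card_le_degree_of_subset_roots (p := (X ^ s + X : L[X]))
      (Z := Finset.univ.filter (fun z : L => z ^ s = -z)) (by
        intro m hm
        rw [Finset.mem_val, Finset.mem_filter] at hm
        rw [mem_roots hne2, IsRoot.def, eval_add, eval_pow, eval_X, hm.2, neg_add_cancel])
    rwa [hdeg2] at h1
  -- the map 1 - σ
  have himg : (Finset.univ : Finset L).image (fun x : L => x - x ^ s) ⊆
      Finset.univ.filter (fun z : L => z ^ s = -z) := by
    intro z hz
    obtain ⟨x, -, rfl⟩ := Finset.mem_image.mp hz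
    rw [Finset.mem_filter]
    refine ⟨Finset.mem_univ _, ?_⟩
    rw [hsub, hσσ]
    ring
  have hfib : ∀ a ∈ (Finset.univ : Finset L).image (fun x : L => x - x ^ s),
      ((Finset.univ : Finset L).filter (fun x => x - x ^ s = a)).card ≤
        (Finset.univ.filter (fun m : L => m ^ s = m)).card := by
    intro a ha
    obtain ⟨x₀, -, rfl⟩ := Finset.mem_image.mp ha
    refine Finset.card_le_card_of_injOn (fun x => x - x₀) ?_ ?_
    · intro x hx
      have hx' := Finset.mem_coe.mp hx
      rw [Finset.mem_filter] at hx'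
      rw [Finset.mem_coe, Finset.mem_filter]
      refine ⟨Finset.mem_univ _, ?_⟩
      rw [hsub]
      linear_combination -hx'.2
    · intro x _ x' _ h
      exact sub_left_injective h
  have hmul := Finset.card_le_mul_card_image (f := fun x : L => x - x ^ s) Finset.univ _ hfib
  rw [Finset.card_univ, hcardL] at hmul
  have himgle := Finset.card_le_card himg
  have hA' : (Finset.univ.filter (fun m : L => m ^ s = m)).card = s := by
    apply le_antisymm hA
    by_contra hlt
    have h1 : (Finset.univ.filter (fun m : L => m ^ s = m)).card *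
        ((Finset.univ : Finset L).image (fun x : L => x - x ^ s)).card < s * s := by
      have h2 : (Finset.univ.filter (fun m : L => m ^ s = m)).card < s := by omega
      have h3 : ((Finset.univ : Finset L).image (fun x : L => x - x ^ s)).card ≤ s :=
        himgle.trans hK
      nlinarith
    omega
  refine ⟨hσσ, ?_, ?_⟩
  · rw [Nat.card_eq_fintype_card, Fintype.card_subtype, hA']
  · intro z hz
    have himgeq : (Finset.univ : Finset L).image (fun x : L => x - x ^ s) =
        Finset.univ.filter (fun z : L => z ^ s = -z) := by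
      apply Finset.eq_of_subset_of_card_le himg
      rw [hA'] at hmul
      have h1 : s ≤ ((Finset.univ : Finset L).image (fun x : L => x - x ^ s)).card := by
        by_contra hlt
        have : s * ((Finset.univ : Finset L).image (fun x : L => x - x ^ s)).card < s * s := by
          nlinarith
        omega
      omega
    have hzmem : z ∈ (Finset.univ : Finset L).image (fun x : L => x - x ^ s) := by
      rw [himgeq, Finset.mem_filter]
      exact ⟨Finset.mem_univ _, hz⟩
    obtain ⟨v, -, hv⟩ := Finset.mem_image.mp hzmem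
    exact ⟨v, hv⟩

/-- `lam * lam ^ p ^ b = 1` for `lam` of order `q` when `ord_q(p) = 2 b`. -/
theorem h48_gf_lam_norm {L : Type*} [Field L] (p q b : ℕ) [Fact q.Prime] (hb : 1 ≤ b)
    (ha : orderOf (p : ZMod q) = 2 * b) (lam : L) (hlam : lam ^ q = 1) :
    lam * lam ^ p ^ b = 1 := by
  have h1 : ((p : ZMod q) ^ b) * ((p : ZMod q) ^ b) = 1 := by
    rw [← pow_add, ← two_mul, ← ha, pow_orderOf_eq_one]
  rcases mul_self_eq_one_iff.mp h1 with h | h
  · exfalso
    have := orderOf_dvd_of_pow_eq_one h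
    rw [ha] at this
    have := Nat.le_of_dvd (by omega) this
    omega
  · have h2 : ((p ^ b + 1 : ℕ) : ZMod q) = 0 := by
      rw [Nat.cast_add, Nat.cast_pow, h, Nat.cast_one, neg_add_cancel]
    obtain ⟨c, hc⟩ := (ZMod.natCast_eq_zero_iff _ _).mp h2
    rw [← pow_succ', hc, pow_mul, hlam, one_pow]


/-- central extension of `V` by `M` through a biadditive cocycle -/
structure h48Ext (V M : Type u) [AddCommGroup V] [AddCommGroup M] (B : V →+ V →+ M) where
  /-- the `V`-component -/
  v : V
  /-- the central component -/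
  m : M

theorem h48Ext_ext {V M : Type u} [AddCommGroup V] [AddCommGroup M] {B : V →+ V →+ M}
    {a b : h48Ext V M B} (h1 : a.v = b.v) (h2 : a.m = b.m) : a = b := by
  cases a
  cases b
  simp only at h1 h2
  subst h1
  subst h2
  rfl

instance h48ExtGroup {V M : Type u} [AddCommGroup V] [AddCommGroup M] {B : V →+ V →+ M} :
    Group (h48Ext V M B) where
  mul a b := ⟨a.v + b.v, a.m + b.m + B a.v b.v⟩
  one := ⟨0, 0⟩
  inv a := ⟨-a.v, -a.m + B a.v a.v⟩
  mul_assoc a b c := by
    apply h48Ext_ext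
    · exact add_assoc _ _ _
    · show a.m + b.m + B a.v b.v + c.m + B (a.v + b.v) c.v =
        a.m + (b.m + c.m + B b.v c.v) + B a.v (b.v + c.v)
      rw [map_add, map_add, AddMonoidHom.add_apply]
      abel
  one_mul a := by
    apply h48Ext_ext
    · exact zero_add _
    · show 0 + a.m + B 0 a.v = a.m
      rw [map_zero, AddMonoidHom.zero_apply]
      abel
  mul_one a := by
    apply h48Ext_ext
    · exact add_zero _
    · show a.m + 0 + B a.v 0 = a.m
      rw [map_zero]
      abel
  inv_mul_cancel a := by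
    apply h48Ext_ext
    · exact neg_add_cancel _
    · show -a.m + B a.v a.v + a.m + B (-a.v) a.v = 0
      rw [map_neg, AddMonoidHom.neg_apply]
      abel

theorem h48Ext_mul_v {V M : Type u} [AddCommGroup V] [AddCommGroup M] {B : V →+ V →+ M}
    (a b : h48Ext V M B) : (a * b).v = a.v + b.v := rfl

theorem h48Ext_mul_m {V M : Type u} [AddCommGroup V] [AddCommGroup M] {B : V →+ V →+ M}
    (a b : h48Ext V M B) : (a * b).m = a.m + b.m + B a.v b.v := rfl

theorem h48Ext_one_v {V M : Type u} [AddCommGroup V] [AddCommGroup M] {B : V →+ V →+ M} :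
    (1 : h48Ext V M B).v = 0 := rfl

theorem h48Ext_one_m {V M : Type u} [AddCommGroup V] [AddCommGroup M] {B : V →+ V →+ M} :
    (1 : h48Ext V M B).m = 0 := rfl

theorem h48Ext_inv_v {V M : Type u} [AddCommGroup V] [AddCommGroup M] {B : V →+ V →+ M}
    (a : h48Ext V M B) : (a⁻¹).v = -a.v := rfl

theorem h48Ext_inv_m {V M : Type u} [AddCommGroup V] [AddCommGroup M] {B : V →+ V →+ M}
    (a : h48Ext V M B) : (a⁻¹).m = -a.m + B a.v a.v := rfl

theorem h48Ext_comm {V M : Type u} [AddCommGroup V] [AddCommGroup M] {B : V →+ V →+ M}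
    (a a' : h48Ext V M B) :
    a * a' * a⁻¹ * a'⁻¹ = ⟨0, B a.v a'.v - B a'.v a.v⟩ := by
  apply h48Ext_ext
  · simp only [h48Ext_mul_v, h48Ext_inv_v]
    abel
  · simp only [h48Ext_mul_m, h48Ext_mul_v, h48Ext_inv_m, h48Ext_inv_v, map_add, map_neg,
      AddMonoidHom.add_apply, AddMonoidHom.neg_apply]
    abel

/-- projection to `V` -/
def h48ExtFst {V M : Type u} [AddCommGroup V] [AddCommGroup M] (B : V →+ V →+ M) :
    h48Ext V M B →* Multiplicative V where
  toFun a := Multiplicative.ofAdd a.v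
  map_one' := rfl
  map_mul' _ _ := rfl

/-- the central copy of `M` -/
def h48ExtCen {V M : Type u} [AddCommGroup V] [AddCommGroup M] (B : V →+ V →+ M) :
    Multiplicative M →* h48Ext V M B where
  toFun m := ⟨0, Multiplicative.toAdd m⟩
  map_one' := rfl
  map_mul' x y := by
    apply h48Ext_ext
    · exact (add_zero (0 : V)).symm
    · show Multiplicative.toAdd x + Multiplicative.toAdd y =
        Multiplicative.toAdd x + Multiplicative.toAdd y + B 0 0
      rw [map_zero, add_zero]

/-- an action on `V` preserving the cocycle acts on the extension -/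
def h48ExtAct {V M : Type u} [AddCommGroup V] [AddCommGroup M] (B : V →+ V →+ M) {C : Type*}
    [Group C] (φ : C →* MulAut (Multiplicative V))
    (hB : ∀ (c : C) (v v' : V), B (Multiplicative.toAdd (φ c (Multiplicative.ofAdd v)))
      (Multiplicative.toAdd (φ c (Multiplicative.ofAdd v'))) = B v v') :
    C →* MulAut (h48Ext V M B) where
  toFun c :=
    { toFun := fun a => ⟨Multiplicative.toAdd (φ c (Multiplicative.ofAdd a.v)), a.m⟩
      invFun := fun a => ⟨Multiplicative.toAdd (φ c⁻¹ (Multiplicative.ofAdd a.v)), a.m⟩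
      left_inv := by
        intro a
        apply h48Ext_ext
        · show Multiplicative.toAdd (φ c⁻¹ (Multiplicative.ofAdd
            (Multiplicative.toAdd (φ c (Multiplicative.ofAdd a.v))))) = a.v
          rw [ofAdd_toAdd, ← MulAut.mul_apply, ← map_mul, inv_mul_cancel, map_one]
          rfl
        · rfl
      right_inv := by
        intro a
        apply h48Ext_ext
        · show Multiplicative.toAdd (φ c (Multiplicative.ofAdd
            (Multiplicative.toAdd (φ c⁻¹ (Multiplicative.ofAdd a.v))))) = a.v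
          rw [ofAdd_toAdd, ← MulAut.mul_apply, ← map_mul, mul_inv_cancel, map_one]
          rfl
        · rfl
      map_mul' := by
        intro a b
        apply h48Ext_ext
        · show Multiplicative.toAdd (φ c (Multiplicative.ofAdd (a.v + b.v))) =
            Multiplicative.toAdd (φ c (Multiplicative.ofAdd a.v)) +
              Multiplicative.toAdd (φ c (Multiplicative.ofAdd b.v))
          rw [ofAdd_add, map_mul]
          rfl
        · show a.m + b.m + B a.v b.v = a.m + b.m +
            B (Multiplicative.toAdd (φ c (Multiplicative.ofAdd a.v)))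
              (Multiplicative.toAdd (φ c (Multiplicative.ofAdd b.v)))
          rw [hB] }
  map_one' := by
    apply MulEquiv.ext
    intro a
    apply h48Ext_ext
    · show Multiplicative.toAdd (φ 1 (Multiplicative.ofAdd a.v)) = a.v
      rw [map_one]
      rfl
    · rfl
  map_mul' := by
    intro c c'
    apply MulEquiv.ext
    intro a
    apply h48Ext_ext
    · show Multiplicative.toAdd (φ (c * c') (Multiplicative.ofAdd a.v)) =
        Multiplicative.toAdd (φ c (Multiplicative.ofAdd
          (Multiplicative.toAdd (φ c' (Multiplicative.ofAdd a.v)))))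
      rw [map_mul]
      rfl
    · rfl

theorem h48ExtAct_apply_v {V M : Type u} [AddCommGroup V] [AddCommGroup M] (B : V →+ V →+ M)
    {C : Type*} [Group C] (φ : C →* MulAut (Multiplicative V))
    (hB : ∀ (c : C) (v v' : V), B (Multiplicative.toAdd (φ c (Multiplicative.ofAdd v)))
      (Multiplicative.toAdd (φ c (Multiplicative.ofAdd v'))) = B v v') (c : C)
    (a : h48Ext V M B) :
    (h48ExtAct B φ hB c a).v = Multiplicative.toAdd (φ c (Multiplicative.ofAdd a.v)) := rfl

theorem h48ExtAct_apply_m {V M : Type u} [AddCommGroup V] [AddCommGroup M] (B : V →+ V →+ M)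
    {C : Type*} [Group C] (φ : C →* MulAut (Multiplicative V))
    (hB : ∀ (c : C) (v v' : V), B (Multiplicative.toAdd (φ c (Multiplicative.ofAdd v)))
      (Multiplicative.toAdd (φ c (Multiplicative.ofAdd v'))) = B v v') (c : C)
    (a : h48Ext V M B) : (h48ExtAct B φ hB c a).m = a.m := rfl

/-- Cover data pull back along a surjection with central kernel of exponent `p`. -/
theorem h48_cov_pullback (p q r : ℕ) {G : Type*} [Group G] {Gb : Type*} [Group Gb] (π : G →* Gb)
    (hπ : Function.Surjective π) (hcen : π.ker ≤ Subgroup.center G)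
    (hexp : ∀ g ∈ π.ker, g ^ p = 1) (Pb : Subgroup Gb) (yb : Gb) (y : G) (hy : π y = yb)
    (h : Cov p q r ⊥ Pb yb) : Cov p q r π.ker (Pb.comap π) y := by
  have hPn := h.P_normal
  refine
    { N_le_P := ?_
      N_central := hcen
      P_normal := Subgroup.Normal.comap hPn π
      P_pgroup := ?_
      comm_mem := ?_
      pow_mem := ?_
      sup_top := ?_
      ord_dvd := ?_
      ord_mem := ?_
      yq := ?_
      nontriv := ?_
      irr := ?_ }
  · intro g hg
    rw [Subgroup.mem_comap, MonoidHom.mem_ker.mp hg]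
    exact Pb.one_mem
  · intro g
    refine ⟨2, ?_⟩
    apply Subtype.ext
    show (g : G) ^ p ^ 2 = 1
    have h1 : (g : G) ^ p ∈ π.ker := by
      rw [MonoidHom.mem_ker, map_pow]
      exact Subgroup.mem_bot.mp (h.pow_mem _ g.2)
    rw [pow_two, pow_mul]
    exact hexp _ h1
  · intro u hu v hv
    rw [MonoidHom.mem_ker, map_mul, map_mul, map_mul, map_inv, map_inv]
    exact Subgroup.mem_bot.mp (h.comm_mem _ hu _ hv)
  · intro u hu
    rw [MonoidHom.mem_ker, map_pow]
    exact Subgroup.mem_bot.mp (h.pow_mem _ hu)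
  · rw [eq_top_iff]
    intro g _
    have h1 : π g ∈ Pb ⊔ Subgroup.zpowers yb := by
      rw [h.sup_top]
      trivial
    have h2 : π g ∈ ((Pb ⊔ Subgroup.zpowers yb : Subgroup Gb) : Set Gb) := h1
    rw [Subgroup.normal_mul] at h2
    obtain ⟨a, ha, c, hc, hac⟩ := Set.mem_mul.mp h2
    obtain ⟨k, rfl⟩ := Subgroup.mem_zpowers_iff.mp hc
    have h3 : g = (g * (y ^ k)⁻¹) * y ^ k := by group
    rw [h3]
    apply Subgroup.mul_mem_sup
    · rw [Subgroup.mem_comap, map_mul, map_inv, map_zpow, hy, ← hac, mul_inv_cancel_right]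
      exact ha
    · exact Subgroup.zpow_mem_zpowers y k
  · intro k hk
    rw [Subgroup.mem_comap, map_pow, hy] at hk
    exact h.ord_dvd k hk
  · rw [Subgroup.mem_comap, map_pow, hy]
    exact h.ord_mem
  · intro u hu
    rw [MonoidHom.mem_ker, map_mul, map_mul, map_mul, map_inv, map_inv, map_pow, hy]
    exact Subgroup.mem_bot.mp (h.yq _ hu)
  · obtain ⟨ub, hub, hn⟩ := h.nontriv
    obtain ⟨u, rfl⟩ := hπ ub
    refine ⟨u, hub, ?_⟩
    intro hk
    apply hn
    rw [Subgroup.mem_bot]
    rw [MonoidHom.mem_ker, map_mul, map_mul, map_mul, map_inv, map_inv, hy] at hk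
    exact hk
  · intro W hNW hWP hWy
    have hirr := h.irr (W.map π) bot_le (by
      rintro _ ⟨w, hw, rfl⟩
      exact hWP hw) (by
      rintro _ ⟨w, hw, rfl⟩
      refine ⟨y * w * y⁻¹, hWy w hw, ?_⟩
      rw [map_mul, map_mul, map_inv, hy])
    rcases hirr with h1 | h1
    · left
      apply le_antisymm _ hNW
      intro w hw
      have h2 : π w ∈ W.map π := Subgroup.mem_map_of_mem π hw
      rw [h1, Subgroup.mem_bot] at h2
      exact MonoidHom.mem_ker.mpr h2
    · right
      apply le_antisymm hWP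
      intro u hu
      have h2 : π u ∈ W.map π := by
        rw [h1]
        exact hu
      obtain ⟨w, hw, hwu⟩ := h2
      have h3 : u = w * (w⁻¹ * u) := by group
      rw [h3]
      apply W.mul_mem hw
      apply hNW
      rw [MonoidHom.mem_ker, map_mul, map_inv, hwu, inv_mul_cancel]

theorem h48_comm_central {G : Type*} [Group G] (s₁ s₂ n₁ n₂ : G)
    (h₁ : n₁ ∈ Subgroup.center G) (h₂ : n₂ ∈ Subgroup.center G) :
    (s₁ * n₁) * (s₂ * n₂) * (s₁ * n₁)⁻¹ * (s₂ * n₂)⁻¹ = s₁ * s₂ * s₁⁻¹ * s₂⁻¹ := by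
  have c1 : ∀ g, g * n₁ = n₁ * g := Subgroup.mem_center_iff.mp h₁
  have c2 : ∀ g, g * n₂ = n₂ * g := Subgroup.mem_center_iff.mp h₂
  have k1 : ∀ x, n₁ * x * n₁⁻¹ = x := fun x => by rw [← c1 x, mul_inv_cancel_right]
  have k2 : ∀ x, n₂ * x * n₂⁻¹ = x := fun x => by rw [← c2 x, mul_inv_cancel_right]
  calc (s₁ * n₁) * (s₂ * n₂) * (s₁ * n₁)⁻¹ * (s₂ * n₂)⁻¹
      = s₁ * (n₁ * (s₂ * n₂) * n₁⁻¹) * s₁⁻¹ * n₂⁻¹ * s₂⁻¹ := by group
    _ = s₁ * (s₂ * n₂) * s₁⁻¹ * n₂⁻¹ * s₂⁻¹ := by rw [k1]
    _ = s₁ * s₂ * (n₂ * s₁⁻¹ * n₂⁻¹) * s₂⁻¹ := by group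
    _ = s₁ * s₂ * s₁⁻¹ * s₂⁻¹ := by rw [k2]


/-- The cover data of `L ⋊ C_{q^r}` (the group of EXA), as a standalone statement. -/
theorem h48_cov_semi (p q r : ℕ) [Fact p.Prime] [Fact q.Prime] (L : Type u) [Field L] [Finite L]
    (hchar : ∀ x : L, p • x = 0) (hcard : Nat.card L = p ^ orderOf (p : ZMod q))
    (lam : L) (hlam : lam ^ q = 1) (hlam1 : lam ≠ 1) [NeZero (q ^ r)]
    (hlamn : lam ^ (q ^ r) = 1) :
    Cov p q r (⊥ : Subgroup (Multiplicative L ⋊[h48GfAct (q ^ r) lam hlamn]
        Multiplicative (ZMod (q ^ r))))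
      (SemidirectProduct.rightHom).ker
      (SemidirectProduct.inr (Multiplicative.ofAdd (1 : ZMod (q ^ r)))) := by
  classical
  have hp := (Fact.out : p.Prime)
  have hq := (Fact.out : q.Prime)
  set K := Multiplicative L ⋊[h48GfAct (q ^ r) lam hlamn] Multiplicative (ZMod (q ^ r)) with hK
  set P : Subgroup K := (SemidirectProduct.rightHom).ker with hP
  set y : K := SemidirectProduct.inr (Multiplicative.ofAdd (1 : ZMod (q ^ r))) with hy
  have hPmem : ∀ u : K, u ∈ P ↔ u.right = 1 := fun u => by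
    rw [hP, MonoidHom.mem_ker]
    rfl
  have hPinl : ∀ u : K, u ∈ P → u = SemidirectProduct.inl u.left := by
    intro u hu
    ext
    · rfl
    · rw [(hPmem u).mp hu]
      rfl
  have hinlP : ∀ x : Multiplicative L, (SemidirectProduct.inl x : K) ∈ P := fun x =>
    (hPmem _).mpr rfl
  have hypow : ∀ k : ℕ, y ^ k =
      SemidirectProduct.inr (Multiplicative.ofAdd ((k : ZMod (q ^ r)))) := by
    intro k
    rw [hy, ← map_pow, ← ofAdd_nsmul, nsmul_one]
  have hconj : ∀ (k : ℕ) (x : Multiplicative L),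
      y ^ k * SemidirectProduct.inl x * (y ^ k)⁻¹ =
        (SemidirectProduct.inl (Multiplicative.ofAdd (lam ^ k * Multiplicative.toAdd x)) : K) := by
    intro k x
    rw [hypow, ← map_inv, ← SemidirectProduct.inl_aut, h48GfAct_apply]
    congr 2
    show lam ^ ((k : ZMod (q ^ r))).val * _ = _
    rw [ZMod.val_natCast]
    congr 1
    conv_rhs => rw [← Nat.div_add_mod k (q ^ r), pow_add, pow_mul, hlamn, one_pow, one_mul]
  have hpowP : ∀ u : K, u ∈ P → u ^ p = 1 := by
    intro u hu
    rw [hPinl u hu, ← map_pow]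
    have : u.left ^ p = 1 := by
      show Multiplicative.ofAdd (p • Multiplicative.toAdd u.left) = 1
      rw [hchar]
      rfl
    rw [this, map_one]
  refine
    { N_le_P := bot_le
      N_central := bot_le
      P_normal := MonoidHom.normal_ker _
      P_pgroup := ?_
      comm_mem := ?_
      pow_mem := ?_
      sup_top := ?_
      ord_dvd := ?_
      ord_mem := ?_
      yq := ?_
      nontriv := ?_
      irr := ?_ }
  · intro g
    refine ⟨1, ?_⟩
    apply Subtype.ext
    show (g : K) ^ p ^ 1 = 1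
    rw [pow_one]
    exact hpowP g g.2
  · intro u hu v hv
    rw [Subgroup.mem_bot, hPinl u hu, hPinl v hv, ← map_inv, ← map_inv, ← map_mul, ← map_mul,
      ← map_mul]
    have : u.left * v.left * u.left⁻¹ * v.left⁻¹ = 1 := by
      rw [mul_comm u.left v.left, mul_assoc v.left, mul_inv_cancel, mul_one, mul_inv_cancel]
    rw [this, map_one]
  · intro u hu
    rw [Subgroup.mem_bot]
    exact hpowP u hu
  · rw [eq_top_iff]
    intro g _
    rw [← SemidirectProduct.inl_left_mul_inr_right g]
    apply Subgroup.mul_mem_sup (hinlP _)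
    rw [Subgroup.mem_zpowers_iff]
    refine ⟨((Multiplicative.toAdd g.right).val : ℤ), ?_⟩
    rw [zpow_natCast, hypow, ZMod.natCast_zmod_val]
    rfl
  · intro k hk
    rw [hPmem, hypow] at hk
    exact (ZMod.natCast_eq_zero_iff k (q ^ r)).mp hk
  · rw [hPmem, hypow]
    show Multiplicative.ofAdd (((q ^ r : ℕ) : ZMod (q ^ r))) = 1
    rw [ZMod.natCast_self]
    rfl
  · intro u hu
    rw [Subgroup.mem_bot]
    have h1 := hconj q u.left
    rw [hlam, one_mul, ofAdd_toAdd, ← hPinl u hu] at h1
    rw [h1, mul_inv_cancel]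
  · refine ⟨SemidirectProduct.inl (Multiplicative.ofAdd (1 : L)), hinlP _, ?_⟩
    rw [Subgroup.mem_bot]
    have h1 := hconj 1 (Multiplicative.ofAdd (1 : L))
    rw [pow_one, pow_one] at h1
    rw [h1, ← map_inv, ← map_mul]
    intro h
    have h' := SemidirectProduct.inl_injective (h.trans (map_one _).symm)
    have h'' : lam * 1 + -1 = 0 := h'
    apply hlam1
    linear_combination h''
  · intro W _ hWP hWy
    let W' : AddSubgroup L :=
      { carrier := {x | (SemidirectProduct.inl (Multiplicative.ofAdd x) : K) ∈ W}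
        add_mem' := by
          intro x z hx hz
          have : (SemidirectProduct.inl (Multiplicative.ofAdd (x + z)) : K) =
              SemidirectProduct.inl (Multiplicative.ofAdd x) *
                SemidirectProduct.inl (Multiplicative.ofAdd z) := by
            rw [← map_mul]
            rfl
          show (SemidirectProduct.inl (Multiplicative.ofAdd (x + z)) : K) ∈ W
          rw [this]
          exact W.mul_mem hx hz
        zero_mem' := by
          show (SemidirectProduct.inl (Multiplicative.ofAdd (0 : L)) : K) ∈ W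
          have : (SemidirectProduct.inl (Multiplicative.ofAdd (0 : L)) : K) = 1 := map_one _
          rw [this]
          exact W.one_mem
        neg_mem' := by
          intro x hx
          have : (SemidirectProduct.inl (Multiplicative.ofAdd (-x)) : K) =
              (SemidirectProduct.inl (Multiplicative.ofAdd x))⁻¹ := by
            rw [← map_inv]
            rfl
          show (SemidirectProduct.inl (Multiplicative.ofAdd (-x)) : K) ∈ W
          rw [this]
          exact W.inv_mem hx }
    have hW' : ∀ w ∈ W', lam * w ∈ W' := by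
      intro w hw
      show (SemidirectProduct.inl (Multiplicative.ofAdd (lam * w)) : K) ∈ W
      have h1 := hconj 1 (Multiplicative.ofAdd w)
      rw [pow_one, pow_one] at h1
      have h2 : (SemidirectProduct.inl (Multiplicative.ofAdd (lam * w)) : K) =
          y * SemidirectProduct.inl (Multiplicative.ofAdd w) * y⁻¹ := h1.symm
      rw [h2]
      exact hWy _ hw
    rcases h48_gf_irr_field p q hcard lam hlam hlam1 W' hW' with h | h
    · left
      rw [eq_bot_iff]
      intro w hw
      rw [Subgroup.mem_bot]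
      have e := hPinl w (hWP hw)
      have h1 : Multiplicative.toAdd w.left ∈ W' := by
        show (SemidirectProduct.inl (Multiplicative.ofAdd (Multiplicative.toAdd w.left)) : K) ∈ W
        rw [ofAdd_toAdd, ← e]
        exact hw
      rw [h, AddSubgroup.mem_bot] at h1
      have h2 : w.left = 1 := h1
      rw [e, h2, map_one]
    · right
      apply le_antisymm hWP
      intro u hu
      have h1 : Multiplicative.toAdd u.left ∈ W' := by
        rw [h]
        trivial
      have h2 : (SemidirectProduct.inl (Multiplicative.ofAdd (Multiplicative.toAdd u.left)) : K)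
          ∈ W := h1
      rw [ofAdd_toAdd, ← hPinl u hu] at h2
      exact h2

/-- the projection of the extended semidirect product onto the base one -/
def h48ExtProj {V M : Type u} [AddCommGroup V] [AddCommGroup M] (B : V →+ V →+ M) {C : Type*}
    [Group C] (φ : C →* MulAut (Multiplicative V))
    (hB : ∀ (c : C) (v v' : V), B (Multiplicative.toAdd (φ c (Multiplicative.ofAdd v)))
      (Multiplicative.toAdd (φ c (Multiplicative.ofAdd v'))) = B v v') :
    (h48Ext V M B ⋊[h48ExtAct B φ hB] C) →* (Multiplicative V ⋊[φ] C) :=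
  SemidirectProduct.map (h48ExtFst B) (MonoidHom.id C) (fun _ => rfl)

section h48ExtSec

variable {V M : Type u} [AddCommGroup V] [AddCommGroup M] (B : V →+ V →+ M) {C : Type*}
  [Group C] (φ : C →* MulAut (Multiplicative V))
  (hB : ∀ (c : C) (v v' : V), B (Multiplicative.toAdd (φ c (Multiplicative.ofAdd v)))
    (Multiplicative.toAdd (φ c (Multiplicative.ofAdd v'))) = B v v')

theorem h48ExtProj_surjective : Function.Surjective (h48ExtProj B φ hB) := by
  intro x
  refine ⟨⟨⟨Multiplicative.toAdd x.left, 0⟩, x.right⟩, ?_⟩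
  apply SemidirectProduct.ext
  · rfl
  · rfl

theorem h48ExtProj_mem_ker (g : h48Ext V M B ⋊[h48ExtAct B φ hB] C) :
    g ∈ (h48ExtProj B φ hB).ker ↔ g.left.v = 0 ∧ g.right = 1 := by
  rw [MonoidHom.mem_ker]
  constructor
  · intro h
    exact ⟨congrArg SemidirectProduct.left h, congrArg SemidirectProduct.right h⟩
  · intro h
    apply SemidirectProduct.ext
    · exact h.1
    · exact h.2

theorem h48ExtProj_ker_le_center :
    (h48ExtProj B φ hB).ker ≤ Subgroup.center (h48Ext V M B ⋊[h48ExtAct B φ hB] C) := by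
  intro g hg
  obtain ⟨hv, hr⟩ := (h48ExtProj_mem_ker B φ hB g).mp hg
  rw [Subgroup.mem_center_iff]
  intro h
  have hψv : (h48ExtAct B φ hB h.right g.left).v = 0 := by
    rw [h48ExtAct_apply_v, hv, ofAdd_zero, map_one, toAdd_one]
  apply SemidirectProduct.ext
  · rw [SemidirectProduct.mul_left, SemidirectProduct.mul_left, hr, map_one, MulAut.one_apply]
    apply h48Ext_ext
    · rw [h48Ext_mul_v, h48Ext_mul_v, hψv, hv, add_zero, zero_add]
    · rw [h48Ext_mul_m, h48Ext_mul_m, hψv, hv, h48ExtAct_apply_m, map_zero, map_zero,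
        AddMonoidHom.zero_apply]
      abel
  · rw [SemidirectProduct.mul_right, SemidirectProduct.mul_right, hr, mul_one, one_mul]

theorem h48ExtProj_ker_pow (p : ℕ) (hM : ∀ m : M, p • m = 0)
    (g : h48Ext V M B ⋊[h48ExtAct B φ hB] C) (hg : g ∈ (h48ExtProj B φ hB).ker) : g ^ p = 1 := by
  obtain ⟨hv, hr⟩ := (h48ExtProj_mem_ker B φ hB g).mp hg
  have e : g = SemidirectProduct.inl (h48ExtCen B (Multiplicative.ofAdd g.left.m)) := by
    apply SemidirectProduct.ext
    · apply h48Ext_ext
      · exact hv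
      · rfl
    · exact hr
  rw [e, ← map_pow, ← map_pow, ← ofAdd_nsmul, hM, ofAdd_zero, map_one, map_one]

theorem h48ExtProj_nonGen (hfill : ∀ m : M, ∃ v v' : V, B v v' - B v' v = m) :
    NonGen (h48ExtProj B φ hB).ker := by
  intro S hS
  have hle : (h48ExtProj B φ hB).ker ≤ S := by
    intro n hn
    obtain ⟨hv, hr⟩ := (h48ExtProj_mem_ker B φ hB n).mp hn
    obtain ⟨v, v', hvv⟩ := hfill n.left.m
    have hn_eq : n = (SemidirectProduct.inl (⟨v, 0⟩ : h48Ext V M B) :
          h48Ext V M B ⋊[h48ExtAct B φ hB] C) *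
        SemidirectProduct.inl (⟨v', 0⟩ : h48Ext V M B) *
        (SemidirectProduct.inl (⟨v, 0⟩ : h48Ext V M B))⁻¹ *
        (SemidirectProduct.inl (⟨v', 0⟩ : h48Ext V M B))⁻¹ := by
      rw [← map_inv, ← map_inv, ← map_mul, ← map_mul, ← map_mul, h48Ext_comm]
      apply SemidirectProduct.ext
      · apply h48Ext_ext
        · exact hv
        · exact hvv.symm
      · exact hr
    have hu : ∀ g : h48Ext V M B ⋊[h48ExtAct B φ hB] C,
        ∃ s ∈ S, ∃ c ∈ (h48ExtProj B φ hB).ker, s * c = g := by
      intro g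
      have h1 : g ∈ ((S ⊔ (h48ExtProj B φ hB).ker : Subgroup _) : Set _) := by
        rw [hS]
        trivial
      rw [Subgroup.mul_normal] at h1
      obtain ⟨s, hs, c, hc, e⟩ := Set.mem_mul.mp h1
      exact ⟨s, hs, c, hc, e⟩
    obtain ⟨s₁, hs₁, n₁, hn₁, e₁⟩ := hu (SemidirectProduct.inl (⟨v, 0⟩ : h48Ext V M B))
    obtain ⟨s₂, hs₂, n₂, hn₂, e₂⟩ := hu (SemidirectProduct.inl (⟨v', 0⟩ : h48Ext V M B))
    rw [hn_eq, ← e₁, ← e₂, h48_comm_central _ _ _ _
      (h48ExtProj_ker_le_center B φ hB hn₁) (h48ExtProj_ker_le_center B φ hB hn₂)]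
    exact S.mul_mem (S.mul_mem (S.mul_mem hs₁ hs₂) (S.inv_mem hs₁)) (S.inv_mem hs₂)
  rwa [sup_eq_left.mpr hle] at hS

/-- the underlying set of the extension -/
def h48ExtEquiv : h48Ext V M B ≃ V × M where
  toFun a := (a.v, a.m)
  invFun x := ⟨x.1, x.2⟩
  left_inv a := by
    cases a
    rfl
  right_inv _ := rfl

theorem h48Ext_card : Nat.card (h48Ext V M B ⋊[h48ExtAct B φ hB] C) =
    Nat.card V * Nat.card M * Nat.card C := by
  rw [SemidirectProduct.card, Nat.card_congr (h48ExtEquiv B), Nat.card_prod]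

theorem h48Ext_finite [Finite V] [Finite M] [Finite C] :
    Finite (h48Ext V M B ⋊[h48ExtAct B φ hB] C) := by
  have : Finite (h48Ext V M B) := Finite.of_equiv _ (h48ExtEquiv B).symm
  exact Finite.of_equiv _ SemidirectProduct.equivProd.symm

end h48ExtSec


/-- EXB over an abstract field with `p ^ (2 b)` elements. -/
theorem h48_ex_cov_b_aux (p q r : ℕ) [Fact p.Prime] [Fact q.Prime] (hr : 1 ≤ r) (b : ℕ)
    (hb : 1 ≤ b) (ha : orderOf (p : ZMod q) = 2 * b)
    (L : Type u) [Field L] [Finite L] [CharP L p] (hcard : Nat.card L = p ^ (2 * b)) :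
    ∃ (G : Type u) (_ : Group G) (_ : Finite G) (N P : Subgroup G) (y : G),
      Cov p q r N P y ∧ NonGen N ∧ Nat.card G = p ^ (3 * b) * q ^ r := by
  classical
  have hp := (Fact.out : p.Prime)
  have hq := (Fact.out : q.Prime)
  have hchar : ∀ x : L, p • x = 0 := fun x => by
    rw [nsmul_eq_mul, CharP.cast_eq_zero, zero_mul]
  have hcardA : Nat.card L = p ^ orderOf (p : ZMod q) := by
    rw [ha]
    exact hcard
  -- an element of order q
  have hqdvd : q ∣ Nat.card Lˣ := by
    rw [Nat.card_units, hcardA]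
    have h1 : ((p ^ orderOf (p : ZMod q) : ℕ) : ZMod q) = ((1 : ℕ) : ZMod q) := by
      rw [Nat.cast_pow, Nat.cast_one, pow_orderOf_eq_one]
    have h2 := (ZMod.natCast_eq_natCast_iff _ _ _).mp h1
    exact (Nat.modEq_iff_dvd' (Nat.one_le_pow _ _ hp.pos)).mp h2.symm
  have := Fintype.ofFinite Lˣ
  obtain ⟨lamu, hlamu⟩ := exists_prime_orderOf_dvd_card (G := Lˣ) q
    (by rwa [← Nat.card_eq_fintype_card])
  have hlam : (lamu : L) ^ q = 1 := by
    rw [← Units.val_pow_eq_pow_val, ← hlamu, pow_orderOf_eq_one, Units.val_one]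
  have hlam1 : (lamu : L) ≠ 1 := by
    intro h
    have h1 : lamu = 1 := Units.ext h
    rw [h1, orderOf_one] at hlamu
    exact hq.one_lt.ne hlamu
  generalize (lamu : L) = lam at hlam hlam1
  have hne : NeZero (q ^ r) := ⟨pow_ne_zero _ hq.ne_zero⟩
  have hlamn : lam ^ (q ^ r) = 1 := by
    obtain ⟨r', rfl⟩ : ∃ r', r = r' + 1 := ⟨r - 1, by omega⟩
    rw [pow_succ', pow_mul, hlam, one_pow]
  -- the involution
  obtain ⟨hσσ, hMcard, hsurj⟩ := h48_gf_sigma (L := L) p b hb hcard
  have hnorm := h48_gf_lam_norm p q b hb ha lam hlam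
  have hadd : ∀ x y : L, (x + y) ^ p ^ b = x ^ p ^ b + y ^ p ^ b :=
    fun x y => add_pow_char_pow x y p b
  have hsub : ∀ x y : L, (x - y) ^ p ^ b = x ^ p ^ b - y ^ p ^ b :=
    fun x y => sub_pow_char_pow x y b
  have hs0 : p ^ b ≠ 0 := pow_ne_zero _ hp.ne_zero
  let Mσ : AddSubgroup L :=
    { carrier := {m | m ^ p ^ b = m}
      add_mem' := by
        intro x y hx hy
        have hx' : x ^ p ^ b = x := hx
        have hy' : y ^ p ^ b = y := hy
        show (x + y) ^ p ^ b = x + y
        rw [hadd, hx', hy']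
      zero_mem' := zero_pow hs0
      neg_mem' := by
        intro x hx
        have hx' : x ^ p ^ b = x := hx
        show (-x) ^ p ^ b = -x
        have h0 := hsub 0 x
        rw [zero_sub, zero_pow hs0, zero_sub, hx'] at h0
        exact h0 }
  have hMmem : ∀ m : L, m ∈ Mσ ↔ m ^ p ^ b = m := fun m => Iff.rfl
  obtain ⟨μ, hμ⟩ : ∃ μ : L, μ ^ p ^ b ≠ μ := by
    by_contra hall
    push Not at hall
    have h1 : Nat.card {m : L // m ^ p ^ b = m} = Nat.card L :=
      Nat.card_congr (Equiv.subtypeUnivEquiv hall)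
    rw [hMcard, hcard] at h1
    have h2 := Nat.pow_right_injective hp.two_le h1
    omega
  -- the cocycle
  have hBmem : ∀ v v' : L, μ * v * v' ^ p ^ b + μ ^ p ^ b * v ^ p ^ b * v' ∈ Mσ := by
    intro v v'
    rw [hMmem]
    simp only [hadd, mul_pow, hσσ]
    ring
  obtain ⟨B, hBval⟩ : ∃ B : L →+ L →+ ↥Mσ, ∀ v v' : L,
      ((B v v' : ↥Mσ) : L) = μ * v * v' ^ p ^ b + μ ^ p ^ b * v ^ p ^ b * v' := by
    refine ⟨AddMonoidHom.mk' (fun v => AddMonoidHom.mk'
      (fun v' => (⟨_, hBmem v v'⟩ : ↥Mσ)) ?_) ?_, fun v v' => rfl⟩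
    · intro x y
      apply Subtype.ext
      show μ * v * (x + y) ^ p ^ b + μ ^ p ^ b * v ^ p ^ b * (x + y) =
        (μ * v * x ^ p ^ b + μ ^ p ^ b * v ^ p ^ b * x) +
          (μ * v * y ^ p ^ b + μ ^ p ^ b * v ^ p ^ b * y)
      rw [hadd]
      ring
    · intro x y
      apply AddMonoidHom.ext
      intro v'
      apply Subtype.ext
      show μ * (x + y) * v' ^ p ^ b + μ ^ p ^ b * (x + y) ^ p ^ b * v' =
        (μ * x * v' ^ p ^ b + μ ^ p ^ b * x ^ p ^ b * v') +
          (μ * y * v' ^ p ^ b + μ ^ p ^ b * y ^ p ^ b * v')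
      rw [hadd]
      ring
  have hBinv : ∀ (c : Multiplicative (ZMod (q ^ r))) (v v' : L),
      B (Multiplicative.toAdd (h48GfAct (q ^ r) lam hlamn c (Multiplicative.ofAdd v)))
        (Multiplicative.toAdd (h48GfAct (q ^ r) lam hlamn c (Multiplicative.ofAdd v'))) =
          B v v' := by
    intro c v v'
    apply Subtype.ext
    rw [hBval, hBval, h48GfAct_apply, h48GfAct_apply]
    simp only [toAdd_ofAdd]
    have hk : lam ^ (Multiplicative.toAdd c).val *
        (lam ^ (Multiplicative.toAdd c).val) ^ p ^ b = 1 := by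
      rw [pow_right_comm, ← mul_pow, hnorm, one_pow]
    generalize lam ^ (Multiplicative.toAdd c).val = t at hk ⊢
    rw [mul_pow, mul_pow]
    linear_combination (μ * v * v' ^ p ^ b + μ ^ p ^ b * v ^ p ^ b * v') * hk
  have hfin : Finite (h48Ext L ↥Mσ B ⋊[h48ExtAct B (h48GfAct (q ^ r) lam hlamn) hBinv]
      Multiplicative (ZMod (q ^ r))) := h48Ext_finite B _ hBinv
  refine ⟨h48Ext L ↥Mσ B ⋊[h48ExtAct B (h48GfAct (q ^ r) lam hlamn) hBinv]
      Multiplicative (ZMod (q ^ r)), inferInstance, hfin,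
    (h48ExtProj B (h48GfAct (q ^ r) lam hlamn) hBinv).ker,
    ((SemidirectProduct.rightHom).ker).comap (h48ExtProj B (h48GfAct (q ^ r) lam hlamn) hBinv),
    SemidirectProduct.inr (Multiplicative.ofAdd (1 : ZMod (q ^ r))), ?_, ?_, ?_⟩
  · refine h48_cov_pullback p q r _ (h48ExtProj_surjective B _ hBinv)
      (h48ExtProj_ker_le_center B _ hBinv) (h48ExtProj_ker_pow B _ hBinv p ?_) _ _ _ ?_
      (h48_cov_semi p q r L hchar hcardA lam hlam hlam1 hlamn)
    · intro m
      apply Subtype.ext
      show p • (m : L) = 0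
      exact hchar _
    · apply SemidirectProduct.ext
      · rfl
      · rfl
  · apply h48ExtProj_nonGen
    intro m
    have hδ : μ - μ ^ p ^ b ≠ 0 := sub_ne_zero.mpr (Ne.symm hμ)
    have hm : (m : L) ^ p ^ b = m := m.2
    have hz : ((m : L) / (μ - μ ^ p ^ b)) ^ p ^ b = -((m : L) / (μ - μ ^ p ^ b)) := by
      rw [div_pow, hm, hsub, hσσ, ← neg_sub μ (μ ^ p ^ b), div_neg]
    obtain ⟨v, hv⟩ := hsurj _ hz
    refine ⟨v, 1, ?_⟩
    apply Subtype.ext
    rw [AddSubgroup.coe_sub, hBval, hBval, one_pow]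
    have h1 : (μ - μ ^ p ^ b) * (v - v ^ p ^ b) = m := by
      rw [hv]
      field_simp
    linear_combination h1
  · rw [h48Ext_card, hcard]
    have h1 : Nat.card ↥Mσ = p ^ b := hMcard
    rw [h1]
    show p ^ (2 * b) * p ^ b * Nat.card (ZMod (q ^ r)) = _
    rw [Nat.card_zmod, ← pow_add]
    congr 2
    omega

/-- EXB : Heisenberg-type `p`-group of order `p^(3a/2)` extended by `C_{q^r}` -/
theorem ex_cov_b (p q r : ℕ) [Fact p.Prime] [Fact q.Prime] (hpq : p ≠ q) (hr : 1 ≤ r)
    (hev : orderOf (p : ZMod q) % 2 = 0) :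
    ∃ (G : Type u) (_ : Group G) (_ : Finite G) (N P : Subgroup G) (y : G),
      Cov p q r N P y ∧ NonGen N ∧ Nat.card G = p ^ (3 * orderOf (p : ZMod q) / 2) * q ^ r := by
  have hp := (Fact.out : p.Prime)
  have hq := (Fact.out : q.Prime)
  have hpne : (p : ZMod q) ≠ 0 := by
    rw [Ne, ZMod.natCast_eq_zero_iff, Nat.prime_dvd_prime_iff_eq hq hp]
    exact fun h => hpq h.symm
  have ha0 : orderOf (p : ZMod q) ≠ 0 := by
    have h1 : IsOfFinOrder (p : ZMod q) :=
      isOfFinOrder_iff_pow_eq_one.mpr ⟨q - 1, Nat.sub_pos_of_lt hq.one_lt,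
        ZMod.pow_card_sub_one_eq_one hpne⟩
    exact (orderOf_pos_iff.mpr h1).ne'
  obtain ⟨b, hb⟩ : ∃ b, orderOf (p : ZMod q) = 2 * b := ⟨orderOf (p : ZMod q) / 2, by omega⟩
  have hb1 : 1 ≤ b := by omega
  obtain ⟨G, i1, i2, N, P, y, h1, h2, h3⟩ := h48_ex_cov_b_aux.{u} p q r hr b hb1 hb
    (ULift.{u} (GaloisField p (2 * b)))
    (by rw [Nat.card_ulift, GaloisField.card p _ (by omega)])
  refine ⟨G, i1, i2, N, P, y, h1, h2, ?_⟩
  rw [h3, hb]
  congr 2
  omega

end Cfsg.Agent.Lib.helper3.Gf
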