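import Mathlib
import Cfsg.Prelude.Def_LieTypeDatum
import Cfsg.Agent.Lib.helper48.GraphSplit
import Cfsg.Agent.Lib.helper50.PSUTransfer
import Cfsg.Agent.Lib.helper50.PSUF3

/-!
# Class splitting of involutory graph automorphisms of `PSU_n(q)`

The determinant subgroup `detCentU` of the centraliser of a graph automorphism `graphU σ A` of `PSU_n(q)`
and its index (`index_U_one`, `index_U_sym`, `index_U_alt`), via a lifting lemma (`lift_sim`) from
similitudes of the descended form over the fixed field `F₀` to unitary similitudes.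
-/

set_option autoImplicit false

namespace Cfsg.Agent.Lib.helper48.GraphSplitU

open Matrix Cfsg
open Cfsg.Agent.Lib.helper50 Cfsg.Agent.Lib.helper50.PSUF Cfsg.Agent.Lib.helper17

universe u v

section basic
variable {n q : ℕ} {F : Type u} [Field F] [Fintype F] (hF : Fintype.card F = q ^ 2)
include hF

/-- the determinants of the unitary matrices commuting with a graph automorphism -/
theorem mem_detCentU_graph (hn : 3 ≤ n) (σ : F ≃+* F) (hσ : ∀ a, σ a = a ^ q) (A : ↥(GU n F q))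
    (d : rootsUnity F q) :
    d ∈ detCentU hF (graphU σ A) ↔
      ∃ w : ↥(GU n F q), (∃ c : Fˣ, ((w : GL (Fin n) F) : Matrix (Fin n) (Fin n) F)
          * ((A : GL (Fin n) F) : Matrix (Fin n) (Fin n) F)
          * ((w : GL (Fin n) F) : Matrix (Fin n) (Fin n) F)ᵀ
        = (c : F) • ((A : GL (Fin n) F) : Matrix (Fin n) (Fin n) F)) ∧ detGU hF n w = d := by
  rw [mem_detCentU]
  constructor
  · rintro ⟨w, hw, hd⟩
    exact ⟨w, (phi_mem_centralizer_graphU_iff hF hn σ hσ A w).mp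
      (Subgroup.mem_centralizer_singleton_iff.mpr hw), hd⟩
  · rintro ⟨w, hw, hd⟩
    exact ⟨w, (Subgroup.mem_centralizer_singleton_iff.mp
      ((phi_mem_centralizer_graphU_iff hF hn σ hσ A w).mpr hw)), hd⟩

omit hF [Fintype F] in
/-- the multiplier of a unitary similitude of a unitary matrix is a unitary scalar -/
theorem mult_unitary (hn : 0 < n) (σ : F ≃+* F) (hσ : ∀ a, σ a = a ^ q) (A w : ↥(GU n F q)) (c : Fˣ)
    (hc : ((w : GL (Fin n) F) : Matrix (Fin n) (Fin n) F)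
          * ((A : GL (Fin n) F) : Matrix (Fin n) (Fin n) F)
          * ((w : GL (Fin n) F) : Matrix (Fin n) (Fin n) F)ᵀ
        = (c : F) • ((A : GL (Fin n) F) : Matrix (Fin n) (Fin n) F)) :
    c ∈ rootsUnity F q := by
  obtain ⟨W, hW⟩ : ∃ W : Matrix (Fin n) (Fin n) F, W = ((w : GL (Fin n) F) : Matrix (Fin n) (Fin n) F) :=
    ⟨_, rfl⟩
  obtain ⟨Am, hAm⟩ : ∃ Am : Matrix (Fin n) (Fin n) F,
      Am = ((A : GL (Fin n) F) : Matrix (Fin n) (Fin n) F) := ⟨_, rfl⟩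
  have hW1 : Wᵀ * W.map σ = 1 := by rw [hW]; exact GU_transpose_mul_map σ hσ w
  have hW2 : W.map σ * Wᵀ = 1 := by rw [hW]; exact GU_map_mul_transpose σ hσ w
  have hA1 : Amᵀ * Am.map σ = 1 := by rw [hAm]; exact GU_transpose_mul_map σ hσ A
  rw [← hW, ← hAm] at hc
  have hW3 : W * (W.map σ)ᵀ = 1 := by
    have := congrArg Matrix.transpose hW2
    rwa [Matrix.transpose_mul, Matrix.transpose_transpose, Matrix.transpose_one] at this
  have h1 : (W * Am * Wᵀ)ᵀ * (W * Am * Wᵀ).map σ = 1 := by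
    rw [Matrix.transpose_mul, Matrix.transpose_mul, Matrix.transpose_transpose, Matrix.map_mul,
      Matrix.map_mul]
    calc W * (Amᵀ * Wᵀ) * (W.map σ * Am.map σ * Wᵀ.map σ)
        = W * (Amᵀ * ((Wᵀ * W.map σ) * Am.map σ)) * Wᵀ.map σ := by simp only [Matrix.mul_assoc]
      _ = 1 := by
          rw [hW1, Matrix.one_mul, hA1, Matrix.mul_one, Matrix.transpose_map]
          exact hW3
  rw [hc] at h1
  have h2 : ((c : F) • Am)ᵀ * ((c : F) • Am).map σ = ((c : F) * σ (c : F)) • (1 : Matrix (Fin n) (Fin n) F) := by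
    rw [Matrix.transpose_smul, bar_smul, Matrix.smul_mul, Matrix.mul_smul, smul_smul, hA1, mul_comm]
  rw [h2] at h1
  have h3 := congrFun (congrFun h1 ⟨0, hn⟩) ⟨0, hn⟩
  rw [Matrix.smul_apply, Matrix.one_apply_eq, smul_eq_mul, mul_one, hσ] at h3
  rw [mem_rootsUnity_iff]
  apply Units.ext
  rw [Units.val_pow_eq_pow_val, Units.val_one, pow_succ, mul_comm]
  exact h3

/-- the determinant relation in the group of unitary scalars -/
theorem detGU_sq (hn : 0 < n) (σ : F ≃+* F) (hσ : ∀ a, σ a = a ^ q) (A w : ↥(GU n F q)) (c : Fˣ)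
    (hc : ((w : GL (Fin n) F) : Matrix (Fin n) (Fin n) F)
          * ((A : GL (Fin n) F) : Matrix (Fin n) (Fin n) F)
          * ((w : GL (Fin n) F) : Matrix (Fin n) (Fin n) F)ᵀ
        = (c : F) • ((A : GL (Fin n) F) : Matrix (Fin n) (Fin n) F)) :
    (detGU hF n w) ^ 2 = (⟨c, mult_unitary hn σ hσ A w c hc⟩ : rootsUnity F q) ^ n := by
  apply Subtype.ext
  exact Cfsg.Agent.Lib.helper48.GraphSplit.det_sq_of_sim (A : GL (Fin n) F) (w : GL (Fin n) F) c hc

omit hF [Fintype F] in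
theorem scalarGU_sim (μ : rootsUnity F q) (A : Matrix (Fin n) (Fin n) F) :
    (((scalarGU n q μ : ↥(GU n F q)) : GL (Fin n) F) : Matrix (Fin n) (Fin n) F) * A
      * (((scalarGU n q μ : ↥(GU n F q)) : GL (Fin n) F) : Matrix (Fin n) (Fin n) F)ᵀ
      = (((μ : Fˣ) * (μ : Fˣ) : Fˣ) : F) • A := by
  have h : (((scalarGU n q μ : ↥(GU n F q)) : GL (Fin n) F) : Matrix (Fin n) (Fin n) F)
      = Matrix.diagonal (fun _ => ((μ : Fˣ) : F)) := rfl
  rw [h, Matrix.diagonal_transpose, ← Matrix.smul_one_eq_diagonal, Matrix.smul_mul, Matrix.one_mul,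
    Matrix.mul_smul, Matrix.mul_one, smul_smul, Units.val_mul]

/-- `n` odd or characteristic 2: the determinants are exactly the `n`-th powers -/
theorem index_U_one (hn : 3 ≤ n) (σ : F ≃+* F) (hσ : ∀ a, σ a = a ^ q) (h : Odd n ∨ CharP F 2)
    (A : ↥(GU n F q)) :
    (detCentU hF (graphU σ A)).index = Nat.gcd n (q + 1) := by
  apply Cfsg.Agent.Lib.helper48.Split.index_pow_mul_cyclic n (q + 1) (⊥ : Subgroup (rootsUnity F q))
  · rw [Subgroup.card_bot, one_mul, card_rootsUnity hF]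
  · intro d
    rw [mem_detCentU_graph hF hn σ hσ]
    constructor
    · rintro ⟨w, ⟨c, hc⟩, rfl⟩
      have h1 := detGU_sq hF (by omega) σ hσ A w c hc
      obtain ⟨c', hc'⟩ : ∃ c' : rootsUnity F q,
          c' = (⟨c, mult_unitary (by omega) σ hσ A w c hc⟩ : rootsUnity F q) := ⟨_, rfl⟩
      rw [← hc'] at h1
      obtain ⟨D, hD⟩ : ∃ D : rootsUnity F q, D = detGU hF n w := ⟨_, rfl⟩
      rw [← hD] at h1 ⊢
      rcases Nat.even_or_odd n with heven | hodd
      · have hch : CharP F 2 := by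
          rcases h with h | h
          · exact absurd heven (Nat.not_even_iff_odd.mpr h)
          · exact h
        obtain ⟨k, hk⟩ := heven
        have hqe : Even q := by
          have h4 := FiniteField.even_card_of_char_two (ringChar.eq F 2)
          rw [hF] at h4
          have h5 : Even (q ^ 2) := Nat.even_iff.mpr h4
          exact (Nat.even_pow.mp h5).1
        obtain ⟨j, hj⟩ := hqe
        refine ⟨c' ^ (j + 1), 1, Subgroup.mem_bot.mpr rfl, ?_⟩
        rw [mul_one]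
        have hν : (c' ^ (j + 1)) ^ 2 = c' := by
          rw [← pow_mul]
          have h6 : (j + 1) * 2 = (q + 1) + 1 := by omega
          rw [h6, pow_succ, rootsUnity_pow' q c', one_mul]
        apply Subtype.ext
        apply Cfsg.Agent.Lib.helper48.GraphSplit.unit_eq_of_sq_eq_char_two
        have h7 : D ^ 2 = ((c' ^ (j + 1)) ^ n) ^ 2 := by
          rw [h1, ← pow_mul, mul_comm, pow_mul, hν]
        exact congrArg Subtype.val h7
      · obtain ⟨k, hk⟩ := hodd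
        refine ⟨D * (c' ^ k)⁻¹, 1, Subgroup.mem_bot.mpr rfl, ?_⟩
        rw [mul_one, hk, mul_pow, pow_succ D (2 * k), pow_mul, h1, hk, inv_pow, ← pow_mul, ← pow_mul,
          mul_comm k (2 * k + 1), mul_right_comm, mul_inv_cancel, one_mul]
    · rintro ⟨μ, u, hu, rfl⟩
      rw [Subgroup.mem_bot] at hu
      subst hu
      exact ⟨scalarGU n q μ, ⟨(μ : Fˣ) * (μ : Fˣ), scalarGU_sim μ _⟩,
        by rw [detGU_scalarGU hF n μ, mul_one]⟩

end basic

section lift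
variable {n q : ℕ} {F : Type u} [Field F] [Fintype F] {F₀ : Type v} [Field F₀]

omit [Fintype F] in
/-- **Lifting lemma**: a similitude over `F₀` of the descended form, twisted by a scalar `lam`,
gives a unitary matrix commuting with the graph automorphism. -/
theorem lift_sim (σ : F ≃+* F) (hσ : ∀ a, σ a = a ^ q)
    (ι : F₀ →+* F) (hι1 : ∀ y, σ (ι y) = ι y) (δ : F) (_hδ : δ ≠ 0) (A : ↥(GU n F q))
    (A₀ : GL (Fin n) F₀) (h : Corr σ ι δ A A₀) (lam : Fˣ) (g₀ : GL (Fin n) F₀) (μ₀ : F₀)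
    (hμ : ι μ₀ * ((lam : F) * σ (lam : F)) = 1)
    (hg₀ : (g₀ : Matrix (Fin n) (Fin n) F₀) * (A₀ : Matrix (Fin n) (Fin n) F₀)
      * (g₀ : Matrix (Fin n) (Fin n) F₀)ᵀ = μ₀ • (A₀ : Matrix (Fin n) (Fin n) F₀)) :
    ∃ w : ↥(GU n F q), ((w : GL (Fin n) F) : Matrix (Fin n) (Fin n) F)
          * ((A : GL (Fin n) F) : Matrix (Fin n) (Fin n) F)
          * ((w : GL (Fin n) F) : Matrix (Fin n) (Fin n) F)ᵀ
        = ((lam : F) / σ (lam : F)) • ((A : GL (Fin n) F) : Matrix (Fin n) (Fin n) F) ∧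
      ((w : GL (Fin n) F) : Matrix (Fin n) (Fin n) F).det
        = (lam : F) ^ n * ι ((g₀ : Matrix (Fin n) (Fin n) F₀).det) := by
  obtain ⟨e, P, he, hP, hG⟩ := h
  obtain ⟨Am, hAm⟩ : ∃ Am : Matrix (Fin n) (Fin n) F,
      Am = ((A : GL (Fin n) F) : Matrix (Fin n) (Fin n) F) := ⟨_, rfl⟩
  obtain ⟨Pm, hPm⟩ : ∃ Pm : Matrix (Fin n) (Fin n) F, Pm = (P : Matrix (Fin n) (Fin n) F) := ⟨_, rfl⟩
  obtain ⟨Pi, hPi⟩ : ∃ Pi : Matrix (Fin n) (Fin n) F,
      Pi = ((P⁻¹ : GL (Fin n) F) : Matrix (Fin n) (Fin n) F) := ⟨_, rfl⟩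
  obtain ⟨X, hX⟩ : ∃ X : Matrix (Fin n) (Fin n) F, X = (g₀ : Matrix (Fin n) (Fin n) F₀).map ι := ⟨_, rfl⟩
  obtain ⟨Xi, hXi⟩ : ∃ Xi : Matrix (Fin n) (Fin n) F,
      Xi = ((g₀⁻¹ : GL (Fin n) F₀) : Matrix (Fin n) (Fin n) F₀).map ι := ⟨_, rfl⟩
  obtain ⟨B₀, hB₀⟩ : ∃ B₀ : Matrix (Fin n) (Fin n) F, B₀ = (A₀ : Matrix (Fin n) (Fin n) F₀).map ι :=
    ⟨_, rfl⟩
  obtain ⟨N, hN⟩ : ∃ N : Matrix (Fin n) (Fin n) F,
      N = ((A₀⁻¹ : GL (Fin n) F₀) : Matrix (Fin n) (Fin n) F₀).map ι := ⟨_, rfl⟩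
  rw [← hAm, ← hPm] at hP
  rw [← hPm, ← hB₀] at hG
  have hPPi : Pm * Pi = 1 := by rw [hPm, hPi]; exact Units.mul_inv P
  have hPiP : Pi * Pm = 1 := by rw [hPm, hPi]; exact Units.inv_mul P
  have hPbPib : Pm.map σ * Pi.map σ = 1 := by rw [← bar_mul, hPPi, bar_one]
  have hXXi : X * Xi = 1 := by rw [hX, hXi]; exact emb_gl_mul_inv ι g₀
  have hXiX : Xi * X = 1 := by rw [hX, hXi]; exact emb_gl_inv_mul ι g₀
  have hXbar : X.map σ = X := by rw [hX]; exact emb_bar σ ι hι1 _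
  have hBN : B₀ * N = 1 := by rw [hB₀, hN]; exact emb_gl_mul_inv ι A₀
  have hNB : N * B₀ = 1 := by rw [hB₀, hN]; exact emb_gl_inv_mul ι A₀
  have hGN : Pmᵀ * Pm.map σ = δ • N := by
    calc Pmᵀ * Pm.map σ = Pmᵀ * Pm.map σ * (B₀ * N) := by rw [hBN, Matrix.mul_one]
      _ = δ • N := by rw [← Matrix.mul_assoc, hG, Matrix.smul_mul, Matrix.one_mul]
  have hXB : X * B₀ * Xᵀ = ι μ₀ • B₀ := by
    have this : ((g₀ : Matrix (Fin n) (Fin n) F₀) * (A₀ : Matrix (Fin n) (Fin n) F₀)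
      * (g₀ : Matrix (Fin n) (Fin n) F₀)ᵀ).map ι = (μ₀ • (A₀ : Matrix (Fin n) (Fin n) F₀)).map ι := by
      rw [hg₀]
    rw [emb_mul, emb_mul, emb_smul, Matrix.transpose_map] at this
    rw [hX, hB₀]
    exact this
  have hXiT : Xᵀ * Xiᵀ = 1 := by rw [← Matrix.transpose_mul, hXiX, Matrix.transpose_one]
  have hXB' : X * B₀ = ι μ₀ • (B₀ * Xiᵀ) := by
    calc X * B₀ = X * B₀ * (Xᵀ * Xiᵀ) := by rw [hXiT, Matrix.mul_one]
      _ = (X * B₀ * Xᵀ) * Xiᵀ := by simp only [Matrix.mul_assoc]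
      _ = ι μ₀ • (B₀ * Xiᵀ) := by rw [hXB, Matrix.smul_mul]
  have hXN : Xᵀ * N * X = ι μ₀ • N := by
    calc Xᵀ * N * X = Xᵀ * N * (X * B₀) * N := by
          rw [Matrix.mul_assoc (Xᵀ * N), Matrix.mul_assoc X, hBN, Matrix.mul_one]
      _ = ι μ₀ • (Xᵀ * (N * B₀) * Xiᵀ * N) := by
          rw [hXB']
          simp only [Matrix.mul_assoc, Matrix.mul_smul, Matrix.smul_mul]
      _ = ι μ₀ • N := by rw [hNB, Matrix.mul_one, hXiT, Matrix.one_mul]
  have hlam : (lam : F) ≠ 0 := lam.ne_zero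
  have hslam : σ (lam : F) ≠ 0 := (map_ne_zero σ).mpr hlam
  obtain ⟨g, hg⟩ : ∃ g : Matrix (Fin n) (Fin n) F, g = Pm * ((lam : F) • X) * Pi := ⟨_, rfl⟩
  obtain ⟨gi, hgi⟩ : ∃ gi : Matrix (Fin n) (Fin n) F, gi = Pm * ((lam : F)⁻¹ • Xi) * Pi := ⟨_, rfl⟩
  have hggi : g * gi = 1 := by
    rw [hg, hgi]
    calc Pm * ((lam : F) • X) * Pi * (Pm * ((lam : F)⁻¹ • Xi) * Pi)
        = ((lam : F)⁻¹ * (lam : F)) • (Pm * (X * ((Pi * Pm) * Xi)) * Pi) := by
          simp only [Matrix.mul_assoc, Matrix.mul_smul, Matrix.smul_mul, smul_smul]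
      _ = 1 := by
          rw [hPiP, Matrix.one_mul, hXXi, Matrix.mul_one, hPPi, inv_mul_cancel₀ hlam, one_smul]
  have hgig : gi * g = 1 := mul_eq_one_comm.mp hggi
  have hgbar : g.map σ = Pm.map σ * (σ (lam : F) • X) * Pi.map σ := by
    rw [hg, bar_mul, bar_mul, bar_smul, hXbar]
  have hgT : gᵀ = Piᵀ * ((lam : F) • Xᵀ) * Pmᵀ := by
    rw [hg, Matrix.transpose_mul, Matrix.transpose_mul, Matrix.transpose_smul]
    simp only [Matrix.mul_assoc]
  have hunit : gᵀ * g.map σ = 1 := by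
    rw [hgT, hgbar]
    calc Piᵀ * ((lam : F) • Xᵀ) * Pmᵀ * (Pm.map σ * (σ (lam : F) • X) * Pi.map σ)
        = ((lam : F) * σ (lam : F)) • (Piᵀ * (Xᵀ * ((Pmᵀ * Pm.map σ) * X)) * Pi.map σ) := by
          simp only [Matrix.mul_assoc, Matrix.mul_smul, Matrix.smul_mul, smul_smul]
          rw [mul_comm (σ (lam : F))]
      _ = ((lam : F) * σ (lam : F) * ι μ₀) • (Piᵀ * (δ • N) * Pi.map σ) := by
          rw [hGN, Matrix.smul_mul, Matrix.mul_smul, ← Matrix.mul_assoc, hXN]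
          simp only [Matrix.mul_smul, Matrix.smul_mul, smul_smul]
          congr 1
          ring
      _ = Piᵀ * (Pmᵀ * Pm.map σ) * Pi.map σ := by
          rw [hGN]
          have h1 : (lam : F) * σ (lam : F) * ι μ₀ = 1 := by rw [mul_comm]; exact hμ
          rw [h1, one_smul]
      _ = (Pm * Pi)ᵀ * (Pm.map σ * Pi.map σ) := by
          rw [Matrix.transpose_mul]
          simp only [Matrix.mul_assoc]
      _ = 1 := by rw [hPPi, hPbPib, Matrix.transpose_one, Matrix.one_mul]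
  have hunit' : g.map σ * gᵀ = 1 := mul_eq_one_comm.mp hunit
  obtain ⟨gG, hgG⟩ : ∃ gG : GL (Fin n) F, (gG : Matrix (Fin n) (Fin n) F) = g := ⟨⟨g, gi, hggi, hgig⟩, rfl⟩
  have hmem : gG ∈ GU n F q := mem_GU_of_transpose_mul_map σ hσ gG (by rw [hgG]; exact hunit)
  refine ⟨⟨gG, hmem⟩, ?_, ?_⟩
  · show (gG : Matrix (Fin n) (Fin n) F) * ((A : GL (Fin n) F) : Matrix (Fin n) (Fin n) F)
      * (gG : Matrix (Fin n) (Fin n) F)ᵀ = _
    rw [hgG, ← hAm]
    have hAe : Am = e • (Pm * Pi.map σ) := by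
      calc Am = Am * (Pm.map σ * Pi.map σ) := by rw [hPbPib, Matrix.mul_one]
        _ = e • (Pm * Pi.map σ) := by rw [← Matrix.mul_assoc, hP, Matrix.smul_mul]
    have hPibPb : Pi.map σ * Pm.map σ = 1 := mul_eq_one_comm.mp hPbPib
    have h1 : g * Am = (e * (lam : F)) • (Pm * X * Pi.map σ) := by
      rw [hAe, hg]
      calc Pm * ((lam : F) • X) * Pi * (e • (Pm * Pi.map σ))
          = (e * (lam : F)) • (Pm * (X * ((Pi * Pm) * Pi.map σ))) := by
            simp only [Matrix.mul_assoc, Matrix.mul_smul, Matrix.smul_mul, smul_smul]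
        _ = (e * (lam : F)) • (Pm * X * Pi.map σ) := by
            rw [hPiP, Matrix.one_mul, Matrix.mul_assoc]
    have h2 : Am * g.map σ = (e * σ (lam : F)) • (Pm * X * Pi.map σ) := by
      rw [hgbar]
      nth_rewrite 1 [hAe]
      calc e • (Pm * Pi.map σ) * (Pm.map σ * (σ (lam : F) • X) * Pi.map σ)
          = (e * σ (lam : F)) • (Pm * ((Pi.map σ * Pm.map σ) * (X * Pi.map σ))) := by
            simp only [Matrix.mul_assoc, Matrix.mul_smul, Matrix.smul_mul, smul_smul]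
            rw [mul_comm (σ (lam : F))]
        _ = (e * σ (lam : F)) • (Pm * X * Pi.map σ) := by
            rw [hPibPb, Matrix.one_mul, Matrix.mul_assoc]
    have h3 : g * Am = ((lam : F) / σ (lam : F)) • (Am * g.map σ) := by
      rw [h1, h2, smul_smul]
      congr 1
      field_simp
    calc g * Am * gᵀ = ((lam : F) / σ (lam : F)) • (Am * (g.map σ * gᵀ)) := by
          rw [h3, Matrix.smul_mul, Matrix.mul_assoc]
      _ = ((lam : F) / σ (lam : F)) • Am := by rw [hunit', Matrix.mul_one]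
  · show (gG : Matrix (Fin n) (Fin n) F).det = _
    rw [hgG, hg, Matrix.det_mul, Matrix.det_mul, Matrix.det_smul, Fintype.card_fin]
    have h1 : Pm.det * Pi.det = 1 := by rw [← Matrix.det_mul, hPPi, Matrix.det_one]
    have h2 : X.det = ι ((g₀ : Matrix (Fin n) (Fin n) F₀).det) := by
      rw [hX, RingHom.map_det]
      rfl
    rw [h2]
    linear_combination ((lam : F) ^ n * ι ((g₀ : Matrix (Fin n) (Fin n) F₀).det)) * h1

end lift

section altgen
variable {F : Type u} [Field F]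

/-- a similitude of an alternating matrix with multiplier `c` has determinant `c ^ m` -/
theorem det_of_sim_alt {n m : ℕ} (A : GL (Fin n) F)
    (halt : ∀ v : Fin n → F, v ⬝ᵥ (A : Matrix (Fin n) (Fin n) F) *ᵥ v = 0)
    (e : Fin n ≃ Fin m ⊕ Fin m) (W : Matrix (Fin n) (Fin n) F) (c : F) (hc0 : c ≠ 0)
    (hc : W * (A : Matrix (Fin n) (Fin n) F) * Wᵀ = c • (A : Matrix (Fin n) (Fin n) F)) :
    W.det = c ^ m := by
  obtain ⟨g, hg⟩ := Cfsg.Agent.Lib.helper50.exists_cong_alt A halt e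
  obtain ⟨G, hG⟩ : ∃ G : Matrix (Fin n) (Fin n) F, G = (g : Matrix (Fin n) (Fin n) F) := ⟨_, rfl⟩
  obtain ⟨Gi, hGi⟩ : ∃ Gi : Matrix (Fin n) (Fin n) F,
      Gi = ((g⁻¹ : GL (Fin n) F) : Matrix (Fin n) (Fin n) F) := ⟨_, rfl⟩
  have h1 : Gi * G = 1 := by rw [hG, hGi, Units.inv_mul]
  have h2 : G * Gi = 1 := by rw [hG, hGi, Units.mul_inv]
  have h1' : Gᵀ * Giᵀ = 1 := by rw [← Matrix.transpose_mul, h1, Matrix.transpose_one]
  rw [← hG] at hg
  have hY : (G * W * Gi) * ((Cfsg.Agent.Lib.helper50.stdAlt m F).submatrix e e) * (G * W * Gi)ᵀ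
      = c • ((Cfsg.Agent.Lib.helper50.stdAlt m F).submatrix e e) := by
    rw [← hg]
    calc G * W * Gi * (G * (A : Matrix (Fin n) (Fin n) F) * Gᵀ) * (G * W * Gi)ᵀ
        = G * (W * ((Gi * G) * (A : Matrix (Fin n) (Fin n) F) * (Gᵀ * Giᵀ)) * Wᵀ) * Gᵀ := by
          rw [Matrix.transpose_mul, Matrix.transpose_mul]
          simp only [Matrix.mul_assoc]
      _ = G * (W * (A : Matrix (Fin n) (Fin n) F) * Wᵀ) * Gᵀ := by
          rw [h1, h1', Matrix.one_mul, Matrix.mul_one]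
      _ = c • (G * (A : Matrix (Fin n) (Fin n) F) * Gᵀ) := by
          rw [hc, Matrix.mul_smul, Matrix.smul_mul]
  have hX : ((G * W * Gi).submatrix e.symm e.symm) * Cfsg.Agent.Lib.helper50.stdAlt m F
      * ((G * W * Gi).submatrix e.symm e.symm)ᵀ = c • Cfsg.Agent.Lib.helper50.stdAlt m F := by
    have hS : Cfsg.Agent.Lib.helper50.stdAlt m F
        = ((Cfsg.Agent.Lib.helper50.stdAlt m F).submatrix e e).submatrix e.symm e.symm := by
      rw [Matrix.submatrix_submatrix, Equiv.self_comp_symm, Matrix.submatrix_id_id]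
    rw [Matrix.transpose_submatrix]
    conv_lhs => rw [hS]
    rw [Matrix.submatrix_mul_equiv, Matrix.submatrix_mul_equiv, hY]
    ext i j
    simp [Matrix.submatrix_apply]
  have hdet := Cfsg.Agent.Lib.helper48.GraphSplit.det_of_sim_stdAlt m _ c hc0 hX
  rw [Matrix.det_submatrix_equiv_self, Matrix.det_mul, Matrix.det_mul] at hdet
  have h3 : G.det * Gi.det = 1 := by rw [← Matrix.det_mul, h2, Matrix.det_one]
  rw [← hdet]
  linear_combination (-W.det) * h3

/-- every scalar is the multiplier of a similitude of an alternating matrix, of determinant `μ ^ m` -/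
theorem exists_sim_mult_alt {n m : ℕ} (A : GL (Fin n) F)
    (halt : ∀ v : Fin n → F, v ⬝ᵥ (A : Matrix (Fin n) (Fin n) F) *ᵥ v = 0)
    (e : Fin n ≃ Fin m ⊕ Fin m) (μ : Fˣ) :
    ∃ w : GL (Fin n) F, (w : Matrix (Fin n) (Fin n) F) * (A : Matrix (Fin n) (Fin n) F)
        * (w : Matrix (Fin n) (Fin n) F)ᵀ = (μ : F) • (A : Matrix (Fin n) (Fin n) F) ∧
      (w : Matrix (Fin n) (Fin n) F).det = (μ : F) ^ m := by
  obtain ⟨g, hg⟩ := Cfsg.Agent.Lib.helper50.exists_cong_alt A halt e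
  obtain ⟨G, hG⟩ : ∃ G : Matrix (Fin n) (Fin n) F, G = (g : Matrix (Fin n) (Fin n) F) := ⟨_, rfl⟩
  obtain ⟨Gi, hGi⟩ : ∃ Gi : Matrix (Fin n) (Fin n) F,
      Gi = ((g⁻¹ : GL (Fin n) F) : Matrix (Fin n) (Fin n) F) := ⟨_, rfl⟩
  have h1 : Gi * G = 1 := by rw [hG, hGi, Units.inv_mul]
  have h2 : G * Gi = 1 := by rw [hG, hGi, Units.mul_inv]
  have h1' : Gᵀ * Giᵀ = 1 := by rw [← Matrix.transpose_mul, h1, Matrix.transpose_one]
  rw [← hG] at hg
  obtain ⟨dd, hdd⟩ : ∃ dd : GL (Fin n) F, dd = Cfsg.Agent.Lib.helper50.reGL e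
      (Cfsg.Agent.Lib.helper48.GraphSplit.blk m (μ : F))
      (Cfsg.Agent.Lib.helper48.GraphSplit.blk m ((μ⁻¹ : Fˣ) : F))
      (Cfsg.Agent.Lib.helper48.GraphSplit.blk_mul m _ _ (by rw [Units.mul_inv])) := ⟨_, rfl⟩
  have hddc : (dd : Matrix (Fin n) (Fin n) F)
      = (Cfsg.Agent.Lib.helper48.GraphSplit.blk m (μ : F)).submatrix e e := by
    rw [hdd]; rfl
  have hdds : (dd : Matrix (Fin n) (Fin n) F) * ((Cfsg.Agent.Lib.helper50.stdAlt m F).submatrix e e)
      * (dd : Matrix (Fin n) (Fin n) F)ᵀ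
      = (μ : F) • ((Cfsg.Agent.Lib.helper50.stdAlt m F).submatrix e e) := by
    rw [hddc, Matrix.transpose_submatrix, Matrix.submatrix_mul_equiv, Matrix.submatrix_mul_equiv,
      Cfsg.Agent.Lib.helper48.GraphSplit.blk_sim, Matrix.submatrix_smul]
    rfl
  refine ⟨g⁻¹ * dd * g, ?_, ?_⟩
  · rw [Units.val_mul, Units.val_mul, ← hG, ← hGi]
    calc Gi * (dd : Matrix (Fin n) (Fin n) F) * G * (A : Matrix (Fin n) (Fin n) F)
          * (Gi * (dd : Matrix (Fin n) (Fin n) F) * G)ᵀ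
        = Gi * ((dd : Matrix (Fin n) (Fin n) F) * (G * (A : Matrix (Fin n) (Fin n) F) * Gᵀ)
          * (dd : Matrix (Fin n) (Fin n) F)ᵀ) * Giᵀ := by
          rw [Matrix.transpose_mul, Matrix.transpose_mul]
          simp only [Matrix.mul_assoc]
      _ = (μ : F) • ((Gi * G) * (A : Matrix (Fin n) (Fin n) F) * (Gᵀ * Giᵀ)) := by
          rw [hg, hdds, ← hg]
          simp only [Matrix.mul_assoc, Matrix.mul_smul, Matrix.smul_mul]
      _ = (μ : F) • (A : Matrix (Fin n) (Fin n) F) := by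
          rw [h1, h1', Matrix.one_mul, Matrix.mul_one]
  · rw [Units.val_mul, Units.val_mul, ← hG, ← hGi, Matrix.det_mul, Matrix.det_mul, hddc,
      Matrix.det_submatrix_equiv_self, Cfsg.Agent.Lib.helper48.GraphSplit.blk_det]
    have h3 : G.det * Gi.det = 1 := by rw [← Matrix.det_mul, h2, Matrix.det_one]
    linear_combination ((μ : F) ^ m) * h3

end altgen

section lam
variable {n q : ℕ} {F : Type u} [Field F] [Fintype F] (hF : Fintype.card F = q ^ 2)
include hF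

omit hF [Fintype F] in
/-- Hilbert 90 for the unitary scalars -/
theorem exists_lam (σ : F ≃+* F) (hσ : ∀ a, σ a = a ^ q) (δs : F) (hδs0 : δs ≠ 0)
    (hδs : σ δs = -δs) (μ : rootsUnity F q) :
    ∃ lam : Fˣ, (lam : F) / σ (lam : F) = ((μ : Fˣ) : F) := by
  have hμ1 : ((μ : Fˣ) : F) * σ ((μ : Fˣ) : F) = 1 := by
    rw [hσ, ← pow_succ']
    exact rootsUnity_pow q μ
  have hμ0 : ((μ : Fˣ) : F) ≠ 0 := (μ : Fˣ).ne_zero
  by_cases h : ((μ : Fˣ) : F) = -1
  · refine ⟨Units.mk0 δs hδs0, ?_⟩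
    rw [Units.val_mk0, hδs, h]
    field_simp
  · have h1 : (1 : F) + ((μ : Fˣ) : F) ≠ 0 := by
      intro h'
      apply h
      linear_combination h'
    refine ⟨Units.mk0 _ h1, ?_⟩
    rw [Units.val_mk0, map_add, map_one]
    have h2 : (1 : F) + σ ((μ : Fˣ) : F) ≠ 0 := by
      intro h'
      apply h1
      have : ((μ : Fˣ) : F) * (1 + σ ((μ : Fˣ) : F)) = 0 := by rw [h', mul_zero]
      linear_combination this - hμ1
    rw [div_eq_iff h2]
    linear_combination (-1 : F) * hμ1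

/-- the norm of a unit descends to the fixed field -/
theorem exists_norm_inv {F₀ : Type v} [Field F₀] (σ : F ≃+* F) (hσ : ∀ a, σ a = a ^ q)
    (ι : F₀ →+* F) (hι2 : ∀ x, σ x = x → ∃ y, ι y = x) (lam : Fˣ) :
    ∃ μ₀ : F₀ˣ, ι (μ₀ : F₀) * ((lam : F) * σ (lam : F)) = 1 := by
  have hlam : (lam : F) ≠ 0 := lam.ne_zero
  have hslam : σ (lam : F) ≠ 0 := (map_ne_zero σ).mpr hlam
  obtain ⟨y, hy⟩ := hι2 (((lam : F) * σ (lam : F))⁻¹) (by
    rw [map_inv₀, map_mul, frob_frob hF σ hσ, mul_comm])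
  have hy0 : y ≠ 0 := by
    intro h
    rw [h, map_zero] at hy
    exact (inv_ne_zero (mul_ne_zero hlam hslam)) hy.symm
  refine ⟨Units.mk0 y hy0, ?_⟩
  rw [Units.val_mk0, hy, inv_mul_cancel₀ (mul_ne_zero hlam hslam)]

end lam

section neg
variable {q : ℕ} {F : Type u} [Field F]

/-- the element `-1` of the unitary scalars -/
def negOne (hq : Odd q) : rootsUnity F q :=
  ⟨-1, by
    rw [mem_rootsUnity_iff]
    exact Even.neg_one_pow (by
      obtain ⟨k, hk⟩ := hq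
      exact ⟨k + 1, by omega⟩)⟩

theorem negOne_coe (hq : Odd q) : ((negOne (F := F) hq : rootsUnity F q) : Fˣ) = -1 := rfl

theorem card_zpowers_negOne (hq : Odd q) (h2 : (2 : F) ≠ 0) :
    Nat.card (Subgroup.zpowers (negOne (F := F) hq)) = 2 := by
  rw [Nat.card_zpowers]
  have : Fact (Nat.Prime 2) := ⟨Nat.prime_two⟩
  refine orderOf_eq_prime ?_ ?_
  · apply Subtype.ext
    rw [Subgroup.coe_pow, negOne_coe, neg_one_sq]
    rfl
  · intro h
    apply h2
    have h3 := congrArg (fun x : rootsUnity F q => ((x : Fˣ) : F)) h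
    simp only [negOne_coe, Units.val_neg, Units.val_one, OneMemClass.coe_one] at h3
    linear_combination -h3

theorem mem_zpowers_negOne (hq : Odd q) (u : rootsUnity F q)
    (hu : u ∈ Subgroup.zpowers (negOne (F := F) hq)) : u = 1 ∨ u = negOne hq := by
  obtain ⟨j, rfl⟩ := hu
  rcases Int.even_or_odd j with h | h
  · left
    apply Subtype.ext
    rw [Subgroup.coe_zpow, negOne_coe, h.neg_one_zpow]
    rfl
  · right
    apply Subtype.ext
    rw [Subgroup.coe_zpow, negOne_coe, h.neg_one_zpow]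

theorem rootsUnity_sq_cases (hq : Odd q) (a b : rootsUnity F q) (h : a ^ 2 = b ^ 2) :
    a = b ∨ a = b * negOne hq := by
  have h1 : (a : Fˣ) ^ 2 = (b : Fˣ) ^ 2 := by
    rw [← Subgroup.coe_pow, ← Subgroup.coe_pow, h]
  rcases Cfsg.Agent.Lib.helper48.GraphSplit.unit_sq_cases _ _ h1 with h | h
  · left; exact Subtype.ext h
  · right
    apply Subtype.ext
    rw [Subgroup.coe_mul, negOne_coe]
    exact h

end neg

section idxU
variable {n q : ℕ} {F : Type u} [Field F] [Fintype F] (hF : Fintype.card F = q ^ 2)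
  {F₀ : Type v} [Field F₀]
include hF

/-- alternating type: the determinants are exactly the `m`-th powers -/
theorem index_U_alt {m : ℕ} (hn : 3 ≤ n) (hnm : n = 2 * m) (σ : F ≃+* F) (hσ : ∀ a, σ a = a ^ q)
    (ι : F₀ →+* F) (hι1 : ∀ y, σ (ι y) = ι y) (hι2 : ∀ x, σ x = x → ∃ y, ι y = x)
    (δs : F) (hδs0 : δs ≠ 0) (hδs : σ δs = -δs) (h2 : (2 : F) ≠ 0)
    (A : ↥(GU n F q)) (A₀ : GL (Fin n) F₀)
    (hA : ((A : GL (Fin n) F) : Matrix (Fin n) (Fin n) F)ᵀ
      = -((A : GL (Fin n) F) : Matrix (Fin n) (Fin n) F))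
    (hA₀ : (A₀ : Matrix (Fin n) (Fin n) F₀)ᵀ = -(A₀ : Matrix (Fin n) (Fin n) F₀))
    (hcorr : Corr σ ι δs A A₀) :
    (detCentU hF (graphU σ A)).index = Nat.gcd m (q + 1) := by
  have e : Fin n ≃ Fin m ⊕ Fin m := (finCongr (by omega)).trans finSumFinEquiv.symm
  apply Cfsg.Agent.Lib.helper48.Split.index_pow_mul_cyclic m (q + 1) (⊥ : Subgroup (rootsUnity F q))
  · rw [Subgroup.card_bot, one_mul, card_rootsUnity hF]
  · intro d
    rw [mem_detCentU_graph hF hn σ hσ]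
    constructor
    · rintro ⟨w, ⟨c, hc⟩, rfl⟩
      refine ⟨⟨c, mult_unitary (by omega) σ hσ A w c hc⟩, 1, Subgroup.mem_bot.mpr rfl, ?_⟩
      rw [mul_one]
      apply Subtype.ext
      apply Units.ext
      rw [detGU_coe]
      exact det_of_sim_alt (A : GL (Fin n) F) (skew_alt h2 _ hA) e _ (c : F) c.ne_zero hc
    · rintro ⟨μ, u, hu, rfl⟩
      rw [Subgroup.mem_bot] at hu
      subst hu
      rw [mul_one]
      obtain ⟨lam, hlam⟩ := exists_lam σ hσ δs hδs0 hδs μ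
      obtain ⟨μ₀, hμ₀⟩ := exists_norm_inv hF σ hσ ι hι2 lam
      obtain ⟨g₀, hg₀, hg₀d⟩ := exists_sim_mult_alt A₀ (skew_alt (two_ne_zero_of_emb ι h2) _ hA₀) e μ₀
      obtain ⟨w, hw, hwd⟩ := lift_sim σ hσ ι hι1 δs hδs0 A A₀ hcorr lam g₀ (μ₀ : F₀) hμ₀ hg₀
      rw [hlam] at hw
      refine ⟨w, ⟨(μ : Fˣ), hw⟩, ?_⟩
      apply Subtype.ext
      apply Units.ext
      rw [detGU_coe, hwd, hg₀d, map_pow]
      have hlam0 : (lam : F) ≠ 0 := lam.ne_zero
      have hslam : σ (lam : F) ≠ 0 := (map_ne_zero σ).mpr hlam0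
      have h3 : (lam : F) ^ 2 * ι (μ₀ : F₀) = ((μ : Fˣ) : F) := by
        rw [← hlam, eq_div_iff hslam]
        linear_combination ((lam : F)) * hμ₀
      show (lam : F) ^ n * ι (μ₀ : F₀) ^ m = ((μ : Fˣ) : F) ^ m
      rw [hnm, pow_mul, ← mul_pow, h3]

/-- symmetric type, even dimension, odd characteristic: the determinants are `± μ ^ m` -/
theorem index_U_sym [Fintype F₀] {m : ℕ} (hn : 3 ≤ n) (hnm : n = 2 * m) (hodd : Odd q) (σ : F ≃+* F)
    (hσ : ∀ a, σ a = a ^ q)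
    (ι : F₀ →+* F) (hι1 : ∀ y, σ (ι y) = ι y) (hι2 : ∀ x, σ x = x → ∃ y, ι y = x)
    (δs : F) (hδs0 : δs ≠ 0) (hδs : σ δs = -δs) (h2 : (2 : F) ≠ 0)
    (A : ↥(GU n F q)) (A₀ : GL (Fin n) F₀)
    (hA : ((A : GL (Fin n) F) : Matrix (Fin n) (Fin n) F)ᵀ
      = ((A : GL (Fin n) F) : Matrix (Fin n) (Fin n) F))
    (hA₀ : (A₀ : Matrix (Fin n) (Fin n) F₀)ᵀ = (A₀ : Matrix (Fin n) (Fin n) F₀))
    (hcorr : Corr σ ι 1 A A₀) :
    (detCentU hF (graphU σ A)).index = Nat.gcd n (q + 1) / 2 := by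
  obtain ⟨N, rfl⟩ : ∃ N, n = N + 1 := ⟨n - 1, by omega⟩
  have h2₀ : (2 : F₀) ≠ 0 := two_ne_zero_of_emb ι h2
  have hrc : ringChar F₀ ≠ 2 := by
    intro h
    apply h2₀
    have h3 := CharP.cast_eq_zero F₀ (ringChar F₀)
    rw [h] at h3
    exact_mod_cast h3
  obtain ⟨α, hα⟩ : ∃ α : F₀, ¬ IsSquare α := FiniteField.exists_nonsquare hrc
  obtain ⟨k, hk⟩ : ∃ k, q + 1 = 2 * k := by
    obtain ⟨k, hk⟩ := hodd
    exact ⟨k + 1, by omega⟩
  have hidx := Cfsg.Agent.Lib.helper48.Split.index_pow_mul_cyclic m k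
    (Subgroup.zpowers (negOne (F := F) hodd))
    (by rw [card_zpowers_negOne hodd h2, card_rootsUnity hF, hk])
    (detCentU hF (graphU σ A)) ?_
  · rw [hidx, hnm, hk, Nat.gcd_mul_left, Nat.mul_div_cancel_left _ (by norm_num)]
  · intro d
    rw [mem_detCentU_graph hF hn σ hσ]
    constructor
    · rintro ⟨w, ⟨c, hc⟩, rfl⟩
      have h1 := detGU_sq hF (by omega) σ hσ A w c hc
      obtain ⟨c', hc'⟩ : ∃ c' : rootsUnity F q,
          c' = (⟨c, mult_unitary (by omega) σ hσ A w c hc⟩ : rootsUnity F q) := ⟨_, rfl⟩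
      rw [← hc'] at h1
      have h1' : (detGU hF (N + 1) w) ^ 2 = (c' ^ m) ^ 2 := by
        rw [h1, hnm, ← pow_mul, mul_comm]
      rcases rootsUnity_sq_cases hodd _ _ h1' with h | h
      · exact ⟨c', 1, one_mem _, by rw [mul_one, h]⟩
      · exact ⟨c', negOne hodd, Subgroup.mem_zpowers _, h⟩
    · rintro ⟨μ, u, hu, rfl⟩
      obtain ⟨lam, hlam⟩ := exists_lam σ hσ δs hδs0 hδs μ
      obtain ⟨μ₀, hμ₀⟩ := exists_norm_inv hF σ hσ ι hι2 lam
      obtain ⟨g₀, hg₀⟩ := Cfsg.Agent.Lib.helper48.GraphSplit.exists_sim_mult h2₀ α hα hnm A₀ hA₀ μ₀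
      obtain ⟨w, hw, -⟩ := lift_sim σ hσ ι hι1 1 one_ne_zero A A₀ hcorr lam g₀ (μ₀ : F₀) hμ₀ hg₀
      rw [hlam] at hw
      obtain ⟨ρ₀, hρ₀, hρ₀d⟩ := Cfsg.Agent.Lib.helper48.GraphSplit.exists_refl_sym h2₀ α hα A₀ hA₀
      obtain ⟨ρ, hρ, hρd⟩ := lift_sim σ hσ ι hι1 1 one_ne_zero A A₀ hcorr 1 ρ₀ (1 : F₀)
        (by rw [map_one, Units.val_one, map_one, mul_one, mul_one])
        (by rw [one_smul]; exact hρ₀)
      rw [Units.val_one, map_one, div_one, one_smul] at hρ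
      have hρd' : detGU hF (N + 1) ρ = negOne hodd := by
        apply Subtype.ext
        apply Units.ext
        rw [detGU_coe, hρd, Units.val_one, one_pow, one_mul, negOne_coe, Units.val_neg, Units.val_one]
        have h5 : (ρ₀ : Matrix (Fin (N + 1)) (Fin (N + 1)) F₀).det = -1 := by
          have := congrArg Units.val hρ₀d
          rw [Units.val_neg, Units.val_one] at this
          exact this
        rw [h5, map_neg, map_one]
      have h1 : (detGU hF (N + 1) w) ^ 2 = μ ^ (N + 1) := detGU_sq hF (by omega) σ hσ A w (μ : Fˣ) hw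
      have h1' : (detGU hF (N + 1) w) ^ 2 = (μ ^ m) ^ 2 := by
        rw [h1, hnm, ← pow_mul, mul_comm]
      have hdw := rootsUnity_sq_cases hodd _ _ h1'
      have hu' := mem_zpowers_negOne hodd u hu
      have hnn : negOne (F := F) hodd * negOne hodd = 1 := by
        apply Subtype.ext
        rw [Subgroup.coe_mul, negOne_coe]
        simp
      by_cases hsame : detGU hF (N + 1) w = μ ^ m * u
      · exact ⟨w, ⟨(μ : Fˣ), hw⟩, hsame⟩
      · refine ⟨w * ρ, ⟨(μ : Fˣ), ?_⟩, ?_⟩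
        · rw [Subgroup.coe_mul, Units.val_mul, Matrix.transpose_mul]
          calc ((w : GL (Fin (N + 1)) F) : Matrix (Fin (N + 1)) (Fin (N + 1)) F)
                * ((ρ : GL (Fin (N + 1)) F) : Matrix (Fin (N + 1)) (Fin (N + 1)) F)
                * ((A : GL (Fin (N + 1)) F) : Matrix (Fin (N + 1)) (Fin (N + 1)) F)
                * (((ρ : GL (Fin (N + 1)) F) : Matrix (Fin (N + 1)) (Fin (N + 1)) F)ᵀ
                  * ((w : GL (Fin (N + 1)) F) : Matrix (Fin (N + 1)) (Fin (N + 1)) F)ᵀ)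
              = ((w : GL (Fin (N + 1)) F) : Matrix (Fin (N + 1)) (Fin (N + 1)) F)
                * (((ρ : GL (Fin (N + 1)) F) : Matrix (Fin (N + 1)) (Fin (N + 1)) F)
                * ((A : GL (Fin (N + 1)) F) : Matrix (Fin (N + 1)) (Fin (N + 1)) F)
                * ((ρ : GL (Fin (N + 1)) F) : Matrix (Fin (N + 1)) (Fin (N + 1)) F)ᵀ)
                * ((w : GL (Fin (N + 1)) F) : Matrix (Fin (N + 1)) (Fin (N + 1)) F)ᵀ := by
                simp only [Matrix.mul_assoc]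
            _ = (((μ : Fˣ) : F)) • ((A : GL (Fin (N + 1)) F) : Matrix (Fin (N + 1)) (Fin (N + 1)) F) := by
                rw [hρ, hw]
        · rw [map_mul, hρd']
          rcases hdw with h | h <;> rcases hu' with h' | h'
          · exact absurd (by rw [h, h', mul_one]) hsame
          · rw [h, h']
          · rw [h, h', mul_assoc, hnn]
          · exact absurd (by rw [h, h']) hsame

end idxU

end Cfsg.Agent.Lib.helper48.GraphSplitU
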