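import Mathlib
import Cfsg.Agent.S2571

set_option autoImplicit false

namespace Cfsg.Agent.Lib.helper48

/-- A regular nilpotent matrix has a cyclic vector whose iterates are linearly independent. -/
theorem exists_cyclic {F : Type*} [Field F] {n : ℕ} (hn : 1 ≤ n)
    (N : Matrix (Fin n) (Fin n) F) (hnil : N ^ n = 0) (hreg : N.rank = n - 1) :
    ∃ v0 : Fin n → F, LinearIndependent F (fun i : Fin n => Matrix.mulVec (N ^ (i : ℕ)) v0) := by
  classical
  set f : (Fin n → F) →ₗ[F] (Fin n → F) := Matrix.toLin' N with hf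
  have hpow : ∀ k : ℕ, Matrix.toLin' (N ^ k) = f ^ k := by
    intro k
    induction k with
    | zero => simp [Module.End.one_eq_id]
    | succ k ih => rw [pow_succ, Matrix.toLin'_mul, ih, pow_succ]; rfl
  have hfnil : IsNilpotent f := ⟨n, by rw [← hpow, hnil]; simp⟩
  have hV : Module.finrank F (Fin n → F) = n := by simp
  have hker : Module.finrank F (LinearMap.ker f) ≤ 1 := by
    have h1 := LinearMap.finrank_range_add_finrank_ker f
    have h2 : Module.finrank F (LinearMap.range f) = n - 1 := by
      rw [← hreg, hf, Matrix.rank, Matrix.toLin'_apply']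
    omega
  have hv0 : ∃ v0, (f ^ (n - 1)) v0 ≠ 0 := by
    by_contra hcon
    push Not at hcon
    have h1 : LinearMap.ker (f ^ (n - 1)) = ⊤ := by
      rw [eq_top_iff]
      intro v _
      exact hcon v
    have h2 := Cfsg.Agent.S2573.finrank_ker_pow_le f (n - 1)
    rw [h1, finrank_top, hV] at h2
    have h3 : (n - 1) * Module.finrank F (LinearMap.ker f) ≤ (n - 1) * 1 :=
      Nat.mul_le_mul_left _ hker
    omega
  obtain ⟨v0, hv0⟩ := hv0
  let b : Fin n → (Fin n → F) := fun i => (f ^ (i : ℕ)) v0
  set W : Submodule F (Fin n → F) := Submodule.span F (Set.range b) with hW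
  have hWinv : ∀ v ∈ W, f v ∈ W := by
    have : W ≤ Submodule.comap f W := by
      rw [hW, Submodule.span_le]
      rintro _ ⟨i, rfl⟩
      show f (b i) ∈ W
      have h1 : f (b i) = (f ^ ((i : ℕ) + 1)) v0 := by
        show f ((f ^ (i : ℕ)) v0) = _
        rw [pow_succ', Module.End.mul_apply]
      rw [h1]
      by_cases hi : (i : ℕ) + 1 < n
      · exact Submodule.subset_span ⟨⟨(i : ℕ) + 1, hi⟩, rfl⟩
      · have h2 : (i : ℕ) + 1 = n := by have := i.2; omega
        rw [h2]
        have h3 : f ^ n = 0 := by rw [← hpow, hnil]; simp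
        rw [h3]
        exact W.zero_mem
    exact fun v hv => this hv
  have e1 := Cfsg.Agent.S2574.eq_ker_pow_of_invariant f hfnil hker W hWinv
  have hv0W : v0 ∈ W := Submodule.subset_span ⟨⟨0, hn⟩, by simp [b]⟩
  have hWdim : Module.finrank F W = n := by
    by_contra hne
    have hle : Module.finrank F W ≤ n := by
      have := Submodule.finrank_le W
      rw [hV] at this; exact this
    have hlt : Module.finrank F W ≤ n - 1 := by omega
    have h1 : v0 ∈ LinearMap.ker (f ^ (n - 1)) :=
      Cfsg.Agent.S2574.ker_pow_mono f hlt (e1 ▸ hv0W)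
    exact hv0 (LinearMap.mem_ker.1 h1)
  have hWtop : W = ⊤ := Submodule.eq_top_of_finrank_eq (by rw [hWdim, hV])
  have hli : LinearIndependent F b :=
    linearIndependent_of_top_le_span_of_card_eq_finrank (by rw [← hW, hWtop])
      (by rw [hV]; simp)
  refine ⟨v0, ?_⟩
  have hb : (fun i : Fin n => Matrix.mulVec (N ^ (i : ℕ)) v0) = b := by
    funext i
    rw [← Matrix.toLin'_apply, hpow]
  rw [hb]
  exact hli

/-- `det (c • 1 + M) = c ^ n` for a nilpotent matrix `M`. -/
theorem det_smul_one_add_nilpotent {F : Type*} [Field F] {n : ℕ}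
    (M : Matrix (Fin n) (Fin n) F) (hM : IsNilpotent M) (c : F) :
    (c • (1 : Matrix (Fin n) (Fin n) F) + M).det = c ^ n := by
  have hneg : IsNilpotent (-M) := hM.neg
  have h2 : (-M).charpoly = Polynomial.X ^ (Fintype.card (Fin n)) :=
    sub_eq_zero.1 (IsNilpotent.eq_zero (Matrix.isNilpotent_charpoly_sub_pow_of_isNilpotent hneg))
  have h3 := Matrix.eval_charpoly (-M) c
  rw [h2] at h3
  simp only [Polynomial.eval_pow, Polynomial.eval_X, Fintype.card_fin, sub_neg_eq_add] at h3
  rw [h3]
  congr 2
  ext i j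
  simp [Matrix.one_apply, Matrix.diagonal_apply]


/-- The standard regular nilpotent matrix: ones on the subdiagonal. -/
def shiftN (n : ℕ) (F : Type*) [Field F] : Matrix (Fin n) (Fin n) F :=
  Matrix.of fun i j => if (i : ℕ) = (j : ℕ) + 1 then 1 else 0

theorem shiftN_apply (n : ℕ) (F : Type*) [Field F] (i j : Fin n) :
    shiftN n F i j = if (i : ℕ) = (j : ℕ) + 1 then 1 else 0 := rfl

theorem shiftN_pow_apply (n : ℕ) (F : Type*) [Field F] (k : ℕ) (i j : Fin n) :
    (shiftN n F ^ k) i j = if (i : ℕ) = (j : ℕ) + k then 1 else 0 := by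
  induction k generalizing i j with
  | zero => simp [Matrix.one_apply, Fin.ext_iff]
  | succ k ih =>
    rw [pow_succ, Matrix.mul_apply]
    simp only [ih, shiftN_apply]
    by_cases h : (j : ℕ) + 1 < n
    · rw [Finset.sum_eq_single (⟨(j : ℕ) + 1, h⟩ : Fin n)]
      · have e : ((i : ℕ) = (j : ℕ) + 1 + k) = ((i : ℕ) = (j : ℕ) + (k + 1)) := by
          rw [add_assoc, add_comm 1 k]
        simp [e]
      · intro l _ hl
        have : (l : ℕ) ≠ (j : ℕ) + 1 := fun h' => hl (Fin.ext h')
        simp [this]
      · intro h'; exact absurd (Finset.mem_univ _) h'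
    · have h1 : ∀ l : Fin n, (l : ℕ) ≠ (j : ℕ) + 1 := fun l => by have := l.2; omega
      have h2 : (i : ℕ) ≠ (j : ℕ) + (k + 1) := by have := i.2; omega
      simp [h1, h2]

theorem shiftN_pow_self (n : ℕ) (F : Type*) [Field F] : shiftN n F ^ n = 0 := by
  ext i j
  rw [shiftN_pow_apply]
  have : (i : ℕ) ≠ (j : ℕ) + n := by have := i.2; omega
  simp [this]

theorem shiftN_isNilpotent (n : ℕ) (F : Type*) [Field F] : IsNilpotent (shiftN n F) :=
  ⟨n, shiftN_pow_self n F⟩

theorem shiftN_rank (k : ℕ) (F : Type*) [Field F] : (shiftN (k + 1) F).rank = k := by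
  classical
  have h1 := LinearMap.finrank_range_add_finrank_ker (Matrix.mulVecLin (shiftN (k + 1) F))
  have hV : Module.finrank F (Fin (k + 1) → F) = k + 1 := by simp
  have hker : LinearMap.ker (Matrix.mulVecLin (shiftN (k + 1) F))
      = Submodule.span F {(Pi.single (Fin.last k) 1 : Fin (k + 1) → F)} := by
    apply le_antisymm
    · intro v hv
      rw [LinearMap.mem_ker, Matrix.mulVecLin_apply] at hv
      rw [Submodule.mem_span_singleton]
      refine ⟨v (Fin.last k), ?_⟩
      ext j
      by_cases hj : j = Fin.last k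
      · subst hj; simp
      · have hjlt : (j : ℕ) + 1 < k + 1 := by
          have := j.2
          have h2 : (j : ℕ) ≠ k := fun h' => hj (Fin.ext h')
          omega
        have h3 := congrFun hv ⟨(j : ℕ) + 1, hjlt⟩
        rw [Matrix.mulVec, dotProduct, Finset.sum_eq_single j] at h3
        · simp only [shiftN_apply, if_true, one_mul, Pi.zero_apply] at h3
          simp [hj, h3]
        · intro l _ hl
          have : ¬ ((j : ℕ) = (l : ℕ)) := fun h' => hl (Fin.ext h'.symm)
          simp [shiftN_apply, this]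
        · intro h'; exact absurd (Finset.mem_univ _) h'
    · rw [Submodule.span_singleton_le_iff_mem, LinearMap.mem_ker, Matrix.mulVecLin_apply,
        Matrix.mulVec_single_one]
      ext i
      have : (i : ℕ) ≠ k + 1 := by
        have := i.2; omega
      simp [shiftN_apply, this]
  have hne : (Pi.single (Fin.last k) 1 : Fin (k + 1) → F) ≠ 0 := by
    intro h
    have := congrFun h (Fin.last k)
    simp at this
  rw [hker, finrank_span_singleton hne, hV] at h1
  have : (shiftN (k + 1) F).rank = Module.finrank F (LinearMap.range (Matrix.mulVecLin (shiftN (k + 1) F))) := rfl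
  omega

/-- Any regular nilpotent matrix is conjugate to the standard one. -/
theorem exists_conj_shiftN {F : Type*} [Field F] (k : ℕ)
    (N : Matrix (Fin (k + 1)) (Fin (k + 1)) F) (hnil : N ^ (k + 1) = 0) (hreg : N.rank = k) :
    ∃ G : Matrix (Fin (k + 1)) (Fin (k + 1)) F, IsUnit G ∧ G * shiftN (k + 1) F = N * G := by
  classical
  obtain ⟨v0, hli⟩ := exists_cyclic (by omega) N hnil (by simpa using hreg)
  let G : Matrix (Fin (k + 1)) (Fin (k + 1)) F :=
    Matrix.of fun r c => Matrix.mulVec (N ^ (c : ℕ)) v0 r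
  have hGv : ∀ a : Fin (k + 1) → F,
      Matrix.mulVec G a = ∑ c, a c • Matrix.mulVec (N ^ (c : ℕ)) v0 := by
    intro a
    ext r
    simp only [Matrix.mulVec, dotProduct, G, Matrix.of_apply, Finset.sum_apply, Pi.smul_apply,
      smul_eq_mul]
    exact Finset.sum_congr rfl (fun c _ => mul_comm _ _)
  refine ⟨G, ?_, ?_⟩
  · rw [← Matrix.mulVec_injective_iff_isUnit]
    intro a a' haa'
    have h1 : Matrix.mulVec G (a - a') = 0 := by
      rw [Matrix.mulVec_sub, haa', sub_self]
    rw [hGv] at h1
    have h2 := Fintype.linearIndependent_iff.1 hli (a - a') h1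
    ext i
    have := h2 i
    simpa [sub_eq_zero] using this
  · ext r c
    rw [Matrix.mul_apply, Matrix.mul_apply]
    have hR : ∑ l, N r l * G l c = Matrix.mulVec (N ^ ((c : ℕ) + 1)) v0 r := by
      rw [pow_succ', ← Matrix.mulVec_mulVec]
      rfl
    rw [hR]
    by_cases h : (c : ℕ) + 1 < k + 1
    · rw [Finset.sum_eq_single (⟨(c : ℕ) + 1, h⟩ : Fin (k + 1))]
      · simp [shiftN_apply, G]
      · intro l _ hl
        have : (l : ℕ) ≠ (c : ℕ) + 1 := fun h' => hl (Fin.ext h')
        simp [shiftN_apply, this]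
      · intro h'; exact absurd (Finset.mem_univ _) h'
    · have h1 : ∀ l : Fin (k + 1), (l : ℕ) ≠ (c : ℕ) + 1 := fun l => by have := l.2; omega
      have h2 : (c : ℕ) + 1 = k + 1 := by have := c.2; omega
      rw [h2, hnil]
      simp [shiftN_apply, h1]

end Cfsg.Agent.Lib.helper48
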