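import Mathlib
import Cfsg.Agent.S2571
import Cfsg.Agent.Lib.helper48.Cayley
import Cfsg.Agent.Lib.helper48.RegUnip

set_option autoImplicit false

namespace Cfsg.Agent.Lib.helper48

open Matrix

/-- the Cayley count for a ring that happens to be commutative -/
theorem cayley_count' {F R : Type*} [Field F] [Ring R] [Algebra F R] [Nontrivial R] [Finite R]
    (hcomm : ∀ x y : R, x * y = y * x) (h2 : (2 : F) ≠ 0)
    (hloc : ∀ x : R, ∃ c : F, IsNilpotent (x - algebraMap F R c))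
    (σ : R →ₐ[F] R) :
    Nat.card {y : R // σ y * y = 1} = 2 * Nat.card {x : R // σ x = -x} := by
  let _ : CommRing R := { ‹Ring R› with mul_comm := hcomm }
  exact cayley_count h2 hloc σ

section SpReg
variable {F : Type*} [Field F] {m : ℕ}

/-- the adjoint anti-involution of the standard symplectic form -/
def sig (X : Matrix (Fin m ⊕ Fin m) (Fin m ⊕ Fin m) F) :
    Matrix (Fin m ⊕ Fin m) (Fin m ⊕ Fin m) F :=
  -(J (Fin m) F) * Xᵀ * J (Fin m) F

theorem J_mul_J_mul (Y : Matrix (Fin m ⊕ Fin m) (Fin m ⊕ Fin m) F) :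
    J (Fin m) F * (J (Fin m) F * Y) = -Y := by
  rw [← Matrix.mul_assoc, J_squared, neg_one_mul]

theorem sig_add (X Y : Matrix (Fin m ⊕ Fin m) (Fin m ⊕ Fin m) F) :
    sig (X + Y) = sig X + sig Y := by
  unfold sig; rw [transpose_add, Matrix.mul_add, Matrix.add_mul]

theorem sig_neg (X : Matrix (Fin m ⊕ Fin m) (Fin m ⊕ Fin m) F) : sig (-X) = -sig X := by
  unfold sig; simp

theorem sig_sub (X Y : Matrix (Fin m ⊕ Fin m) (Fin m ⊕ Fin m) F) :
    sig (X - Y) = sig X - sig Y := by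
  rw [sub_eq_add_neg, sig_add, sig_neg, ← sub_eq_add_neg]

theorem sig_smul (c : F) (X : Matrix (Fin m ⊕ Fin m) (Fin m ⊕ Fin m) F) :
    sig (c • X) = c • sig X := by
  unfold sig; simp

theorem sig_one : sig (1 : Matrix (Fin m ⊕ Fin m) (Fin m ⊕ Fin m) F) = 1 := by
  unfold sig; rw [transpose_one, Matrix.mul_one, Matrix.neg_mul, J_squared, neg_neg]

theorem sig_mul (X Y : Matrix (Fin m ⊕ Fin m) (Fin m ⊕ Fin m) F) :
    sig (X * Y) = sig Y * sig X := by
  unfold sig
  rw [transpose_mul]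
  simp only [Matrix.mul_assoc, Matrix.neg_mul, Matrix.mul_neg, J_mul_J_mul, neg_neg]

theorem sig_sig (X : Matrix (Fin m ⊕ Fin m) (Fin m ⊕ Fin m) F) : sig (sig X) = X := by
  unfold sig
  simp only [transpose_mul, transpose_neg, J_transpose, transpose_transpose, Matrix.mul_assoc,
    Matrix.neg_mul, Matrix.mul_neg, J_mul_J_mul, neg_neg, J_squared]
  simp

theorem sig_pow (X : Matrix (Fin m ⊕ Fin m) (Fin m ⊕ Fin m) F) (k : ℕ) :
    sig (X ^ k) = sig X ^ k := by
  induction k with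
  | zero => simp [sig_one]
  | succ k ih => rw [pow_succ, sig_mul, ih, pow_succ']

theorem sig_sum {α : Type*} (t : Finset α) (f : α → Matrix (Fin m ⊕ Fin m) (Fin m ⊕ Fin m) F) :
    sig (∑ i ∈ t, f i) = ∑ i ∈ t, sig (f i) := by
  classical
  induction t using Finset.induction_on with
  | empty => unfold sig; simp
  | insert a t ha ih => rw [Finset.sum_insert ha, Finset.sum_insert ha, sig_add, ih]

theorem mem_symplectic_iff_sig (X : Matrix (Fin m ⊕ Fin m) (Fin m ⊕ Fin m) F) :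
    X ∈ symplecticGroup (Fin m) F ↔ sig X * X = 1 := by
  rw [SymplecticGroup.mem_iff']
  unfold sig
  constructor
  · intro h
    rw [Matrix.mul_assoc, Matrix.mul_assoc, ← Matrix.mul_assoc Xᵀ, h, Matrix.neg_mul, J_squared,
      neg_neg]
  · intro h
    have := congrArg (fun Y => J (Fin m) F * Y) h
    simp only [Matrix.mul_assoc, Matrix.neg_mul, Matrix.mul_neg, J_mul_J_mul, neg_neg,
      Matrix.mul_one] at this
    rw [Matrix.mul_assoc]; exact this

/-- polynomial map on matrices indexed by `Fin m ⊕ Fin m` -/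
def polyS (s : Matrix (Fin m ⊕ Fin m) (Fin m ⊕ Fin m) F) (a : Fin (m + m) → F) :
    Matrix (Fin m ⊕ Fin m) (Fin m ⊕ Fin m) F := ∑ i : Fin (m + m), a i • s ^ (i : ℕ)

theorem reg_struct (hm : 1 ≤ m) (s : Matrix (Fin m ⊕ Fin m) (Fin m ⊕ Fin m) F)
    (hnil : s ^ (m + m) = 0) (hreg : s.rank = m + m - 1) :
    Function.Injective (polyS s) ∧ ∀ X, X * s = s * X → ∃ a, polyS s a = X := by
  classical
  set φ := Matrix.reindexAlgEquiv F F (finSumFinEquiv : Fin m ⊕ Fin m ≃ Fin (m + m)) with hφ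
  have hφP : ∀ a, φ (polyS s a) = Cfsg.Agent.S2571.polyMap (φ s) a := by
    intro a
    rw [Cfsg.Agent.S2571.polyMap_apply]; unfold polyS
    rw [map_sum]
    refine Finset.sum_congr rfl (fun i _ => ?_)
    rw [map_smul, map_pow]
  have hnil' : (φ s) ^ (m + m) = 0 := by rw [← map_pow, hnil, map_zero]
  have hreg' : (φ s).rank = m + m - 1 := by
    rw [← hreg, hφ, Matrix.coe_reindexAlgEquiv, Matrix.rank_reindex]
  obtain ⟨-, hinj, hsurj⟩ := Cfsg.Agent.S2571.regular_structure (by omega) (φ s) hnil' hreg'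
  refine ⟨?_, ?_⟩
  · intro a b hab
    apply hinj
    rw [← hφP, ← hφP, hab]
  · intro X hX
    obtain ⟨a, ha⟩ := hsurj (φ X) (by rw [← map_mul, ← map_mul, hX])
    refine ⟨a, φ.injective ?_⟩
    rw [hφP, ha]

theorem polyS_comm_of_comm (s X : Matrix (Fin m ⊕ Fin m) (Fin m ⊕ Fin m) F)
    (h : X * s = s * X) (a : Fin (m + m) → F) : X * polyS s a = polyS s a * X := by
  unfold polyS
  have hc : Commute X s := h
  exact (Commute.sum_right _ _ _ (fun i _ => (hc.pow_right _).smul_right _)).eq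

theorem sig_polyS (s : Matrix (Fin m ⊕ Fin m) (Fin m ⊕ Fin m) F) (hs : sig s = -s)
    (a : Fin (m + m) → F) : sig (polyS s a) = polyS s (fun i => (-1) ^ (i : ℕ) * a i) := by
  unfold polyS
  rw [sig_sum]
  refine Finset.sum_congr rfl (fun i _ => ?_)
  rw [sig_smul, sig_pow, hs, neg_pow]
  rcases Nat.even_or_odd (i : ℕ) with h | h
  · simp [h.neg_one_pow]
  · simp [h.neg_one_pow]

theorem polyS_loc (hm : 1 ≤ m) (s : Matrix (Fin m ⊕ Fin m) (Fin m ⊕ Fin m) F)
    (hnil : IsNilpotent s) (a : Fin (m + m) → F) :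
    IsNilpotent (polyS s a - a ⟨0, by omega⟩ • (1 : Matrix (Fin m ⊕ Fin m) (Fin m ⊕ Fin m) F)) := by
  classical
  unfold polyS
  have h0 : (⟨0, by omega⟩ : Fin (m + m)) ∈ (Finset.univ : Finset (Fin (m + m))) :=
    Finset.mem_univ _
  rw [← Finset.add_sum_erase _ _ h0]
  simp only [pow_zero, add_sub_cancel_left]
  refine Commute.isNilpotent_sum (fun i hi => ?_) (fun i j _ _ => ?_)
  · have hi0 : (i : ℕ) ≠ 0 := by
      intro h
      exact (Finset.mem_erase.1 hi).1 (Fin.ext h)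
    exact (hnil.pow_of_pos hi0).smul _
  · exact (((Commute.refl s).pow_pow _ _).smul_left _).smul_right _

theorem polyS_neg (s : Matrix (Fin m ⊕ Fin m) (Fin m ⊕ Fin m) F) (a : Fin (m + m) → F) :
    polyS s (fun i => -a i) = -polyS s a := by
  unfold polyS
  rw [← Finset.sum_neg_distrib]
  exact Finset.sum_congr rfl (fun i _ => neg_smul _ _)

theorem two_ne_zero_of_odd_card {F : Type*} [Field F] [Fintype F] (hq : Odd (Fintype.card F)) :
    (2 : F) ≠ 0 := by
  apply Ring.two_ne_zero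
  intro h
  rw [FiniteField.even_card_iff_char_two] at h
  rcases hq with ⟨k, hk⟩
  omega

/-- functions on `Fin (m + m)` vanishing at even indices -/
def oddEquiv (F : Type*) [Field F] (m : ℕ) :
    {a : Fin (m + m) → F // ∀ i : Fin (m + m), Even (i : ℕ) → a i = 0} ≃ (Fin m → F) where
  toFun a j := a.1 ⟨2 * (j : ℕ) + 1, by have := j.2; omega⟩
  invFun b := ⟨fun i => if h : Even (i : ℕ) then 0 else b ⟨(i : ℕ) / 2, by have := i.2; omega⟩,
    fun i hi => by simp [hi]⟩
  left_inv a := by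
    apply Subtype.ext
    funext i
    simp only
    split_ifs with h
    · exact (a.2 i h).symm
    · refine congrArg a.1 (Fin.ext ?_)
      show 2 * ((i : ℕ) / 2) + 1 = (i : ℕ)
      obtain ⟨k, hk⟩ := Nat.not_even_iff_odd.1 h
      omega
  right_inv b := by
    funext j
    have h1 : ¬ Even (2 * (j : ℕ) + 1) := by
      rw [Nat.not_even_iff_odd]; exact ⟨j, rfl⟩
    simp only [h1, dite_false]
    congr 1
    apply Fin.ext
    simp only
    omega

theorem card_unitary_commutant [Fintype F] (hq : Odd (Fintype.card F)) (hm : 1 ≤ m)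
    (s : Matrix (Fin m ⊕ Fin m) (Fin m ⊕ Fin m) F)
    (hnil : s ^ (m + m) = 0) (hreg : s.rank = m + m - 1) (hs : sig s = -s) :
    Nat.card {y : Matrix (Fin m ⊕ Fin m) (Fin m ⊕ Fin m) F // s * y = y * s ∧ sig y * y = 1}
      = 2 * Fintype.card F ^ m := by
  classical
  obtain ⟨hinj, hsurj⟩ := reg_struct hm s hnil hreg
  have h2 : (2 : F) ≠ 0 := two_ne_zero_of_odd_card hq
  set A := Subalgebra.centralizer F ({s} : Set (Matrix (Fin m ⊕ Fin m) (Fin m ⊕ Fin m) F)) with hA
  have hmem : ∀ X, X ∈ A ↔ s * X = X * s := by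
    intro X; rw [hA, Subalgebra.mem_centralizer_iff]; simp
  have hpoly : ∀ X ∈ A, ∃ a, polyS s a = X := fun X hX => hsurj X ((hmem X).1 hX).symm
  have hpolymem : ∀ a, polyS s a ∈ A := fun a => (hmem _).2 (polyS_comm_of_comm s s rfl a)
  have hcomm : ∀ x y : A, x * y = y * x := by
    rintro ⟨x, hx⟩ ⟨y, hy⟩
    obtain ⟨a, rfl⟩ := hpoly x hx
    obtain ⟨b, rfl⟩ := hpoly y hy
    apply Subtype.ext
    exact polyS_comm_of_comm s _ (polyS_comm_of_comm s s rfl a).symm b
  have hsigmem : ∀ X ∈ A, sig X ∈ A := by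
    intro X hX
    obtain ⟨a, rfl⟩ := hpoly X hX
    rw [sig_polyS s hs]; exact hpolymem _
  let σ : A →ₐ[F] A := AlgHom.ofLinearMap
    { toFun := fun x => ⟨sig x.1, hsigmem x.1 x.2⟩
      map_add' := fun x y => Subtype.ext (sig_add _ _)
      map_smul' := fun c x => Subtype.ext (sig_smul _ _) }
    (Subtype.ext sig_one)
    (fun x y => Subtype.ext (by
      show sig (x.1 * y.1) = sig x.1 * sig y.1
      rw [sig_mul]
      exact congrArg Subtype.val (hcomm ⟨sig y.1, hsigmem y.1 y.2⟩ ⟨sig x.1, hsigmem x.1 x.2⟩)))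
  have hσval : ∀ x : A, (σ x : Matrix (Fin m ⊕ Fin m) (Fin m ⊕ Fin m) F) = sig x.1 := fun x => rfl
  have : Nonempty (Fin m ⊕ Fin m) := ⟨Sum.inl ⟨0, by omega⟩⟩
  have hloc : ∀ x : A, ∃ c : F, IsNilpotent (x - algebraMap F A c) := by
    rintro ⟨x, hx⟩
    obtain ⟨a, rfl⟩ := hpoly x hx
    refine ⟨a ⟨0, by omega⟩, ?_⟩
    obtain ⟨k, hk⟩ := polyS_loc hm s ⟨m + m, hnil⟩ a
    refine ⟨k, Subtype.ext ?_⟩
    rw [SubmonoidClass.coe_pow, AddSubgroupClass.coe_sub, Subalgebra.coe_algebraMap,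
      Algebra.algebraMap_eq_smul_one]
    exact hk
  have key := cayley_count' hcomm h2 hloc σ
  have e1 : {y : A // σ y * y = 1}
      ≃ {y : Matrix (Fin m ⊕ Fin m) (Fin m ⊕ Fin m) F // s * y = y * s ∧ sig y * y = 1} :=
    (Equiv.subtypeEquivRight (fun y : A => by
      show σ y * y = 1 ↔ sig y.1 * y.1 = 1
      rw [Subtype.ext_iff]; rfl)).trans
    ((Equiv.subtypeSubtypeEquivSubtypeInter (fun y => y ∈ A) (fun y => sig y * y = 1)).trans
      (Equiv.subtypeEquivRight (fun y => and_congr (hmem y) Iff.rfl)))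
  let PE : (Fin (m + m) → F) ≃ A := Equiv.ofBijective (fun a => ⟨polyS s a, hpolymem a⟩)
    ⟨fun a b hab => hinj (congrArg Subtype.val hab), fun x => by
      obtain ⟨a, ha⟩ := hpoly x.1 x.2
      exact ⟨a, Subtype.ext ha⟩⟩
  have e2 : {a : Fin (m + m) → F // ∀ i : Fin (m + m), Even (i : ℕ) → a i = 0}
      ≃ {x : A // σ x = -x} := by
    refine PE.subtypeEquiv (fun a => ?_)
    show _ ↔ σ ⟨polyS s a, hpolymem a⟩ = -⟨polyS s a, hpolymem a⟩
    rw [Subtype.ext_iff]
    show _ ↔ sig (polyS s a) = -polyS s a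
    rw [sig_polyS s hs, ← polyS_neg, hinj.eq_iff, funext_iff]
    refine forall_congr' (fun i => ?_)
    rcases Nat.even_or_odd (i : ℕ) with h | h
    · simp only [h, h.neg_one_pow, one_mul, forall_true_left]
      constructor
      · intro h0; rw [h0, neg_zero]
      · intro h0
        have : (2 : F) * a i = 0 := by linear_combination h0
        rcases mul_eq_zero.1 this with h' | h'
        · exact absurd h' h2
        · exact h'
    · have hne : ¬ Even (i : ℕ) := Nat.not_even_iff_odd.2 h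
      simp [hne, h.neg_one_pow]
  rw [← Nat.card_congr e1, key, ← Nat.card_congr e2, Nat.card_congr (oddEquiv F m),
    Nat.card_eq_fintype_card, Fintype.card_fun, Fintype.card_fin]

end SpReg

end Cfsg.Agent.Lib.helper48
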