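import Mathlib
import Cfsg.Agent.Lib.helper48.SpRegUnip
import Cfsg.Agent.S2592

set_option autoImplicit false

namespace Cfsg.Agent.Lib.helper48

open Matrix

universe u

section Abstract
variable {F R : Type*} [Field F] [CommRing R] [Algebra F R] [Nontrivial R]

/-- the residue of a norm `σ z * z` is a square -/
theorem norm_residue_sq (hloc : ∀ x : R, ∃ c : F, IsNilpotent (x - algebraMap F R c))
    (σ : R →ₐ[F] R) (z : R) (d : F) (h : σ z * z = algebraMap F R d) : ∃ c : F, d = c * c := by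
  obtain ⟨c, hc⟩ := hloc z
  have h1 : IsNilpotent (σ z - algebraMap F R c) := by
    have := hc.map σ
    simpa using this
  refine ⟨c, ?_⟩
  have h3 : IsNilpotent (algebraMap F R (d - c * c)) := by
    have ha : IsNilpotent ((σ z - algebraMap F R c) * z) :=
      (Commute.all _ _).isNilpotent_mul_right h1
    have hb : IsNilpotent (algebraMap F R c * (z - algebraMap F R c)) :=
      (Commute.all _ _).isNilpotent_mul_left hc
    have := (Commute.all _ _).isNilpotent_add ha hb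
    have e : algebraMap F R (d - c * c)
        = (σ z - algebraMap F R c) * z + algebraMap F R c * (z - algebraMap F R c) := by
      rw [map_sub, map_mul]
      linear_combination (-1 : R) * h
    rw [e]; exact this
  rw [isNilpotent_algebraMap_iff'] at h3
  exact sub_eq_zero.1 h3

/-- in odd characteristic, a `σ`-fixed element with nonzero residue `c` is, up to the scalar
`c * e^2`, the inverse of a norm -/
theorem exists_norm_mul_eq (p : ℕ) [Fact p.Prime] [CharP F p] (hp : p ≠ 2) (σ : R →ₐ[F] R)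
    (b : R) (hb : σ b = b) (c e : F) (hc : c ≠ 0)
    (hloc : IsNilpotent (b - algebraMap F R c)) :
    ∃ z : R, σ z * z * b = algebraMap F R (c * (e * e)) := by
  have : CharP R p := charP_of_injective_algebraMap (algebraMap F R).injective p
  set b₂ : R := algebraMap F R c⁻¹ * b with hb₂
  have hcc : algebraMap F R c⁻¹ * algebraMap F R c = 1 := by
    rw [← map_mul, inv_mul_cancel₀ hc, map_one]
  have hx : IsNilpotent (b₂ - 1) := by
    have : b₂ - 1 = algebraMap F R c⁻¹ * (b - algebraMap F R c) := by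
      rw [hb₂]; linear_combination (1 : R) * hcc
    rw [this]
    exact (Commute.all _ _).isNilpotent_mul_left hloc
  obtain ⟨n, hn⟩ := hx
  have hpn : (b₂ - 1) ^ (p ^ n) = 0 :=
    pow_eq_zero_of_le (Nat.lt_pow_self (Fact.out : p.Prime).one_lt).le hn
  have hb₂pow : b₂ ^ (p ^ n) = 1 := by
    have h1 : b₂ = (b₂ - 1) + 1 := by ring
    rw [h1, add_pow_char_pow, hpn, one_pow, zero_add]
  have hodd : Odd (p ^ n) := by
    apply Odd.pow
    exact (Fact.out : p.Prime).odd_of_ne_two hp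
  obtain ⟨t, ht⟩ := hodd
  have hσb₂ : σ b₂ = b₂ := by rw [hb₂, map_mul, hb, AlgHom.commutes]
  refine ⟨algebraMap F R e * b₂ ^ t, ?_⟩
  rw [map_mul, map_pow, hσb₂, AlgHom.commutes]
  have h2 : b₂ ^ t * b₂ ^ t * b₂ = 1 := by
    rw [← hb₂pow, ht]; ring
  have h3 : b = algebraMap F R c * b₂ := by
    rw [hb₂, ← mul_assoc, mul_comm (algebraMap F R c), hcc, one_mul]
  rw [map_mul, map_mul]
  calc algebraMap F R e * b₂ ^ t * (algebraMap F R e * b₂ ^ t) * b
      = algebraMap F R e * b₂ ^ t * (algebraMap F R e * b₂ ^ t) * (algebraMap F R c * b₂) := by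
        rw [← h3]
    _ = algebraMap F R c * (algebraMap F R e * algebraMap F R e) * (b₂ ^ t * b₂ ^ t * b₂) := by
        ring
    _ = algebraMap F R c * (algebraMap F R e * algebraMap F R e) := by rw [h2, mul_one]

end Abstract

section Model
variable {F : Type u} [Field F] {m : ℕ}

/-- a commutative model of the commutant of a skew-adjoint regular nilpotent matrix -/
theorem exists_comm_model (hm : 1 ≤ m)
    (s : Matrix (Fin m ⊕ Fin m) (Fin m ⊕ Fin m) F)
    (hnil : s ^ (m + m) = 0) (hreg : s.rank = m + m - 1) (hs : sig s = -s) :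
    ∃ (R : Type u) (_ : CommRing R) (_ : Algebra F R) (_ : Nontrivial R)
      (ρ : R →ₐ[F] Matrix (Fin m ⊕ Fin m) (Fin m ⊕ Fin m) F) (σ : R →ₐ[F] R),
      Function.Injective ρ ∧ (∀ X, s * X = X * s → ∃ r, ρ r = X) ∧ (∀ r, s * ρ r = ρ r * s) ∧
      (∀ r, ρ (σ r) = sig (ρ r)) ∧ (∀ r : R, ∃ c : F, IsNilpotent (r - algebraMap F R c)) := by
  classical
  obtain ⟨hinj, hsurj⟩ := reg_struct hm s hnil hreg
  set A := Subalgebra.centralizer F ({s} : Set (Matrix (Fin m ⊕ Fin m) (Fin m ⊕ Fin m) F)) with hA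
  have hmem : ∀ X, X ∈ A ↔ s * X = X * s := by
    intro X; rw [hA, Subalgebra.mem_centralizer_iff]; simp
  have hpoly : ∀ X ∈ A, ∃ a, polyS s a = X := fun X hX => hsurj X ((hmem X).1 hX).symm
  have hpolymem : ∀ a, polyS s a ∈ A := fun a => (hmem _).2 (polyS_comm_of_comm s s rfl a)
  have hcomm : ∀ x y : A, x * y = y * x := by
    rintro ⟨x, hx⟩ ⟨y, hy⟩
    obtain ⟨a, rfl⟩ := hpoly x hx
    obtain ⟨b, rfl⟩ := hpoly y hy
    apply Subtype.ext
    exact polyS_comm_of_comm s _ (polyS_comm_of_comm s s rfl a).symm b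
  have hsigmem : ∀ X ∈ A, sig X ∈ A := by
    intro X hX
    obtain ⟨a, rfl⟩ := hpoly X hX
    rw [sig_polyS s hs]; exact hpolymem _
  let σ : A →ₐ[F] A := AlgHom.ofLinearMap
    { toFun := fun x => ⟨sig x.1, hsigmem x.1 x.2⟩
      map_add' := fun x y => Subtype.ext (sig_add _ _)
      map_smul' := fun c x => Subtype.ext (sig_smul _ _) }
    (Subtype.ext sig_one)
    (fun x y => Subtype.ext (by
      show sig (x.1 * y.1) = sig x.1 * sig y.1
      rw [sig_mul]
      exact congrArg Subtype.val (hcomm ⟨sig y.1, hsigmem y.1 y.2⟩ ⟨sig x.1, hsigmem x.1 x.2⟩)))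
  have : Nonempty (Fin m ⊕ Fin m) := ⟨Sum.inl ⟨0, by omega⟩⟩
  have hloc : ∀ x : A, ∃ c : F, IsNilpotent (x - algebraMap F A c) := by
    rintro ⟨x, hx⟩
    obtain ⟨a, rfl⟩ := hpoly x hx
    refine ⟨a ⟨0, by omega⟩, ?_⟩
    obtain ⟨k, hk⟩ := polyS_loc hm s ⟨m + m, hnil⟩ a
    refine ⟨k, Subtype.ext ?_⟩
    rw [SubmonoidClass.coe_pow, AddSubgroupClass.coe_sub, Subalgebra.coe_algebraMap,
      Algebra.algebraMap_eq_smul_one]
    exact hk
  refine ⟨A, { (inferInstance : Ring A) with mul_comm := hcomm }, inferInstance, inferInstance,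
    A.val, σ, Subtype.val_injective, ?_, ?_, ?_, hloc⟩
  · intro X hX
    exact ⟨⟨X, (hmem X).2 hX⟩, rfl⟩
  · intro r
    exact (hmem _).1 r.2
  · intro r
    rfl

/-- norm residue facts for the commutant of a skew-adjoint regular nilpotent matrix -/
theorem norm_structure [Fintype F] (hq : Odd (Fintype.card F)) (hm : 1 ≤ m)
    (s : Matrix (Fin m ⊕ Fin m) (Fin m ⊕ Fin m) F)
    (hnil : s ^ (m + m) = 0) (hreg : s.rank = m + m - 1) (hs : sig s = -s) :
    (∀ (z : Matrix (Fin m ⊕ Fin m) (Fin m ⊕ Fin m) F) (d : F), s * z = z * s →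
        sig z * z = d • (1 : Matrix (Fin m ⊕ Fin m) (Fin m ⊕ Fin m) F) → ∃ c : F, d = c * c) ∧
    (∀ (b : Matrix (Fin m ⊕ Fin m) (Fin m ⊕ Fin m) F) (c e : F), s * b = b * s → sig b = b →
        c ≠ 0 → IsNilpotent (b - c • (1 : Matrix (Fin m ⊕ Fin m) (Fin m ⊕ Fin m) F)) →
        ∃ z, s * z = z * s ∧
          sig z * z * b = (c * (e * e)) • (1 : Matrix (Fin m ⊕ Fin m) (Fin m ⊕ Fin m) F)) ∧
    (∀ b : Matrix (Fin m ⊕ Fin m) (Fin m ⊕ Fin m) F, s * b = b * s →
        ∃ c : F, IsNilpotent (b - c • (1 : Matrix (Fin m ⊕ Fin m) (Fin m ⊕ Fin m) F))) ∧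
    (∀ x y : Matrix (Fin m ⊕ Fin m) (Fin m ⊕ Fin m) F, s * x = x * s → s * y = y * s →
        x * y = y * x) := by
  classical
  obtain ⟨R, _, _, _, ρ, σ, hρinj, hρsurj, hρcomm, hρσ, hloc⟩ :=
    exists_comm_model hm s hnil hreg hs
  obtain ⟨p, hp⟩ := CharP.exists F
  have hpp : p.Prime := CharP.char_is_prime F p
  have : Fact p.Prime := ⟨hpp⟩
  have h2 : (2 : F) ≠ 0 := two_ne_zero_of_odd_card hq
  have hp2 : p ≠ 2 := by
    rintro rfl
    apply h2
    have := CharP.cast_eq_zero F 2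
    exact_mod_cast this
  have hρalg : ∀ d : F, ρ (algebraMap F R d)
      = d • (1 : Matrix (Fin m ⊕ Fin m) (Fin m ⊕ Fin m) F) := by
    intro d
    rw [AlgHom.commutes, Algebra.algebraMap_eq_smul_one]
  refine ⟨?_, ?_, ?_, ?_⟩
  · intro z d hz h
    obtain ⟨r, rfl⟩ := hρsurj z hz
    apply norm_residue_sq hloc σ r d
    apply hρinj
    rw [map_mul, hρσ, h, hρalg]
  · intro b c e hb hsb hc hnilb
    obtain ⟨r, rfl⟩ := hρsurj b hb
    have hσr : σ r = r := by
      apply hρinj; rw [hρσ, hsb]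
    have hnil' : IsNilpotent (r - algebraMap F R c) := by
      obtain ⟨k, hk⟩ := hnilb
      refine ⟨k, hρinj ?_⟩
      rw [map_pow, map_sub, hρalg, hk, map_zero]
    obtain ⟨z', hz'⟩ := exists_norm_mul_eq p hp2 σ r hσr c e hc hnil'
    refine ⟨ρ z', hρcomm z', ?_⟩
    rw [← hρσ, ← map_mul, ← map_mul, hz', hρalg]
  · intro b hb
    obtain ⟨r, rfl⟩ := hρsurj b hb
    obtain ⟨c, hc⟩ := hloc r
    refine ⟨c, ?_⟩
    have := hc.map ρ
    rwa [map_sub, hρalg] at this
  · intro x y hx hy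
    obtain ⟨r, rfl⟩ := hρsurj x hx
    obtain ⟨r', rfl⟩ := hρsurj y hy
    rw [← map_mul, ← map_mul, mul_comm]

end Model

section Exist
variable {F : Type*} [Field F] {m : ℕ}

/-- `shiftN` has rank `n - 1` -/
theorem shiftN_rank' (n : ℕ) (hn : 1 ≤ n) : (shiftN n F).rank = n - 1 := by
  obtain ⟨k, rfl⟩ : ∃ k, n = k + 1 := ⟨n - 1, by omega⟩
  simpa using shiftN_rank k F

/-- the height function of the standard chain -/
def htFun (m : ℕ) : Fin m ⊕ Fin m → Fin (m + m)
  | Sum.inl i => ⟨2 * (m - 1 - (i : ℕ)), by have := i.2; omega⟩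
  | Sum.inr i => ⟨2 * (i : ℕ) + 1, by have := i.2; omega⟩

theorem htFun_bijective (m : ℕ) : Function.Bijective (htFun m) := by
  rw [Fintype.bijective_iff_injective_and_card]
  refine ⟨?_, by simp⟩
  rintro (i | i) (j | j) h <;> simp only [htFun, Fin.mk.injEq] at h
  · congr 1; apply Fin.ext; have := i.2; have := j.2; omega
  · omega
  · omega
  · congr 1; apply Fin.ext; omega

/-- the standard skew-adjoint regular nilpotent matrix -/
def N0 (F : Type*) [Field F] (m : ℕ) : Matrix (Fin m ⊕ Fin m) (Fin m ⊕ Fin m) F :=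
  fromBlocks 0 (of fun i j : Fin m => if (i : ℕ) + (j : ℕ) + 2 = m then (1 : F) else 0)
    (of fun i j : Fin m => if (i : ℕ) + (j : ℕ) + 1 = m then (1 : F) else 0) 0

theorem N0_eq : N0 F m = (shiftN (m + m) F).submatrix (htFun m) (htFun m) := by
  ext x y
  rcases x with i | i <;> rcases y with j | j <;>
    simp only [N0, fromBlocks_apply₁₁, fromBlocks_apply₁₂, fromBlocks_apply₂₁, fromBlocks_apply₂₂,
      submatrix_apply, shiftN_apply, htFun, of_apply, Matrix.zero_apply]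
  · have := i.2; have := j.2
    rw [if_neg (by omega)]
  · have := i.2; have := j.2
    exact if_congr (by omega) rfl rfl
  · have := i.2; have := j.2
    exact if_congr (by omega) rfl rfl
  · have := i.2; have := j.2
    rw [if_neg (by omega)]

theorem N0_eq' : N0 F m
    = (Matrix.reindexAlgEquiv F F (Equiv.ofBijective (htFun m) (htFun_bijective m))).symm
        (shiftN (m + m) F) := by
  rw [N0_eq]
  rfl

theorem N0_pow : N0 F m ^ (m + m) = 0 := by
  rw [N0_eq', ← map_pow, shiftN_pow_self, map_zero]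

theorem N0_rank (hm : 1 ≤ m) : (N0 F m).rank = m + m - 1 := by
  rw [N0_eq, ← shiftN_rank' (F := F) (m + m) (by omega)]
  exact Matrix.rank_submatrix (shiftN (m + m) F) (Equiv.ofBijective (htFun m) (htFun_bijective m))
    (Equiv.ofBijective (htFun m) (htFun_bijective m))

theorem sig_N0 : sig (N0 F m) = -N0 F m := by
  have hB : (of fun i j : Fin m => if (i : ℕ) + (j : ℕ) + 2 = m then (1 : F) else 0)ᵀ
      = (of fun i j : Fin m => if (i : ℕ) + (j : ℕ) + 2 = m then (1 : F) else 0) := by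
    ext i j
    simp only [transpose_apply, of_apply]
    exact if_congr (by omega) rfl rfl
  have hC : (of fun i j : Fin m => if (i : ℕ) + (j : ℕ) + 1 = m then (1 : F) else 0)ᵀ
      = (of fun i j : Fin m => if (i : ℕ) + (j : ℕ) + 1 = m then (1 : F) else 0) := by
    ext i j
    simp only [transpose_apply, of_apply]
    exact if_congr (by omega) rfl rfl
  unfold sig N0 J
  rw [fromBlocks_transpose, hB, hC]
  simp [fromBlocks_multiply, fromBlocks_neg]

/-- a regular unipotent symplectic matrix exists -/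
theorem exists_reg_symp [Fintype F] (hq : Odd (Fintype.card F)) (hm : 1 ≤ m) :
    ∃ U : Matrix (Fin m ⊕ Fin m) (Fin m ⊕ Fin m) F,
      sig U * U = 1 ∧ (U - 1) ^ (m + m) = 0 ∧ (U - 1).rank = m + m - 1 := by
  classical
  have h2 := two_ne_zero_of_odd_card hq
  set N := N0 F m with hNdef
  have hNnil : N ^ (m + m) = 0 := N0_pow
  have hNrank : N.rank = m + m - 1 := N0_rank hm
  have hNs : sig N = -N := sig_N0
  have hW : IsUnit (1 - N) := IsNilpotent.isUnit_one_sub ⟨_, hNnil⟩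
  set V := Ring.inverse (1 - N) with hVdef
  have hWV : (1 - N) * V = 1 := Ring.mul_inverse_cancel _ hW
  have hVW : V * (1 - N) = 1 := Ring.inverse_mul_cancel _ hW
  have hsV : sig V * (1 + N) = 1 := by
    have := congrArg sig hWV
    rw [sig_mul, sig_sub, sig_one, hNs, sub_neg_eq_add] at this
    exact this
  have e : (1 + N) * V - 1 = N * (V + V) := by
    calc (1 + N) * V - 1 = (1 + N) * V - (1 - N) * V := by rw [hWV]
      _ = N * (V + V) := by noncomm_ring
  have hNV : Commute N V := by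
    show N * V = V * N
    calc N * V = (V * (1 - N)) * N * V := by rw [hVW, one_mul]
      _ = V * N * ((1 - N) * V) := by noncomm_ring
      _ = V * N := by rw [hWV, mul_one]
  have hVV : IsUnit (V + V) := by
    apply IsUnit.of_mul_eq_one ((2⁻¹ : F) • (1 - N))
    rw [Matrix.mul_smul, add_mul, hVW, ← two_smul F (1 : Matrix (Fin m ⊕ Fin m) (Fin m ⊕ Fin m) F),
      smul_smul, inv_mul_cancel₀ h2, one_smul]
  refine ⟨(1 + N) * V, ?_, ?_, ?_⟩
  · rw [sig_mul, sig_add, sig_one, hNs]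
    calc sig V * (1 + -N) * ((1 + N) * V) = sig V * (1 + N) * ((1 - N) * V) := by noncomm_ring
      _ = 1 := by rw [hsV, hWV, one_mul]
  · rw [e, (hNV.add_right hNV).mul_pow, hNnil, zero_mul]
  · rw [e, Matrix.rank_mul_eq_left_of_isUnit_det (V + V) N
      ((Matrix.isUnit_iff_isUnit_det _).1 hVV)]
    exact hNrank

/-- two regular nilpotent matrices are conjugate -/
theorem exists_conj_of_reg {n : ℕ} (hn : 1 ≤ n) (N N' : Matrix (Fin n) (Fin n) F)
    (h1 : N ^ n = 0) (h2 : N.rank = n - 1) (h1' : N' ^ n = 0) (h2' : N'.rank = n - 1) :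
    ∃ G : Matrix (Fin n) (Fin n) F, IsUnit G ∧ G * N = N' * G := by
  obtain ⟨k, rfl⟩ : ∃ k, n = k + 1 := ⟨n - 1, by omega⟩
  obtain ⟨G₁, hG₁, e₁⟩ := exists_conj_shiftN k N h1 (by simpa using h2)
  obtain ⟨G₂, hG₂, e₂⟩ := exists_conj_shiftN k N' h1' (by simpa using h2')
  obtain ⟨G₁', hl, hr⟩ : ∃ G₁', G₁ * G₁' = 1 ∧ G₁' * G₁ = 1 :=
    ⟨Ring.inverse G₁, Ring.mul_inverse_cancel _ hG₁, Ring.inverse_mul_cancel _ hG₁⟩
  refine ⟨G₂ * G₁', hG₂.mul (IsUnit.of_mul_eq_one _ hr), ?_⟩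
  have e₃ : shiftN (k + 1) F * G₁' = G₁' * N := by
    calc shiftN (k + 1) F * G₁' = (G₁' * G₁) * shiftN (k + 1) F * G₁' := by rw [hr, one_mul]
      _ = G₁' * (G₁ * shiftN (k + 1) F) * G₁' := by noncomm_ring
      _ = G₁' * (N * G₁) * G₁' := by rw [e₁]
      _ = G₁' * N * (G₁ * G₁') := by noncomm_ring
      _ = G₁' * N := by rw [hl, mul_one]
  calc G₂ * G₁' * N = G₂ * (G₁' * N) := by rw [mul_assoc]
    _ = G₂ * (shiftN (k + 1) F * G₁') := by rw [e₃]
    _ = (G₂ * shiftN (k + 1) F) * G₁' := by rw [mul_assoc]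
    _ = N' * G₂ * G₁' := by rw [e₂]
    _ = N' * (G₂ * G₁') := by rw [mul_assoc]

/-- two regular unipotent matrices are conjugate -/
theorem exists_conj_reg (hm : 1 ≤ m) (U V : Matrix (Fin m ⊕ Fin m) (Fin m ⊕ Fin m) F)
    (hU1 : (U - 1) ^ (m + m) = 0) (hU2 : (U - 1).rank = m + m - 1)
    (hV1 : (V - 1) ^ (m + m) = 0) (hV2 : (V - 1).rank = m + m - 1) :
    ∃ g : Matrix (Fin m ⊕ Fin m) (Fin m ⊕ Fin m) F, IsUnit g ∧ g * U = V * g := by
  classical
  set φ := Matrix.reindexAlgEquiv F F (finSumFinEquiv : Fin m ⊕ Fin m ≃ Fin (m + m)) with hφ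
  obtain ⟨G, hG, e⟩ := exists_conj_of_reg (by omega) (φ (U - 1)) (φ (V - 1))
    (by rw [← map_pow, hU1, map_zero])
    (by rw [hφ, Matrix.coe_reindexAlgEquiv, Matrix.rank_reindex]; exact hU2)
    (by rw [← map_pow, hV1, map_zero])
    (by rw [hφ, Matrix.coe_reindexAlgEquiv, Matrix.rank_reindex]; exact hV2)
  refine ⟨φ.symm G, hG.map φ.symm, ?_⟩
  have h : φ.symm G * (U - 1) = (V - 1) * φ.symm G := by
    apply φ.injective
    rw [map_mul, map_mul, AlgEquiv.apply_symm_apply, e]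
  rw [mul_sub, sub_mul, mul_one, one_mul] at h
  exact sub_left_injective h

/-- conjugation preserves regular unipotency -/
theorem reg_of_conj (g U V : Matrix (Fin m ⊕ Fin m) (Fin m ⊕ Fin m) F) (hg : IsUnit g)
    (h : g * U = V * g) (hU1 : (U - 1) ^ (m + m) = 0) (hU2 : (U - 1).rank = m + m - 1) :
    (V - 1) ^ (m + m) = 0 ∧ (V - 1).rank = m + m - 1 := by
  classical
  have h1 : g * (U - 1) = (V - 1) * g := by rw [mul_sub, sub_mul, h, mul_one, one_mul]
  have hpow : ∀ k : ℕ, g * (U - 1) ^ k = (V - 1) ^ k * g := by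
    intro k
    induction k with
    | zero => simp
    | succ k ih => rw [pow_succ, ← mul_assoc, ih, mul_assoc, h1, ← mul_assoc, ← pow_succ]
  have hgdet : IsUnit g.det := (Matrix.isUnit_iff_isUnit_det _).1 hg
  constructor
  · have := hpow (m + m)
    rw [hU1, mul_zero] at this
    exact hg.mul_left_eq_zero.1 this.symm
  · rw [← hU2, ← Matrix.rank_mul_eq_left_of_isUnit_det g (V - 1) hgdet, ← h1,
      Matrix.rank_mul_eq_right_of_isUnit_det g (U - 1) hgdet]

/-- the similitude `diag(d, 1)` -/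
def gd (F : Type*) [Field F] (m : ℕ) (d : F) : Matrix (Fin m ⊕ Fin m) (Fin m ⊕ Fin m) F :=
  fromBlocks (d • 1) 0 0 1

theorem gd_mul (d d' : F) : gd F m d * gd F m d' = gd F m (d * d') := by
  unfold gd
  simp [fromBlocks_multiply, smul_smul, mul_comm]

theorem gd_one : gd F m 1 = 1 := by
  unfold gd
  simp [fromBlocks_one]

theorem sig_gd_mul (d : F) :
    sig (gd F m d) * gd F m d = d • (1 : Matrix (Fin m ⊕ Fin m) (Fin m ⊕ Fin m) F) := by
  unfold sig gd J
  rw [fromBlocks_transpose]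
  simp [fromBlocks_multiply, fromBlocks_neg, fromBlocks_smul, ← fromBlocks_one]

end Exist

section Classes
variable {F : Type*} [Field F] {m : ℕ}

/-- the two classes of regular unipotent symplectic matrices -/
theorem symp_reg_classes [Fintype F] (hq : Odd (Fintype.card F)) (hm : 1 ≤ m)
    (U₀ : Matrix (Fin m ⊕ Fin m) (Fin m ⊕ Fin m) F) (hU₀ : sig U₀ * U₀ = 1)
    (h01 : (U₀ - 1) ^ (m + m) = 0) (h02 : (U₀ - 1).rank = m + m - 1)
    (δ : F) (hδ : ¬ IsSquare δ) :
    (sig (gd F m δ * U₀ * gd F m δ⁻¹) * (gd F m δ * U₀ * gd F m δ⁻¹) = 1 ∧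
      (gd F m δ * U₀ * gd F m δ⁻¹ - 1) ^ (m + m) = 0 ∧
      (gd F m δ * U₀ * gd F m δ⁻¹ - 1).rank = m + m - 1) ∧
    (¬ ∃ h : Matrix (Fin m ⊕ Fin m) (Fin m ⊕ Fin m) F,
      sig h * h = 1 ∧ h * U₀ = (gd F m δ * U₀ * gd F m δ⁻¹) * h) ∧
    (∀ U : Matrix (Fin m ⊕ Fin m) (Fin m ⊕ Fin m) F, sig U * U = 1 →
      (U - 1) ^ (m + m) = 0 → (U - 1).rank = m + m - 1 →
      (∃ h : Matrix (Fin m ⊕ Fin m) (Fin m ⊕ Fin m) F, sig h * h = 1 ∧ h * U₀ = U * h) ∨
      (∃ h : Matrix (Fin m ⊕ Fin m) (Fin m ⊕ Fin m) F,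
        sig h * h = 1 ∧ h * (gd F m δ * U₀ * gd F m δ⁻¹) = U * h)) := by
  classical
  have : Nonempty (Fin m ⊕ Fin m) := ⟨Sum.inl ⟨0, by omega⟩⟩
  have hδ0 : δ ≠ 0 := by
    rintro rfl
    exact hδ ⟨0, by simp⟩
  set g₁ := gd F m δ with hg₁
  set g₁' := gd F m δ⁻¹ with hg₁'
  have hgg' : g₁ * g₁' = 1 := by rw [hg₁, hg₁', gd_mul, mul_inv_cancel₀ hδ0, gd_one]
  have hg'g : g₁' * g₁ = 1 := by rw [hg₁, hg₁', gd_mul, inv_mul_cancel₀ hδ0, gd_one]
  have hA : sig g₁ * g₁ = δ • (1 : Matrix (Fin m ⊕ Fin m) (Fin m ⊕ Fin m) F) := sig_gd_mul δ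
  have hB : sig g₁' * g₁' = δ⁻¹ • (1 : Matrix (Fin m ⊕ Fin m) (Fin m ⊕ Fin m) F) :=
    sig_gd_mul δ⁻¹
  have hU₀' : U₀ * sig U₀ = 1 := mul_eq_one_comm.1 hU₀
  obtain ⟨hsnil, hsreg, hs, hsc⟩ := Cfsg.Agent.S2592.s_props hq hm U₀ hU₀ h01 h02
  obtain ⟨K1, K2, K3, K4⟩ := norm_structure hq hm (U₀ - sig U₀) hsnil hsreg hs
  set U₁ := g₁ * U₀ * g₁' with hU₁def
  have hconj1 : g₁ * U₀ = U₁ * g₁ := by
    rw [hU₁def, mul_assoc, hg'g, mul_one]
  have hg₁u : IsUnit g₁ := IsUnit.of_mul_eq_one _ hgg'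
  have hU₁ : sig U₁ * U₁ = 1 := by
    rw [hU₁def, sig_mul, sig_mul]
    calc sig g₁' * (sig U₀ * sig g₁) * (g₁ * U₀ * g₁')
        = sig g₁' * sig U₀ * (sig g₁ * g₁) * U₀ * g₁' := by simp only [mul_assoc]
      _ = δ • (sig g₁' * (sig U₀ * U₀) * g₁') := by
          rw [hA]; simp only [Matrix.mul_smul, Matrix.smul_mul, mul_one, mul_assoc]
      _ = 1 := by rw [hU₀, mul_one, hB, smul_smul, mul_inv_cancel₀ hδ0, one_smul]
  refine ⟨⟨hU₁, reg_of_conj g₁ U₀ U₁ hg₁u hconj1 h01 h02⟩, ?_, ?_⟩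
  · rintro ⟨h, hh, e⟩
    obtain ⟨z, hz⟩ : ∃ z, z = g₁' * h := ⟨_, rfl⟩
    have hgz : h = g₁ * z := by rw [hz, ← mul_assoc, hgg', one_mul]
    have hzU : U₀ * z = z * U₀ := by
      rw [hz, mul_assoc, e, hU₁def]
      simp only [← mul_assoc, hg'g, one_mul]
    have hzs := (hsc z).2 hzU
    have hn : sig z * z = δ⁻¹ • (1 : Matrix (Fin m ⊕ Fin m) (Fin m ⊕ Fin m) F) := by
      have h1 : sig z * (sig g₁ * g₁) * z = 1 := by
        rw [← hh, hgz, sig_mul]; simp only [mul_assoc]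
      rw [hA] at h1
      have h2 : δ • (sig z * z) = 1 := by
        rw [← h1]; simp only [Matrix.mul_smul, Matrix.smul_mul, mul_one]
      rw [← h2, smul_smul, inv_mul_cancel₀ hδ0, one_smul]
    obtain ⟨c, hc⟩ := K1 z δ⁻¹ hzs hn
    apply hδ
    refine ⟨c⁻¹, ?_⟩
    rw [← mul_inv, ← hc, inv_inv]
  · intro U hU hU1 hU2
    obtain ⟨g, hg, e⟩ := exists_conj_reg hm U₀ U h01 h02 hU1 hU2
    set b := sig g * g with hb
    have hsb : sig b = b := by rw [hb, sig_mul, sig_sig]
    have e' : sig g * U = U₀ * sig g := by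
      have h1 : sig U₀ * sig g = sig g * sig U := by
        rw [← sig_mul, ← sig_mul, e]
      calc sig g * U = (U₀ * sig U₀) * sig g * U := by rw [hU₀', one_mul]
        _ = U₀ * (sig U₀ * sig g) * U := by simp only [mul_assoc]
        _ = U₀ * (sig g * sig U) * U := by rw [h1]
        _ = U₀ * sig g * (sig U * U) := by simp only [mul_assoc]
        _ = U₀ * sig g := by rw [hU, mul_one]
    have hbU : U₀ * b = b * U₀ := by
      rw [hb]
      calc U₀ * (sig g * g) = (U₀ * sig g) * g := by rw [mul_assoc]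
        _ = (sig g * U) * g := by rw [e']
        _ = sig g * (U * g) := by rw [mul_assoc]
        _ = sig g * (g * U₀) := by rw [e]
        _ = sig g * g * U₀ := by rw [mul_assoc]
    have hbs := (hsc b).2 hbU
    obtain ⟨c, hcnil⟩ := K3 b hbs
    have hbu : IsUnit b := by
      obtain ⟨g', hg'1, hg'2⟩ : ∃ g', g * g' = 1 ∧ g' * g = 1 :=
        ⟨Ring.inverse g, Ring.mul_inverse_cancel _ hg, Ring.inverse_mul_cancel _ hg⟩
      have h1 : sig g * sig g' = 1 := by rw [← sig_mul, hg'2, sig_one]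
      exact (IsUnit.of_mul_eq_one _ h1).mul hg
    have hc0 : c ≠ 0 := by
      rintro rfl
      rw [zero_smul, sub_zero] at hcnil
      exact hbu.not_isNilpotent hcnil
    by_cases hsq : IsSquare c
    · left
      obtain ⟨e₀, he₀⟩ := hsq
      have he₀0 : e₀ ≠ 0 := by
        rintro rfl
        exact hc0 (by rw [he₀, mul_zero])
      obtain ⟨z, hzs, hz⟩ := K2 b c e₀⁻¹ hbs hsb hc0 hcnil
      have hone : c * (e₀⁻¹ * e₀⁻¹) = 1 := by
        rw [he₀]; field_simp
      rw [hone, one_smul] at hz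
      have hzU := (hsc z).1 hzs
      have hbz : b * z = z * b := K4 b z hbs hzs
      refine ⟨g * z, ?_, ?_⟩
      · rw [sig_mul]
        calc sig z * sig g * (g * z) = sig z * (b * z) := by rw [hb]; simp only [mul_assoc]
          _ = sig z * z * b := by rw [hbz, mul_assoc]
          _ = 1 := hz
      · rw [mul_assoc, ← hzU, ← mul_assoc, e, mul_assoc]
    · right
      have hsq2 : IsSquare (δ * c) := by
        have h1 : quadraticChar F δ = -1 := quadraticChar_neg_one_iff_not_isSquare.2 hδ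
        have h2 : quadraticChar F c = -1 := quadraticChar_neg_one_iff_not_isSquare.2 hsq
        have h3 : quadraticChar F (δ * c) = 1 := by rw [map_mul, h1, h2]; norm_num
        exact (quadraticChar_one_iff_isSquare (mul_ne_zero hδ0 hc0)).1 h3
      obtain ⟨e₁, he₁⟩ := hsq2
      obtain ⟨z, hzs, hz⟩ := K2 b c (e₁ / c) hbs hsb hc0 hcnil
      have hone : c * (e₁ / c * (e₁ / c)) = δ := by
        rw [div_mul_div_comm, ← he₁]
        field_simp
      rw [hone] at hz
      have hzU := (hsc z).1 hzs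
      have hbz : b * z = z * b := K4 b z hbs hzs
      refine ⟨g * z * g₁', ?_, ?_⟩
      · rw [sig_mul, sig_mul]
        calc sig g₁' * (sig z * sig g) * (g * z * g₁')
            = sig g₁' * (sig z * (b * z)) * g₁' := by rw [hb]; simp only [mul_assoc]
          _ = sig g₁' * (sig z * z * b) * g₁' := by rw [hbz, mul_assoc (sig z)]
          _ = δ • (sig g₁' * g₁') := by
              rw [hz]; simp only [Matrix.mul_smul, Matrix.smul_mul, mul_one]
          _ = 1 := by rw [hB, smul_smul, mul_inv_cancel₀ hδ0, one_smul]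
      · calc g * z * g₁' * U₁ = g * z * (g₁' * g₁) * U₀ * g₁' := by
              rw [hU₁def]; simp only [mul_assoc]
          _ = g * (z * U₀) * g₁' := by rw [hg'g, mul_one]; simp only [mul_assoc]
          _ = g * U₀ * z * g₁' := by rw [← hzU]; simp only [mul_assoc]
          _ = U * (g * z * g₁') := by rw [e]; simp only [mul_assoc]

end Classes

end Cfsg.Agent.Lib.helper48
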