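import Cfsg.Prelude.Def_JordanBlocks
import Cfsg.Agent.Lib.helper48.ConjClass
import Cfsg.Agent.Lib.helper48.SpRegUnip2
import Cfsg.Agent.Lib.helper42.AltRank

set_option autoImplicit false

namespace Cfsg.Agent.Lib.helper48

open Matrix Polynomial

section RankLemmas
variable {F : Type*} [Field F]

/-- rank of a block-diagonal matrix -/
theorem rank_fromBlocks_diag {α β : Type*} [Fintype α] [Fintype β] [DecidableEq α] [DecidableEq β]
    (A : Matrix α α F) (D : Matrix β β F) :
    (Matrix.fromBlocks A 0 0 D).rank = A.rank + D.rank := by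
  classical
  let Φ : (LinearMap.range A.mulVecLin × LinearMap.range D.mulVecLin) →ₗ[F] (α ⊕ β → F) :=
    { toFun := fun x => Sum.elim x.1.1 x.2.1
      map_add' := by
        intro x y
        funext i
        rcases i with i | i <;> rfl
      map_smul' := by
        intro c x
        funext i
        rcases i with i | i <;> rfl }
  have hinj : Function.Injective Φ := by
    intro x y h
    have h1 : (x.1 : α → F) = y.1 := by funext i; exact congrFun h (Sum.inl i)
    have h2 : (x.2 : β → F) = y.2 := by funext i; exact congrFun h (Sum.inr i)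
    exact Prod.ext (Subtype.ext h1) (Subtype.ext h2)
  have hrange : LinearMap.range Φ = LinearMap.range (Matrix.fromBlocks A 0 0 D).mulVecLin := by
    ext w
    constructor
    · rintro ⟨⟨⟨u, a, rfl⟩, ⟨w', b, rfl⟩⟩, rfl⟩
      refine ⟨Sum.elim a b, ?_⟩
      show (Matrix.fromBlocks A 0 0 D) *ᵥ (Sum.elim a b) = Sum.elim (A *ᵥ a) (D *ᵥ b)
      rw [Matrix.fromBlocks_mulVec]
      simp
    · rintro ⟨v, rfl⟩
      refine ⟨(⟨A *ᵥ (v ∘ Sum.inl), _, rfl⟩, ⟨D *ᵥ (v ∘ Sum.inr), _, rfl⟩), ?_⟩
      show Sum.elim (A *ᵥ (v ∘ Sum.inl)) (D *ᵥ (v ∘ Sum.inr)) = (Matrix.fromBlocks A 0 0 D) *ᵥ v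
      conv_rhs => rw [← Sum.elim_comp_inl_inr v]
      rw [Matrix.fromBlocks_mulVec]
      simp
  unfold Matrix.rank
  rw [← hrange, LinearMap.finrank_range_of_inj hinj, Module.finrank_prod]

/-- rank of a partial permutation matrix -/
theorem rank_partial_perm {κ σ : Type*} [Fintype κ] [DecidableEq κ] [Fintype σ] [DecidableEq σ]
    (M : Matrix κ κ F) (c r : σ → κ) (hc : Function.Injective c) (hr : Function.Injective r)
    (hM : ∀ x y, M x y = if ∃ s, y = c s ∧ x = r s then 1 else 0) : M.rank = Fintype.card σ := by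
  classical
  apply le_antisymm
  · have h1 : M = (M.submatrix id c) * (Matrix.of fun (s : σ) (y : κ) => if y = c s then (1 : F) else 0) := by
      ext x y
      rw [Matrix.mul_apply]
      simp only [Matrix.submatrix_apply, id, Matrix.of_apply, mul_ite, mul_one, mul_zero]
      by_cases hy : ∃ s, y = c s
      · obtain ⟨s, rfl⟩ := hy
        rw [Finset.sum_eq_single s]
        · simp
        · intro s' _ hs'
          rw [if_neg]
          intro h
          exact hs' (hc h).symm
        · intro h; exact absurd (Finset.mem_univ _) h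
      · rw [Finset.sum_eq_zero, hM, if_neg]
        · rintro ⟨s, h1, -⟩
          exact hy ⟨s, h1⟩
        · intro s _
          rw [if_neg]
          intro h
          exact hy ⟨s, h⟩
    rw [h1]
    refine (Matrix.rank_mul_le_left _ _).trans ?_
    exact Matrix.rank_le_card_width _
  · have h2 : (Matrix.of fun (s : σ) (x : κ) => if x = r s then (1 : F) else 0) * M
        * (Matrix.of fun (y : κ) (s : σ) => if y = c s then (1 : F) else 0) = 1 := by
      ext s s'
      rw [Matrix.mul_apply]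
      simp only [Matrix.mul_apply, Matrix.of_apply, ite_mul, one_mul, zero_mul, mul_ite, mul_one,
        mul_zero]
      rw [Finset.sum_eq_single (c s')]
      · rw [if_pos rfl, Finset.sum_eq_single (r s)]
        · rw [if_pos rfl, hM, Matrix.one_apply]
          by_cases hss : s = s'
          · subst hss
            rw [if_pos ⟨s, rfl, rfl⟩, if_pos rfl]
          · rw [if_neg, if_neg hss]
            rintro ⟨t, h1, h2⟩
            exact hss ((hr h2).trans (hc h1).symm)
        · intro x _ hx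
          rw [if_neg hx]
        · intro h; exact absurd (Finset.mem_univ _) h
      · intro y _ hy
        rw [if_neg hy]
      · intro h; exact absurd (Finset.mem_univ _) h
    have h3 : (1 : Matrix σ σ F).rank = Fintype.card σ := Matrix.rank_one
    rw [← h3, ← h2]
    exact (Matrix.rank_mul_le_left _ _).trans (Matrix.rank_mul_le_right _ _)

end RankLemmas


section Profile
variable {F : Type*} [Field F]

theorem jordanBlock_sub_one (n : ℕ) : Cfsg.jordanBlock n F - 1 = shiftN n F := by
  ext i j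
  simp only [Cfsg.jordanBlock, Matrix.sub_apply, Matrix.of_apply, Matrix.one_apply, shiftN_apply]
  by_cases h : i = j
  · subst h; simp
  · have : (i : ℕ) ≠ j := fun h' => h (Fin.ext h')
    simp [h, this]

theorem sum_ite_fin (n k : ℕ) : (∑ j : Fin n, if (j : ℕ) + k < n then 1 else 0) = n - k := by
  classical
  rw [← Finset.card_filter, ← Fintype.card_subtype]
  have e : {y : Fin n // (y : ℕ) + k < n} ≃ Fin (n - k) :=
    { toFun := fun s => ⟨(s.1 : ℕ), by have := s.2; omega⟩
      invFun := fun j => ⟨⟨(j : ℕ), by have := j.2; omega⟩, by have := j.2; show (j : ℕ) + k < n; omega⟩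
      left_inv := fun s => rfl
      right_inv := fun j => rfl }
  rw [Fintype.card_congr e, Fintype.card_fin]

/-- rank of a power of the shift -/
theorem rank_shiftN_pow (n k : ℕ) : (shiftN n F ^ k).rank = n - k := by
  classical
  have h := rank_partial_perm (F := F) (shiftN n F ^ k)
    (fun s : {y : Fin n // (y : ℕ) + k < n} => s.1)
    (fun s => ⟨(s.1 : ℕ) + k, s.2⟩) Subtype.val_injective
    (by
      intro s t h
      apply Subtype.ext
      apply Fin.ext
      have := congrArg Fin.val h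
      simp only at this
      omega)
    (by
      intro x y
      rw [shiftN_pow_apply]
      by_cases h : (x : ℕ) = (y : ℕ) + k
      · rw [if_pos h, if_pos]
        exact ⟨⟨y, by have := x.2; omega⟩, rfl, Fin.ext h⟩
      · rw [if_neg h, if_neg]
        rintro ⟨s, rfl, rfl⟩
        exact h rfl)
  rw [h, Fintype.card_subtype, Finset.card_filter]
  exact sum_ite_fin n k

theorem jordanType_sub_one_pow {t : ℕ} (d : Fin t → ℕ) (k : ℕ) :
    (Cfsg.jordanTypeMatrix d F - 1) ^ k = Matrix.blockDiagonal' (fun b => shiftN (d b) F ^ k) := by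
  unfold Cfsg.jordanTypeMatrix
  rw [← Matrix.blockDiagonal'_one, ← Matrix.blockDiagonal'_sub, ← Matrix.blockDiagonal'_pow]
  congr 1
  funext b
  rw [Pi.pow_apply, Pi.sub_apply, Pi.one_apply, jordanBlock_sub_one]

/-- the rank profile of the Jordan type matrix -/
theorem rank_jordanType_sub_one_pow {t : ℕ} (d : Fin t → ℕ) (k : ℕ) :
    ((Cfsg.jordanTypeMatrix d F - 1) ^ k).rank = ∑ b, (d b - k) := by
  classical
  rw [jordanType_sub_one_pow]
  have hinj : Function.Injective
      (fun s : {y : (b : Fin t) × Fin (d b) // (y.2 : ℕ) + k < d y.1} =>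
        (⟨s.1.1, ⟨(s.1.2 : ℕ) + k, s.2⟩⟩ : (b : Fin t) × Fin (d b))) := by
    rintro ⟨⟨b, i⟩, hi⟩ ⟨⟨b', i'⟩, hi'⟩ h
    simp only [Sigma.mk.injEq] at h
    obtain ⟨rfl, h2⟩ := h
    have h3 := congrArg Fin.val (eq_of_heq h2)
    simp only at h3
    have : i = i' := Fin.ext (by omega)
    subst this
    rfl
  have hM : ∀ x y : (b : Fin t) × Fin (d b),
      Matrix.blockDiagonal' (fun b => shiftN (d b) F ^ k) x y
        = if ∃ s : {y : (b : Fin t) × Fin (d b) // (y.2 : ℕ) + k < d y.1},
            y = s.1 ∧ x = ⟨s.1.1, ⟨(s.1.2 : ℕ) + k, s.2⟩⟩ then 1 else 0 := by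
    rintro ⟨b, i⟩ ⟨b', j⟩
    by_cases hb : b = b'
    · subst hb
      rw [Matrix.blockDiagonal'_apply_eq, shiftN_pow_apply]
      by_cases h : (i : ℕ) = (j : ℕ) + k
      · rw [if_pos h, if_pos]
        have hj : (j : ℕ) + k < d b := by have := i.2; omega
        refine ⟨⟨⟨b, j⟩, hj⟩, rfl, ?_⟩
        simp only [Sigma.mk.injEq, heq_eq_eq, true_and]
        exact Fin.ext h
      · rw [if_neg h, if_neg]
        rintro ⟨⟨⟨b₂, j₂⟩, hs⟩, h1, h2⟩
        simp only [Sigma.mk.injEq] at h1 h2
        obtain ⟨rfl, h1'⟩ := h1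
        obtain ⟨-, h2'⟩ := h2
        have e1 := eq_of_heq h1'
        have e2 := eq_of_heq h2'
        subst e1
        apply h
        rw [e2]
    · rw [Matrix.blockDiagonal'_apply_ne _ _ _ hb, if_neg]
      rintro ⟨⟨⟨b₂, j₂⟩, hs⟩, h1, h2⟩
      simp only [Sigma.mk.injEq] at h1 h2
      exact hb (h2.1.trans h1.1.symm)
  have h := rank_partial_perm (F := F) (Matrix.blockDiagonal' (fun b => shiftN (d b) F ^ k))
    (fun s : {y : (b : Fin t) × Fin (d b) // (y.2 : ℕ) + k < d y.1} => s.1)
    (fun s => ⟨s.1.1, ⟨(s.1.2 : ℕ) + k, s.2⟩⟩) Subtype.val_injective hinj hM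
  rw [h, Fintype.card_subtype, Finset.card_filter, Fintype.sum_sigma]
  exact Finset.sum_congr rfl (fun b _ => sum_ite_fin (d b) k)

variable {κ : Type*} [Fintype κ] [DecidableEq κ]

theorem exists_conj_of_profile (A B : Matrix κ κ F) (N : ℕ)
    (hA : (A - 1) ^ N = 0) (hB : (B - 1) ^ N = 0)
    (h : ∀ k, ((A - 1) ^ k).rank = ((B - 1) ^ k).rank) :
    ∃ P : Matrix κ κ F, IsUnit P ∧ P * A = B * P := by
  have hev : ∀ (M : Matrix κ κ F) (k : ℕ), aeval M ((X - C (1 : F)) ^ k) = (M - 1) ^ k := by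
    intro M k
    rw [map_pow, map_sub, aeval_X, aeval_C, map_one]
  apply exists_conj_matrix_of_annihilated A B ((X - C 1) ^ N) (by rw [hev, hA]) (by rw [hev, hB])
  intro p hp hpm hpd k
  have h1 : p ∣ X - C 1 := hp.prime.dvd_of_dvd_pow hpd
  have h2 : p = X - C 1 := eq_of_monic_of_associated hpm (monic_X_sub_C 1)
    (hp.associated_of_dvd (irreducible_X_sub_C 1) h1)
  rw [h2, hev, hev, h]

theorem isConj_of_conj (A B P : Matrix κ κ F) (hP : IsUnit P) (h : P * A = B * P) : IsConj A B :=
  ⟨hP.unit, by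
    rw [SemiconjBy, hP.unit_spec]
    exact h⟩

theorem rank_pow_eq_of_conj (A B P : Matrix κ κ F) (hP : IsUnit P) (h : P * A = B * P) (k : ℕ) :
    ((A - 1) ^ k).rank = ((B - 1) ^ k).rank := by
  have h1 : P * (A - 1) = (B - 1) * P := by rw [mul_sub, sub_mul, h, mul_one, one_mul]
  have hpow : ∀ k : ℕ, P * (A - 1) ^ k = (B - 1) ^ k * P := by
    intro k
    induction k with
    | zero => simp
    | succ k ih => rw [pow_succ, ← mul_assoc, ih, mul_assoc, h1, ← mul_assoc, ← pow_succ]
  have hdet : IsUnit P.det := (Matrix.isUnit_iff_isUnit_det _).1 hP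
  rw [← Matrix.rank_mul_eq_right_of_isUnit_det P ((A - 1) ^ k) hdet, hpow,
    Matrix.rank_mul_eq_left_of_isUnit_det P _ hdet]

theorem rank_pow_eq_of_isConj (A B : Matrix κ κ F) (h : IsConj A B) (k : ℕ) :
    ((A - 1) ^ k).rank = ((B - 1) ^ k).rank := by
  obtain ⟨c, hc⟩ := h
  exact rank_pow_eq_of_conj A B ↑c c.isUnit hc.eq k

theorem rank_reindex_sub_one_pow {κ' : Type*} [Fintype κ'] [DecidableEq κ'] (e : κ ≃ κ')
    (M : Matrix κ κ F) (k : ℕ) :
    ((Matrix.reindex e e M - 1) ^ k).rank = ((M - 1) ^ k).rank := by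
  have h : (Matrix.reindex e e M - 1) ^ k = Matrix.reindexAlgEquiv F F e ((M - 1) ^ k) := by
    rw [map_pow, map_sub, map_one, Matrix.coe_reindexAlgEquiv]
  rw [h, Matrix.coe_reindexAlgEquiv, Matrix.rank_reindex]

theorem card_filter_profile {t : ℕ} (d : Fin t → ℕ) (j : ℕ) (hj : 1 ≤ j) :
    (Finset.univ.filter (fun b => d b = j)).card + 2 * ∑ b, (d b - j)
      = ∑ b, (d b - (j - 1)) + ∑ b, (d b - (j + 1)) := by
  rw [Finset.card_filter, Finset.mul_sum, ← Finset.sum_add_distrib, ← Finset.sum_add_distrib]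
  refine Finset.sum_congr rfl (fun b _ => ?_)
  split_ifs <;> omega

end Profile


section Parity
variable {F : Type*} [Field F] {κ : Type*} [Fintype κ] [DecidableEq κ]

theorem isUnit_det_of_preserve (Ω A : Matrix κ κ F) (hΩ : IsUnit Ω.det)
    (hA : Aᵀ * Ω * A = Ω) : IsUnit A.det := by
  have h := congrArg Matrix.det hA
  rw [Matrix.det_mul, Matrix.det_mul, Matrix.det_transpose] at h
  have hΩ0 : Ω.det ≠ 0 := hΩ.ne_zero
  have h1 : A.det * A.det = 1 := by
    have h' : (A.det * A.det) * Ω.det = 1 * Ω.det := by linear_combination h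
    exact mul_right_cancel₀ hΩ0 h'
  exact IsUnit.of_mul_eq_one _ h1

theorem commute_sub_one (A : Matrix κ κ F) : Commute (A - 1) A :=
  (Commute.refl A).sub_left (Commute.one_left A)

theorem form_pow_relation (Ω A : Matrix κ κ F) (hA : Aᵀ * Ω * A = Ω) (l : ℕ) :
    ((A - 1)ᵀ) ^ l * Ω * A ^ l = (-1 : F) ^ l • (Ω * (A - 1) ^ l) := by
  have hNA : Commute (A - 1) A := commute_sub_one A
  have h1 : (A - 1)ᵀ * Ω * A = -(Ω * (A - 1)) := by
    rw [Matrix.transpose_sub, Matrix.transpose_one, sub_mul, sub_mul, hA, one_mul, mul_sub,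
      mul_one]
    abel
  induction l with
  | zero => simp
  | succ l ih =>
    calc (A - 1)ᵀ ^ (l + 1) * Ω * A ^ (l + 1)
        = (A - 1)ᵀ * ((A - 1)ᵀ ^ l * Ω * A ^ l) * A := by
          rw [pow_succ', pow_succ]; simp only [mul_assoc]
      _ = (A - 1)ᵀ * ((-1 : F) ^ l • (Ω * (A - 1) ^ l)) * A := by rw [ih]
      _ = (-1 : F) ^ l • ((A - 1)ᵀ * Ω * ((A - 1) ^ l * A)) := by
          rw [Matrix.mul_smul, Matrix.smul_mul]; simp only [mul_assoc]
      _ = (-1 : F) ^ l • ((A - 1)ᵀ * Ω * A * (A - 1) ^ l) := by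
          rw [(hNA.pow_left l).eq]; simp only [mul_assoc]
      _ = (-1 : F) ^ l • (-(Ω * (A - 1)) * (A - 1) ^ l) := by rw [h1]
      _ = (-1 : F) ^ (l + 1) • (Ω * (A - 1) ^ (l + 1)) := by
          rw [pow_succ (-1 : F), pow_succ' (A - 1), neg_mul, mul_assoc, smul_neg, mul_neg_one,
            neg_smul]

/-- an isometry of a nondegenerate alternating form: even powers of `A - 1` have even rank -/
theorem even_rank_pow_of_alt (Ω A : Matrix κ κ F) (hΩ : IsUnit Ω.det)
    (halt : ∀ v : κ → F, v ⬝ᵥ Ω *ᵥ v = 0) (hA : Aᵀ * Ω * A = Ω) (l : ℕ) :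
    Even (((A - 1) ^ (2 * l)).rank) := by
  have hAdet := isUnit_det_of_preserve Ω A hΩ hA
  have hNA : Commute (A - 1) A := commute_sub_one A
  set Θ := ((A - 1) ^ l)ᵀ * Ω * (A - 1) ^ l with hΘ
  have hΘalt : ∀ v : κ → F, v ⬝ᵥ Θ *ᵥ v = 0 := by
    intro v
    have := halt ((A - 1) ^ l *ᵥ v)
    rw [hΘ, ← Matrix.mulVec_mulVec, ← Matrix.mulVec_mulVec, Matrix.dotProduct_mulVec,
      Matrix.vecMul_transpose]
    exact this
  have hev := Cfsg.Agent.Lib.helper42.even_rank_of_alt Θ hΘalt
  have hrel : Θ * A ^ l = (-1 : F) ^ l • (Ω * (A - 1) ^ (2 * l)) := by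
    have := form_pow_relation Ω A hA l
    calc Θ * A ^ l = ((A - 1)ᵀ) ^ l * Ω * ((A - 1) ^ l * A ^ l) := by
          rw [hΘ, Matrix.transpose_pow]; simp only [mul_assoc]
      _ = ((A - 1)ᵀ) ^ l * Ω * A ^ l * (A - 1) ^ l := by
          rw [((hNA.pow_left l).pow_right l).eq]; simp only [mul_assoc]
      _ = (-1 : F) ^ l • (Ω * (A - 1) ^ (2 * l)) := by
          rw [this, Matrix.smul_mul, mul_assoc, ← pow_add, two_mul]
  have hr : Θ.rank = ((A - 1) ^ (2 * l)).rank := by
    rw [← Matrix.rank_mul_eq_left_of_isUnit_det (A ^ l) Θ (by rw [Matrix.det_pow]; exact hAdet.pow l),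
      hrel, rank_smul_of_ne_zero _ (pow_ne_zero _ (neg_ne_zero.2 one_ne_zero)),
      Matrix.rank_mul_eq_right_of_isUnit_det Ω _ hΩ]
  rw [← hr]
  exact hev

/-- a unipotent isometry of a nondegenerate symmetric form in odd characteristic: odd powers of
`A - 1` have even rank -/
theorem even_rank_pow_of_symm (h2 : (2 : F) ≠ 0) (Ω A : Matrix κ κ F) (hΩ : IsUnit Ω.det)
    (hsym : Ωᵀ = Ω) (hA : Aᵀ * Ω * A = Ω) (hnil : IsNilpotent (A - 1)) (l : ℕ) :
    Even (((A - 1) ^ (2 * l + 1)).rank) := by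
  have hAdet := isUnit_det_of_preserve Ω A hΩ hA
  have hNA : Commute (A - 1) A := commute_sub_one A
  set Ψ := ((A - 1) ^ (l + 1))ᵀ * Ω * (A - 1) ^ l with hΨ
  set Θ := Ψ - Ψᵀ with hΘ
  have hΘt : Θᵀ = -Θ := by
    rw [hΘ, Matrix.transpose_sub, Matrix.transpose_transpose]; abel
  have hΘalt : ∀ v : κ → F, v ⬝ᵥ Θ *ᵥ v = 0 := by
    intro v
    have h1 : v ⬝ᵥ Θ *ᵥ v = - (v ⬝ᵥ Θ *ᵥ v) := by
      calc v ⬝ᵥ Θ *ᵥ v = (v ᵥ* Θ) ⬝ᵥ v := Matrix.dotProduct_mulVec _ _ _
        _ = (Θᵀ *ᵥ v) ⬝ᵥ v := by rw [Matrix.mulVec_transpose]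
        _ = v ⬝ᵥ (Θᵀ *ᵥ v) := dotProduct_comm _ _
        _ = -(v ⬝ᵥ Θ *ᵥ v) := by rw [hΘt, Matrix.neg_mulVec, dotProduct_neg]
    have h3 : (2 : F) * (v ⬝ᵥ Θ *ᵥ v) = 0 := by linear_combination h1
    exact (mul_eq_zero.1 h3).resolve_left h2
  have hev := Cfsg.Agent.Lib.helper42.even_rank_of_alt Θ hΘalt
  have hΨt : Ψᵀ = ((A - 1)ᵀ) ^ l * Ω * (A - 1) ^ (l + 1) := by
    rw [hΨ, Matrix.transpose_mul, Matrix.transpose_mul, Matrix.transpose_transpose, hsym,
      Matrix.transpose_pow, mul_assoc]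
  have hrel : Θ * A ^ (l + 1)
      = (-1 : F) ^ (l + 1) • (Ω * ((A - 1) ^ (2 * l + 1) * (1 + A))) := by
    have r1 := form_pow_relation Ω A hA (l + 1)
    have r2 := form_pow_relation Ω A hA l
    have e1 : (A - 1) ^ (l + 1) * (A - 1) ^ l = (A - 1) ^ (2 * l + 1) := by
      rw [← pow_add]; congr 1; omega
    have e2 : (A - 1) ^ l * (A - 1) ^ (l + 1) = (A - 1) ^ (2 * l + 1) := by
      rw [← pow_add]; congr 1; omega
    have s1 : Ψ * A ^ (l + 1) = ((A - 1)ᵀ) ^ (l + 1) * Ω * A ^ (l + 1) * (A - 1) ^ l := by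
      rw [hΨ, Matrix.transpose_pow, mul_assoc, ((hNA.pow_left l).pow_right (l + 1)).eq]
      simp only [mul_assoc]
    have s2 : Ψᵀ * A ^ (l + 1) = ((A - 1)ᵀ) ^ l * Ω * A ^ l * ((A - 1) ^ (l + 1) * A) := by
      rw [hΨt, pow_succ A l, mul_assoc, ← mul_assoc ((A - 1) ^ (l + 1)),
        ((hNA.pow_left (l + 1)).pow_right l).eq]
      simp only [mul_assoc]
    rw [hΘ, sub_mul, s1, s2, r1, r2, Matrix.smul_mul, Matrix.smul_mul, mul_assoc, mul_assoc, e1,
      ← mul_assoc ((A - 1) ^ l), e2, mul_add, mul_one, mul_add, smul_add, pow_succ (-1 : F) l,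
      mul_neg_one, neg_smul, neg_smul, sub_eq_add_neg]
  have hunit : IsUnit (1 + A) := by
    have e : (1 : Matrix κ κ F) + A = (A - 1) + algebraMap F (Matrix κ κ F) 2 := by
      rw [map_ofNat]
      have : (2 : Matrix κ κ F) = 1 + 1 := by norm_num
      rw [this]; abel
    rw [e]
    apply hnil.isUnit_add_right_of_commute
    · exact (IsUnit.mk0 _ h2).map (algebraMap F (Matrix κ κ F))
    · exact Algebra.commute_algebraMap_right _ _
  have hr : Θ.rank = ((A - 1) ^ (2 * l + 1)).rank := by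
    rw [← Matrix.rank_mul_eq_left_of_isUnit_det (A ^ (l + 1)) Θ
        (by rw [Matrix.det_pow]; exact hAdet.pow _),
      hrel, rank_smul_of_ne_zero _ (pow_ne_zero _ (neg_ne_zero.2 one_ne_zero)),
      Matrix.rank_mul_eq_right_of_isUnit_det Ω _ hΩ,
      Matrix.rank_mul_eq_left_of_isUnit_det (1 + A) _ ((Matrix.isUnit_iff_isUnit_det _).1 hunit)]
  rw [← hr]
  exact hev

end Parity


section Real
variable (F : Type*) [Field F]

/-- `FormReal F alt p`: there is a nondegenerate alternating (`alt = true`) or symmetric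
(`alt = false`) form with an isometry `A` whose rank profile `k ↦ rank (A - 1)^k` is `p`. -/
def FormReal (alt : Bool) (p : ℕ → ℕ) : Prop :=
  ∃ (κ : Type) (_ : Fintype κ) (_ : DecidableEq κ) (Ω A : Matrix κ κ F),
    IsUnit Ω.det ∧ (alt = true → ∀ v : κ → F, v ⬝ᵥ Ω *ᵥ v = 0) ∧ (alt = false → Ωᵀ = Ω) ∧
      Aᵀ * Ω * A = Ω ∧ ∀ k, ((A - 1) ^ k).rank = p k

variable {F}

theorem FormReal.zero (alt : Bool) : FormReal F alt (fun _ => 0) := by
  refine ⟨Empty, inferInstance, inferInstance, 0, 0, ?_, ?_, ?_, ?_, ?_⟩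
  · rw [Matrix.det_isEmpty]; exact isUnit_one
  · intro _ v; simp
  · intro _; ext i; exact i.elim
  · ext i; exact i.elim
  · intro k
    have := Matrix.rank_le_card_width ((0 - 1 : Matrix Empty Empty F) ^ k)
    simpa using this

theorem fromBlocks_diag_pow {α β : Type*} [Fintype α] [Fintype β] [DecidableEq α] [DecidableEq β]
    (A : Matrix α α F) (D : Matrix β β F) (k : ℕ) :
    (Matrix.fromBlocks A 0 0 D) ^ k = Matrix.fromBlocks (A ^ k) 0 0 (D ^ k) := by
  induction k with
  | zero => rw [pow_zero, pow_zero, pow_zero, Matrix.fromBlocks_one]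
  | succ k ih =>
    rw [pow_succ, ih, Matrix.fromBlocks_multiply, pow_succ, pow_succ]
    simp

theorem fromBlocks_diag_sub_one {α β : Type*} [Fintype α] [Fintype β] [DecidableEq α]
    [DecidableEq β] (A : Matrix α α F) (D : Matrix β β F) :
    Matrix.fromBlocks A 0 0 D - 1 = Matrix.fromBlocks (A - 1) 0 0 (D - 1) := by
  ext (i | i) (j | j) <;> simp [Matrix.one_apply]

theorem FormReal.add {alt : Bool} {p p' : ℕ → ℕ} (h : FormReal F alt p) (h' : FormReal F alt p') :
    FormReal F alt (fun k => p k + p' k) := by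
  obtain ⟨κ, _, _, Ω, A, h1, h2, h3, h4, h5⟩ := h
  obtain ⟨κ', _, _, Ω', A', h1', h2', h3', h4', h5'⟩ := h'
  refine ⟨κ ⊕ κ', inferInstance, inferInstance, Matrix.fromBlocks Ω 0 0 Ω',
    Matrix.fromBlocks A 0 0 A', ?_, ?_, ?_, ?_, ?_⟩
  · rw [Matrix.det_fromBlocks_zero₂₁]; exact h1.mul h1'
  · intro ha v
    have hv : v = Sum.elim (v ∘ Sum.inl) (v ∘ Sum.inr) := (Sum.elim_comp_inl_inr v).symm
    rw [Matrix.fromBlocks_mulVec]
    simp only [Matrix.zero_mulVec, add_zero, zero_add]
    nth_rewrite 1 [hv]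
    rw [sumElim_dotProduct_sumElim, h2 ha, h2' ha, add_zero]
  · intro ha
    rw [Matrix.fromBlocks_transpose, h3 ha, h3' ha]; simp
  · rw [Matrix.fromBlocks_transpose, Matrix.fromBlocks_multiply, Matrix.fromBlocks_multiply]
    simp [h4, h4']
  · intro k
    rw [fromBlocks_diag_sub_one, fromBlocks_diag_pow, rank_fromBlocks_diag, h5, h5']

theorem FormReal.sum {alt : Bool} {ι : Type*} (s : Finset ι) (p : ι → ℕ → ℕ)
    (h : ∀ i ∈ s, FormReal F alt (p i)) : FormReal F alt (fun k => ∑ i ∈ s, p i k) := by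
  classical
  induction s using Finset.induction_on with
  | empty => simpa using FormReal.zero (F := F) alt
  | insert a s ha ih =>
    have h1 := FormReal.add (h a (Finset.mem_insert_self a s))
      (ih (fun i hi => h i (Finset.mem_insert_of_mem hi)))
    have e : (fun k => ∑ i ∈ insert a s, p i k) = fun k => p a k + ∑ i ∈ s, p i k := by
      funext k; rw [Finset.sum_insert ha]
    rw [e]; exact h1

theorem FormReal.nsmul {alt : Bool} {p : ℕ → ℕ} (h : FormReal F alt p) (c : ℕ) :
    FormReal F alt (fun k => c * p k) := by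
  have h1 := FormReal.sum (F := F) (alt := alt) (Finset.range c) (fun _ => p) (fun _ _ => h)
  have e : (fun k => ∑ _i ∈ Finset.range c, p k) = fun k => c * p k := by
    funext k; rw [Finset.sum_const, Finset.card_range, smul_eq_mul]
  rw [e] at h1; exact h1

/-- the hyperbolic double of an invertible matrix -/
theorem FormReal.double (alt : Bool) {ι : Type} [Fintype ι] [DecidableEq ι] (g : Matrix ι ι F)
    (hg : IsUnit g.det) : FormReal F alt (fun k => 2 * ((g - 1) ^ k).rank) := by
  obtain ⟨s, hs2, hst, hsf⟩ : ∃ s : F, s * s = 1 ∧ (alt = true → s = -1) ∧ (alt = false → s = 1) := by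
    cases alt
    · exact ⟨1, by simp, by simp, by simp⟩
    · exact ⟨-1, by simp, by simp, by simp⟩
  refine ⟨ι ⊕ ι, inferInstance, inferInstance, Matrix.fromBlocks 0 1 (s • 1) 0,
    Matrix.fromBlocks g 0 0 (g⁻¹)ᵀ, ?_, ?_, ?_, ?_, ?_⟩
  · have : Matrix.fromBlocks (0 : Matrix ι ι F) (1 : Matrix ι ι F) (s • (1 : Matrix ι ι F))
        (0 : Matrix ι ι F) * Matrix.fromBlocks (0 : Matrix ι ι F) (s • (1 : Matrix ι ι F))
        (1 : Matrix ι ι F) (0 : Matrix ι ι F) = 1 := by
      rw [Matrix.fromBlocks_multiply, ← Matrix.fromBlocks_one]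
      simp [smul_smul, hs2]
    exact (Matrix.isUnit_iff_isUnit_det _).1 (IsUnit.of_mul_eq_one _ this)
  · intro ha v
    have hv : v = Sum.elim (v ∘ Sum.inl) (v ∘ Sum.inr) := (Sum.elim_comp_inl_inr v).symm
    rw [Matrix.fromBlocks_mulVec]
    nth_rewrite 1 [hv]
    rw [sumElim_dotProduct_sumElim, hst ha]
    simp only [Matrix.zero_mulVec, zero_add, add_zero, neg_smul, one_smul, Matrix.neg_mulVec,
      Matrix.one_mulVec, dotProduct_neg]
    rw [dotProduct_comm (v ∘ Sum.inr)]
    exact add_neg_cancel _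
  · intro ha
    rw [Matrix.fromBlocks_transpose, hsf ha]; simp
  · rw [Matrix.fromBlocks_transpose, Matrix.fromBlocks_multiply, Matrix.fromBlocks_multiply]
    simp [Matrix.nonsing_inv_mul _ hg, Matrix.transpose_nonsing_inv,
      Matrix.mul_nonsing_inv _ ((Matrix.det_transpose g).symm ▸ hg)]
  · intro k
    rw [fromBlocks_diag_sub_one, fromBlocks_diag_pow, rank_fromBlocks_diag]
    have e2 : (((g⁻¹)ᵀ - 1) ^ k).rank = ((g - 1) ^ k).rank := by
      have e3 : (g⁻¹)ᵀ - 1 = (g⁻¹ - 1)ᵀ := by rw [Matrix.transpose_sub, Matrix.transpose_one]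
      rw [e3, ← Matrix.transpose_pow, Matrix.rank_transpose]
      have e4 : g⁻¹ - 1 = g⁻¹ * ((-1 : F) • (g - 1)) := by
        rw [Matrix.mul_smul, mul_sub, Matrix.nonsing_inv_mul _ hg, mul_one, neg_one_smul, neg_sub]
      have hc : Commute g⁻¹ ((-1 : F) • (g - 1)) := by
        apply Commute.smul_right
        apply Commute.sub_right _ (Commute.one_right _)
        show g⁻¹ * g = g * g⁻¹
        rw [Matrix.nonsing_inv_mul _ hg, Matrix.mul_nonsing_inv _ hg]
      rw [e4, hc.mul_pow, Matrix.rank_mul_eq_right_of_isUnit_det _ _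
        (by rw [Matrix.det_pow]; exact (Matrix.isUnit_nonsing_inv_det _ hg).pow k), _root_.smul_pow,
        rank_smul_of_ne_zero _ (pow_ne_zero _ (neg_ne_zero.2 one_ne_zero))]
    show _ + _ = 2 * _
    rw [e2, two_mul]

end Real


section Regular
variable {F : Type*} [Field F]

/-- the rank profile of a regular nilpotent matrix -/
theorem rank_pow_of_regular {κ : Type*} [Fintype κ] [DecidableEq κ] (N : Matrix κ κ F) (n : ℕ)
    (hn : 1 ≤ n) (hcard : Fintype.card κ = n) (h1 : N ^ n = 0) (h2 : N.rank = n - 1) (k : ℕ) :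
    (N ^ k).rank = n - k := by
  classical
  let e : κ ≃ Fin n := Fintype.equivFinOfCardEq hcard
  set φ := Matrix.reindexAlgEquiv F F e with hφ
  obtain ⟨G, hG, hGe⟩ := exists_conj_of_reg hn (φ N) (shiftN n F)
    (by rw [← map_pow, h1, map_zero])
    (by rw [hφ, Matrix.coe_reindexAlgEquiv, Matrix.rank_reindex]; exact h2)
    (shiftN_pow_self n F) (shiftN_rank' n hn)
  have h3 := rank_pow_eq_of_conj (φ N + 1) (shiftN n F + 1) G hG
    (by rw [mul_add, add_mul, hGe, mul_one, one_mul]) k
  rw [add_sub_cancel_right, add_sub_cancel_right, rank_shiftN_pow] at h3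
  rw [← h3, ← map_pow, hφ, Matrix.coe_reindexAlgEquiv, Matrix.rank_reindex]

/-- the anti-identity matrix -/
def hank (n : ℕ) (F : Type*) [Field F] : Matrix (Fin n) (Fin n) F :=
  Matrix.of fun a b => if (a : ℕ) + b + 1 = n then 1 else 0

theorem sum_ite_fin_val (n m : ℕ) (f : Fin n → F) :
    (∑ c : Fin n, if (c : ℕ) = m then f c else 0) = if h : m < n then f ⟨m, h⟩ else 0 := by
  split_ifs with h
  · rw [Finset.sum_eq_single (⟨m, h⟩ : Fin n)]
    · simp
    · intro b _ hb
      rw [if_neg]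
      intro h'
      exact hb (Fin.ext h')
    · intro h'; exact absurd (Finset.mem_univ _) h'
  · apply Finset.sum_eq_zero
    intro c _
    rw [if_neg]
    intro h'
    have := c.2
    omega

theorem hank_transpose (n : ℕ) : (hank n F)ᵀ = hank n F := by
  ext a b
  simp only [hank, Matrix.transpose_apply, Matrix.of_apply]
  rw [add_comm (b : ℕ) (a : ℕ)]

theorem hank_mul_self (n : ℕ) : hank n F * hank n F = 1 := by
  ext a c
  rw [Matrix.mul_apply, Matrix.one_apply]
  have ha := a.2
  have key : ∀ b : Fin n, hank n F a b * hank n F b c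
      = if (b : ℕ) = n - 1 - a then (if (a : ℕ) = c then (1 : F) else 0) else 0 := by
    intro b
    have hb := b.2
    have hc := c.2
    simp only [hank, Matrix.of_apply]
    by_cases h1 : (b : ℕ) = n - 1 - a
    · rw [if_pos h1, if_pos (by omega)]
      by_cases h2 : (a : ℕ) = c
      · rw [if_pos h2, if_pos (by omega), one_mul]
      · rw [if_neg h2, if_neg (by omega), mul_zero]
    · rw [if_neg h1, if_neg (by omega), zero_mul]
  rw [Finset.sum_congr rfl (fun b _ => key b), sum_ite_fin_val, dif_pos (by omega)]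
  simp only [Fin.ext_iff]

theorem shiftT_mul_hank (n : ℕ) : (shiftN n F)ᵀ * hank n F = hank n F * shiftN n F := by
  ext a b
  rw [Matrix.mul_apply, Matrix.mul_apply]
  have ha := a.2
  have hb := b.2
  have keyL : ∀ c : Fin n, (shiftN n F)ᵀ a c * hank n F c b
      = if (c : ℕ) = a + 1 then (if (a : ℕ) + b + 2 = n then (1 : F) else 0) else 0 := by
    intro c
    simp only [Matrix.transpose_apply, shiftN_apply, hank, Matrix.of_apply]
    by_cases h1 : (c : ℕ) = a + 1
    · rw [if_pos h1, if_pos h1, one_mul]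
      by_cases h2 : (a : ℕ) + b + 2 = n
      · rw [if_pos h2, if_pos (by omega)]
      · rw [if_neg h2, if_neg (by omega)]
    · rw [if_neg h1, if_neg h1, zero_mul]
  have keyR : ∀ c : Fin n, hank n F a c * shiftN n F c b
      = if (c : ℕ) = b + 1 then (if (a : ℕ) + b + 2 = n then (1 : F) else 0) else 0 := by
    intro c
    simp only [shiftN_apply, hank, Matrix.of_apply]
    by_cases h1 : (c : ℕ) = b + 1
    · rw [if_pos h1, if_pos h1, mul_one]
      by_cases h2 : (a : ℕ) + b + 2 = n
      · rw [if_pos h2, if_pos (by omega)]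
      · rw [if_neg h2, if_neg (by omega)]
    · rw [if_neg h1, if_neg h1, mul_zero]
  rw [Finset.sum_congr rfl (fun c _ => keyL c), Finset.sum_congr rfl (fun c _ => keyR c),
    sum_ite_fin_val, sum_ite_fin_val]
  by_cases h2 : (a : ℕ) + b + 2 = n
  · rw [dif_pos (by omega), dif_pos (by omega)]
  · simp [h2]

/-- a regular unipotent element of the symplectic group, in every characteristic -/
theorem FormReal.regular_symp (i : ℕ) (hi : 1 ≤ i) : FormReal F true (fun k => 2 * i - k) := by
  classical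
  have hHt : (hank i F)ᵀ = hank i F := hank_transpose i
  have hHH : hank i F * hank i F = 1 := hank_mul_self i
  have hSH : (shiftN i F)ᵀ * hank i F = hank i F * shiftN i F := shiftT_mul_hank i
  have hN : Matrix.fromBlocks (1 : Matrix (Fin i) (Fin i) F) (shiftN i F) 1 (1 + shiftN i F) - 1
      = Matrix.fromBlocks 0 (shiftN i F) 1 (shiftN i F) := by
    ext (a | a) (b | b) <;> simp [Matrix.one_apply]
  refine ⟨Fin i ⊕ Fin i, inferInstance, inferInstance,
    Matrix.fromBlocks 0 (hank i F) (-hank i F) 0,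
    Matrix.fromBlocks 1 (shiftN i F) 1 (1 + shiftN i F), ?_, ?_, ?_, ?_, ?_⟩
  · have : Matrix.fromBlocks (0 : Matrix (Fin i) (Fin i) F) (hank i F) (-hank i F) 0
        * Matrix.fromBlocks 0 (-hank i F) (hank i F) 0 = 1 := by
      rw [Matrix.fromBlocks_multiply, ← Matrix.fromBlocks_one]
      simp [hHH]
    exact (Matrix.isUnit_iff_isUnit_det _).1 (IsUnit.of_mul_eq_one _ this)
  · intro _ v
    have hv : v = Sum.elim (v ∘ Sum.inl) (v ∘ Sum.inr) := (Sum.elim_comp_inl_inr v).symm
    rw [Matrix.fromBlocks_mulVec]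
    nth_rewrite 1 [hv]
    rw [sumElim_dotProduct_sumElim]
    simp only [Matrix.zero_mulVec, zero_add, add_zero, Matrix.neg_mulVec, dotProduct_neg]
    have : (v ∘ Sum.inr) ⬝ᵥ hank i F *ᵥ (v ∘ Sum.inl)
        = (v ∘ Sum.inl) ⬝ᵥ hank i F *ᵥ (v ∘ Sum.inr) := by
      rw [Matrix.dotProduct_mulVec, ← Matrix.mulVec_transpose, hHt, dotProduct_comm]
    rw [this]
    exact add_neg_cancel _
  · intro h
    exact absurd h (by simp)
  · rw [Matrix.fromBlocks_transpose, Matrix.fromBlocks_multiply, Matrix.fromBlocks_multiply]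
    congr 1
    · simp
    · simp [mul_add]
    · simp [add_mul, Matrix.transpose_add]
    · simp only [Matrix.transpose_one, Matrix.transpose_add, mul_zero, zero_add, add_zero, one_mul,
        mul_neg, add_mul, mul_add, mul_one, neg_mul, hSH]
      abel
  · intro k
    have hcard : Fintype.card (Fin i ⊕ Fin i) = 2 * i := by simp [two_mul]
    have hSi : shiftN i F ^ i = 0 := shiftN_pow_self i F
    have hnil : (Matrix.fromBlocks (1 : Matrix (Fin i) (Fin i) F) (shiftN i F) 1 (1 + shiftN i F) - 1)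
        ^ (2 * i) = 0 := by
      rw [hN]
      have e1 : Matrix.fromBlocks (0 : Matrix (Fin i) (Fin i) F) (shiftN i F) 1 (shiftN i F)
          * Matrix.fromBlocks (0 : Matrix (Fin i) (Fin i) F) (shiftN i F) 1 (shiftN i F)
          = Matrix.fromBlocks (shiftN i F) 0 0 (shiftN i F)
            * (Matrix.fromBlocks (0 : Matrix (Fin i) (Fin i) F) (shiftN i F) 1 (shiftN i F) + 1) := by
        rw [← Matrix.fromBlocks_one, Matrix.fromBlocks_add, Matrix.fromBlocks_multiply,
          Matrix.fromBlocks_multiply]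
        simp [mul_add, add_comm]
      have e2 : Commute (Matrix.fromBlocks (shiftN i F) 0 0 (shiftN i F))
          (Matrix.fromBlocks (0 : Matrix (Fin i) (Fin i) F) (shiftN i F) 1 (shiftN i F)) := by
        show _ * _ = _ * _
        rw [Matrix.fromBlocks_multiply, Matrix.fromBlocks_multiply]
        simp
      have e3 : Matrix.fromBlocks (shiftN i F) 0 0 (shiftN i F) ^ i = 0 := by
        rw [fromBlocks_diag_pow, hSi, Matrix.fromBlocks_zero]
      rw [pow_mul, pow_two, e1, (e2.add_right (Commute.one_right _)).mul_pow, e3, zero_mul]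
    have hrank : (Matrix.fromBlocks (1 : Matrix (Fin i) (Fin i) F) (shiftN i F) 1 (1 + shiftN i F)
        - 1).rank = 2 * i - 1 := by
      rw [hN]
      have e1 : Matrix.fromBlocks (0 : Matrix (Fin i) (Fin i) F) (shiftN i F) 1 (shiftN i F)
          * Matrix.fromBlocks 1 (-shiftN i F) 0 1
          = Matrix.fromBlocks (shiftN i F) 0 0 1 * Matrix.fromBlocks 0 1 1 0 := by
        rw [Matrix.fromBlocks_multiply, Matrix.fromBlocks_multiply]
        simp
      have u1 : IsUnit (Matrix.fromBlocks (1 : Matrix (Fin i) (Fin i) F) (-shiftN i F) 0 1).det := by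
        rw [Matrix.det_fromBlocks_zero₂₁]
        simp
      have u2 : IsUnit (Matrix.fromBlocks (0 : Matrix (Fin i) (Fin i) F) (1 : Matrix (Fin i) (Fin i) F)
          (1 : Matrix (Fin i) (Fin i) F) (0 : Matrix (Fin i) (Fin i) F)).det := by
        have : Matrix.fromBlocks (0 : Matrix (Fin i) (Fin i) F) (1 : Matrix (Fin i) (Fin i) F)
            (1 : Matrix (Fin i) (Fin i) F) (0 : Matrix (Fin i) (Fin i) F)
            * Matrix.fromBlocks (0 : Matrix (Fin i) (Fin i) F) (1 : Matrix (Fin i) (Fin i) F)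
              (1 : Matrix (Fin i) (Fin i) F) (0 : Matrix (Fin i) (Fin i) F) = 1 := by
          rw [Matrix.fromBlocks_multiply, ← Matrix.fromBlocks_one]
          simp
        exact (Matrix.isUnit_iff_isUnit_det _).1 (IsUnit.of_mul_eq_one _ this)
      rw [← Matrix.rank_mul_eq_left_of_isUnit_det _ _ u1, e1,
        Matrix.rank_mul_eq_left_of_isUnit_det _ _ u2, rank_fromBlocks_diag, Matrix.rank_one,
        Fintype.card_fin, shiftN_rank' i hi]
      omega
    exact rank_pow_of_regular _ (2 * i) (by omega) hcard hnil hrank k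

end Regular


section Orth
variable {F : Type*} [Field F]

/-- the signed anti-identity matrix -/
def ghank (n : ℕ) (F : Type*) [Field F] : Matrix (Fin n) (Fin n) F :=
  Matrix.of fun a b => if (a : ℕ) + b + 1 = n then (-1) ^ (a : ℕ) else 0

theorem neg_one_pow_eq_of_even_add {a b : ℕ} (h : Even (a + b)) : (-1 : F) ^ a = (-1) ^ b := by
  have h1 : (-1 : F) ^ a * (-1) ^ b = 1 := by rw [← pow_add]; exact h.neg_one_pow
  have h2 : (-1 : F) ^ b * (-1) ^ b = 1 := by
    rw [← pow_add]; exact (Even.add_self b).neg_one_pow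
  calc (-1 : F) ^ a = (-1) ^ a * ((-1) ^ b * (-1) ^ b) := by rw [h2, mul_one]
    _ = (-1) ^ b := by rw [← mul_assoc, h1, one_mul]

theorem ghank_transpose (n : ℕ) (hn : Odd n) : (ghank n F)ᵀ = ghank n F := by
  ext a b
  simp only [ghank, Matrix.transpose_apply, Matrix.of_apply]
  by_cases h : (a : ℕ) + b + 1 = n
  · rw [if_pos h, if_pos (by omega)]
    apply neg_one_pow_eq_of_even_add
    obtain ⟨m, hm⟩ := hn
    exact ⟨m, by omega⟩
  · rw [if_neg h, if_neg (by omega)]

theorem ghank_mul_self (n : ℕ) (hn : Odd n) : ghank n F * ghank n F = 1 := by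
  ext a c
  rw [Matrix.mul_apply, Matrix.one_apply]
  have ha := a.2
  have key : ∀ b : Fin n, ghank n F a b * ghank n F b c
      = if (b : ℕ) = n - 1 - a then (if (a : ℕ) = c then (1 : F) else 0) else 0 := by
    intro b
    have hb := b.2
    have hc := c.2
    simp only [ghank, Matrix.of_apply]
    by_cases h1 : (b : ℕ) = n - 1 - a
    · rw [if_pos h1, if_pos (by omega)]
      by_cases h2 : (a : ℕ) = c
      · rw [if_pos h2, if_pos (by omega), ← pow_add]
        apply Even.neg_one_pow
        obtain ⟨m, hm⟩ := hn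
        exact ⟨m, by omega⟩
      · rw [if_neg h2, if_neg (by omega), mul_zero]
    · rw [if_neg h1, if_neg (by omega), zero_mul]
  rw [Finset.sum_congr rfl (fun b _ => key b), sum_ite_fin_val, dif_pos (by omega)]
  simp only [Fin.ext_iff]

theorem shiftT_mul_ghank (n : ℕ) :
    (shiftN n F)ᵀ * ghank n F = -(ghank n F * shiftN n F) := by
  ext a b
  rw [Matrix.neg_apply, Matrix.mul_apply, Matrix.mul_apply]
  have ha := a.2
  have hb := b.2
  have keyL : ∀ c : Fin n, (shiftN n F)ᵀ a c * ghank n F c b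
      = if (c : ℕ) = a + 1 then (if (a : ℕ) + b + 2 = n then (-1 : F) ^ ((a : ℕ) + 1) else 0)
        else 0 := by
    intro c
    simp only [Matrix.transpose_apply, shiftN_apply, ghank, Matrix.of_apply]
    by_cases h1 : (c : ℕ) = a + 1
    · rw [if_pos h1, if_pos h1, one_mul, h1]
      by_cases h2 : (a : ℕ) + b + 2 = n
      · rw [if_pos h2, if_pos (by omega)]
      · rw [if_neg h2, if_neg (by omega)]
    · rw [if_neg h1, if_neg h1, zero_mul]
  have keyR : ∀ c : Fin n, ghank n F a c * shiftN n F c b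
      = if (c : ℕ) = b + 1 then (if (a : ℕ) + b + 2 = n then (-1 : F) ^ (a : ℕ) else 0) else 0 := by
    intro c
    simp only [shiftN_apply, ghank, Matrix.of_apply]
    by_cases h1 : (c : ℕ) = b + 1
    · rw [if_pos h1, if_pos h1, mul_one]
      by_cases h2 : (a : ℕ) + b + 2 = n
      · rw [if_pos h2, if_pos (by omega)]
      · rw [if_neg h2, if_neg (by omega)]
    · rw [if_neg h1, if_neg h1, mul_zero]
  rw [Finset.sum_congr rfl (fun c _ => keyL c), Finset.sum_congr rfl (fun c _ => keyR c),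
    sum_ite_fin_val, sum_ite_fin_val]
  by_cases h2 : (a : ℕ) + b + 2 = n
  · rw [dif_pos (by omega), dif_pos (by omega), if_pos h2, if_pos h2, pow_succ, mul_neg_one]
  · simp [h2]

/-- a regular unipotent element of an odd-dimensional orthogonal group, odd characteristic -/
theorem FormReal.regular_orth (h2 : (2 : F) ≠ 0) (n : ℕ) (hn : Odd n) :
    FormReal F false (fun k => n - k) := by
  classical
  have hGt : (ghank n F)ᵀ = ghank n F := ghank_transpose n hn
  have hGG : ghank n F * ghank n F = 1 := ghank_mul_self n hn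
  have hSG : (shiftN n F)ᵀ * ghank n F = -(ghank n F * shiftN n F) := shiftT_mul_ghank n
  have hSnil : IsNilpotent (shiftN n F) := shiftN_isNilpotent n F
  have hMu : IsUnit (1 - shiftN n F).det := (Matrix.isUnit_iff_isUnit_det _).1 hSnil.isUnit_one_sub
  have hMC : (1 - shiftN n F) * (1 - shiftN n F)⁻¹ = 1 := Matrix.mul_nonsing_inv _ hMu
  have hCM : (1 - shiftN n F)⁻¹ * (1 - shiftN n F) = 1 := Matrix.nonsing_inv_mul _ hMu
  have hPM : (1 + shiftN n F) * (1 - shiftN n F) = (1 - shiftN n F) * (1 + shiftN n F) := by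
    noncomm_ring
  have hPtG : (1 + shiftN n F)ᵀ * ghank n F = ghank n F * (1 - shiftN n F) := by
    rw [Matrix.transpose_add, Matrix.transpose_one, add_mul, one_mul, hSG, mul_sub, mul_one,
      sub_eq_add_neg]
  have hMtG : (1 - shiftN n F)ᵀ * ghank n F = ghank n F * (1 + shiftN n F) := by
    rw [Matrix.transpose_sub, Matrix.transpose_one, sub_mul, one_mul, hSG, mul_add, mul_one,
      sub_neg_eq_add]
  refine ⟨Fin n, inferInstance, inferInstance, ghank n F,
    (1 + shiftN n F) * (1 - shiftN n F)⁻¹, ?_, ?_, ?_, ?_, ?_⟩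
  · exact (Matrix.isUnit_iff_isUnit_det _).1 (IsUnit.of_mul_eq_one _ hGG)
  · intro h
    exact absurd h (by simp)
  · intro _
    exact hGt
  · calc ((1 + shiftN n F) * (1 - shiftN n F)⁻¹)ᵀ * ghank n F
          * ((1 + shiftN n F) * (1 - shiftN n F)⁻¹)
        = ((1 - shiftN n F)⁻¹)ᵀ * ((1 + shiftN n F)ᵀ * ghank n F)
          * ((1 + shiftN n F) * (1 - shiftN n F)⁻¹) := by
          rw [Matrix.transpose_mul]; simp only [mul_assoc]
      _ = ((1 - shiftN n F)⁻¹)ᵀ * ghank n F * ((1 - shiftN n F) * (1 + shiftN n F))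
          * (1 - shiftN n F)⁻¹ := by
          rw [hPtG]; simp only [mul_assoc]
      _ = ((1 - shiftN n F)⁻¹)ᵀ * ghank n F * (1 + shiftN n F)
          * ((1 - shiftN n F) * (1 - shiftN n F)⁻¹) := by
          rw [← hPM]; simp only [mul_assoc]
      _ = ((1 - shiftN n F)⁻¹)ᵀ * (ghank n F * (1 + shiftN n F)) := by
          rw [hMC, mul_one, mul_assoc]
      _ = ((1 - shiftN n F) * (1 - shiftN n F)⁻¹)ᵀ * ghank n F := by
          rw [← hMtG, Matrix.transpose_mul, mul_assoc]
      _ = ghank n F := by rw [hMC, Matrix.transpose_one, one_mul]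
  · intro k
    have e1 : (1 + shiftN n F) * (1 - shiftN n F)⁻¹ - 1
        = ((2 : F) • shiftN n F) * (1 - shiftN n F)⁻¹ := by
      have : (1 + shiftN n F) - (1 - shiftN n F) = (2 : F) • shiftN n F := by
        rw [two_smul]; abel
      rw [← this, sub_mul, hMC]
    have hSM : shiftN n F * (1 - shiftN n F) = (1 - shiftN n F) * shiftN n F := by noncomm_ring
    have hSC : Commute ((2 : F) • shiftN n F) (1 - shiftN n F)⁻¹ := by
      apply Commute.smul_left
      show shiftN n F * (1 - shiftN n F)⁻¹ = (1 - shiftN n F)⁻¹ * shiftN n F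
      calc shiftN n F * (1 - shiftN n F)⁻¹
          = ((1 - shiftN n F)⁻¹ * (1 - shiftN n F)) * shiftN n F * (1 - shiftN n F)⁻¹ := by
            rw [hCM, one_mul]
        _ = (1 - shiftN n F)⁻¹ * ((1 - shiftN n F) * shiftN n F) * (1 - shiftN n F)⁻¹ := by
            simp only [mul_assoc]
        _ = (1 - shiftN n F)⁻¹ * (shiftN n F * (1 - shiftN n F)) * (1 - shiftN n F)⁻¹ := by
            rw [hSM]
        _ = (1 - shiftN n F)⁻¹ * shiftN n F * ((1 - shiftN n F) * (1 - shiftN n F)⁻¹) := by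
            simp only [mul_assoc]
        _ = (1 - shiftN n F)⁻¹ * shiftN n F := by rw [hMC, mul_one]
    rw [e1, hSC.mul_pow, Matrix.rank_mul_eq_left_of_isUnit_det _ _
        (by rw [Matrix.det_pow]; exact (Matrix.isUnit_nonsing_inv_det _ hMu).pow k),
      _root_.smul_pow, rank_smul_of_ne_zero _ (pow_ne_zero _ h2), rank_shiftN_pow]

end Orth

section Assemble
variable {F : Type*} [Field F]

theorem profile_regroup {t : ℕ} (d : Fin t → ℕ) (M : ℕ) (hM : ∀ b, d b ≤ M) (k : ℕ) :
    ∑ b, (d b - k) = ∑ j ∈ Finset.range (M + 1),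
      (Finset.univ.filter (fun b => d b = j)).card * (j - k) := by
  have h1 : ∀ j ∈ Finset.range (M + 1),
      (Finset.univ.filter (fun b => d b = j)).card * (j - k)
        = ∑ b, if d b = j then (j - k) else 0 := by
    intro j _
    rw [← Finset.sum_filter, Finset.sum_const, smul_eq_mul]
  rw [Finset.sum_congr rfl h1, Finset.sum_comm]
  refine Finset.sum_congr rfl (fun b _ => ?_)
  rw [Finset.sum_ite_eq, if_pos (Finset.mem_range.2 (Nat.lt_succ_of_le (hM b)))]

theorem isUnit_det_jordanBlock (j : ℕ) : IsUnit (Cfsg.jordanBlock j F).det := by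
  have h : Cfsg.jordanBlock j F = shiftN j F + 1 := by
    rw [← jordanBlock_sub_one, sub_add_cancel]
  rw [h]
  exact (Matrix.isUnit_iff_isUnit_det _).1 (shiftN_isNilpotent j F).isUnit_add_one

/-- every symplectic Jordan type is realised -/
theorem formReal_symp_of_type {t : ℕ} (d : Fin t → ℕ)
    (h : ∀ j : ℕ, Odd j → Even (Finset.univ.filter (fun b : Fin t => d b = j)).card) :
    FormReal F true (fun k => ∑ b, (d b - k)) := by
  classical
  have hM : ∀ b, d b ≤ Finset.univ.sup d := fun b => Finset.le_sup (Finset.mem_univ b)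
  have e : (fun k => ∑ b, (d b - k)) = fun k => ∑ j ∈ Finset.range (Finset.univ.sup d + 1),
      (Finset.univ.filter (fun b => d b = j)).card * (j - k) :=
    funext (profile_regroup d _ hM)
  rw [e]
  apply FormReal.sum
  intro j _
  rcases Nat.even_or_odd j with hj | hj
  · obtain ⟨i, rfl⟩ := hj
    rcases Nat.eq_zero_or_pos i with rfl | hi
    · have e0 : (fun k => (Finset.univ.filter (fun b => d b = 0 + 0)).card * (0 + 0 - k))
          = fun _ => 0 := by
        funext k; simp
      rw [e0]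
      exact FormReal.zero true
    · have h1 := (FormReal.regular_symp (F := F) i hi).nsmul
        (Finset.univ.filter (fun b => d b = i + i)).card
      have e1 : (fun k => (Finset.univ.filter (fun b => d b = i + i)).card * (i + i - k))
          = fun k => (Finset.univ.filter (fun b => d b = i + i)).card * (2 * i - k) := by
        funext k; rw [two_mul]
      rw [e1]
      exact h1
  · obtain ⟨c, hc⟩ := h j hj
    have h1 := (FormReal.double (F := F) true (Cfsg.jordanBlock j F) (isUnit_det_jordanBlock j)).nsmul c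
    have e1 : (fun k => (Finset.univ.filter (fun b => d b = j)).card * (j - k))
        = fun k => c * (2 * ((Cfsg.jordanBlock j F - 1) ^ k).rank) := by
      funext k
      rw [hc, jordanBlock_sub_one, rank_shiftN_pow]
      ring
    rw [e1]
    exact h1

/-- every orthogonal Jordan type is realised, in odd characteristic -/
theorem formReal_orth_of_type (h2 : (2 : F) ≠ 0) {t : ℕ} (d : Fin t → ℕ)
    (h : ∀ j : ℕ, Even j → 0 < j → Even (Finset.univ.filter (fun b : Fin t => d b = j)).card) :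
    FormReal F false (fun k => ∑ b, (d b - k)) := by
  classical
  have hM : ∀ b, d b ≤ Finset.univ.sup d := fun b => Finset.le_sup (Finset.mem_univ b)
  have e : (fun k => ∑ b, (d b - k)) = fun k => ∑ j ∈ Finset.range (Finset.univ.sup d + 1),
      (Finset.univ.filter (fun b => d b = j)).card * (j - k) :=
    funext (profile_regroup d _ hM)
  rw [e]
  apply FormReal.sum
  intro j _
  rcases Nat.even_or_odd j with hj | hj
  · rcases Nat.eq_zero_or_pos j with rfl | hj0
    · have e0 : (fun k => (Finset.univ.filter (fun b => d b = 0)).card * (0 - k))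
          = fun _ => 0 := by
        funext k; simp
      rw [e0]
      exact FormReal.zero false
    · obtain ⟨c, hc⟩ := h j hj hj0
      have h1 := (FormReal.double (F := F) false (Cfsg.jordanBlock j F)
        (isUnit_det_jordanBlock j)).nsmul c
      have e1 : (fun k => (Finset.univ.filter (fun b => d b = j)).card * (j - k))
          = fun k => c * (2 * ((Cfsg.jordanBlock j F - 1) ^ k).rank) := by
        funext k
        rw [hc, jordanBlock_sub_one, rank_shiftN_pow]
        ring
      rw [e1]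
      exact h1
  · exact (FormReal.regular_orth h2 j hj).nsmul _

end Assemble


section Final
variable {F : Type*} [Field F]

theorem eq_zero_of_rank_eq_zero {κ : Type*} [Fintype κ] [DecidableEq κ] (M : Matrix κ κ F)
    (h : M.rank = 0) : M = 0 := by
  have h1 : LinearMap.range M.mulVecLin = ⊥ := by
    apply Submodule.finrank_eq_zero.1
    exact h
  have h2 : M.mulVecLin = 0 := LinearMap.range_eq_bot.1 h1
  apply Matrix.toLin'.injective
  rw [map_zero]
  exact h2

theorem profile_vanish {t : ℕ} (d : Fin t → ℕ) : ∑ b, (d b - ∑ b', d b') = 0 := by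
  apply Finset.sum_eq_zero
  intro b _
  have : d b ≤ ∑ b', d b' := Finset.single_le_sum (f := d) (fun _ _ => Nat.zero_le _) (Finset.mem_univ b)
  omega

/-- a matrix with the rank profile of the Jordan type `d` is conjugate to the Jordan type
matrix -/
theorem isConj_jordanType_of_profile {t : ℕ} (d : Fin t → ℕ) {κ : Type*} [Fintype κ]
    [DecidableEq κ] (e : ((k : Fin t) × Fin (d k)) ≃ κ) (A : Matrix κ κ F)
    (hA : ∀ k, ((A - 1) ^ k).rank = ∑ b, (d b - k)) :
    IsConj (Matrix.reindex e e (Cfsg.jordanTypeMatrix d F)) A := by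
  classical
  have hJ : ∀ k, ((Matrix.reindex e e (Cfsg.jordanTypeMatrix d F) - 1) ^ k).rank
      = ∑ b, (d b - k) := fun k => by
    rw [rank_reindex_sub_one_pow, rank_jordanType_sub_one_pow]
  obtain ⟨P, hP, hPc⟩ := exists_conj_of_profile (Matrix.reindex e e (Cfsg.jordanTypeMatrix d F)) A
    (∑ b, d b)
    (eq_zero_of_rank_eq_zero _ (by rw [hJ, profile_vanish]))
    (eq_zero_of_rank_eq_zero _ (by rw [hA, profile_vanish]))
    (fun k => by rw [hJ, hA])
  exact isConj_of_conj _ _ P hP hPc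

theorem profile_of_isConj_jordanType {t : ℕ} (d : Fin t → ℕ) {κ : Type*} [Fintype κ]
    [DecidableEq κ] (e : ((k : Fin t) × Fin (d k)) ≃ κ) (A : Matrix κ κ F)
    (h : IsConj (Matrix.reindex e e (Cfsg.jordanTypeMatrix d F)) A) (k : ℕ) :
    ((A - 1) ^ k).rank = ∑ b, (d b - k) := by
  classical
  rw [← rank_pow_eq_of_isConj _ _ h k, rank_reindex_sub_one_pow, rank_jordanType_sub_one_pow]

/-- parity of the multiplicities from parity of the ranks -/
theorem even_card_filter_of_even_rank {t : ℕ} (d : Fin t → ℕ) (j : ℕ) (hj : 1 ≤ j)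
    (h1 : Even (∑ b, (d b - (j - 1)))) (h2 : Even (∑ b, (d b - (j + 1)))) :
    Even (Finset.univ.filter (fun b : Fin t => d b = j)).card := by
  have h := card_filter_profile d j hj
  obtain ⟨x, hx⟩ := h1
  obtain ⟨y, hy⟩ := h2
  exact ⟨x + y - ∑ b, (d b - j), by omega⟩

end Final


section Transport
variable {F : Type*} [Field F]

/-- transport a realisation to any index type of the right cardinality -/
theorem FormReal.exists_index {alt : Bool} {p : ℕ → ℕ} (h : FormReal F alt p) {κ' : Type*}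
    [Fintype κ'] [DecidableEq κ'] (hcard : Fintype.card κ' = p 0) :
    ∃ Ω A : Matrix κ' κ' F, IsUnit Ω.det ∧ (alt = true → ∀ v : κ' → F, v ⬝ᵥ Ω *ᵥ v = 0) ∧
      (alt = false → Ωᵀ = Ω) ∧ Aᵀ * Ω * A = Ω ∧ ∀ k, ((A - 1) ^ k).rank = p k := by
  obtain ⟨κ, _, _, Ω, A, h1, h2, h3, h4, h5⟩ := h
  have hκ : Fintype.card κ = Fintype.card κ' := by
    have := h5 0
    rw [pow_zero, Matrix.rank_one] at this
    rw [this, hcard]
  let e : κ ≃ κ' := Fintype.equivOfCardEq hκ
  refine ⟨Matrix.reindex e e Ω, Matrix.reindex e e A, ?_, ?_, ?_, ?_, ?_⟩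
  · rw [Matrix.det_reindex_self]; exact h1
  · intro ha v
    have := h2 ha (v ∘ e)
    rw [Matrix.reindex_apply, Matrix.submatrix_mulVec_equiv]
    show ∑ i, v i * (Ω *ᵥ (v ∘ e.symm.symm)) (e.symm i) = 0
    rw [← Equiv.sum_comp e]
    simp only [Equiv.symm_symm, Equiv.symm_apply_apply]
    exact this
  · intro ha
    rw [Matrix.transpose_reindex, h3 ha]
  · rw [Matrix.transpose_reindex, ← Matrix.coe_reindexAlgEquiv F F e, ← map_mul, ← map_mul, h4]
  · intro k
    rw [rank_reindex_sub_one_pow, h5]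

variable {κ : Type*} [Fintype κ] [DecidableEq κ]

/-- odd block sizes have even multiplicity for an isometry of an alternating form -/
theorem parity_of_alt {t : ℕ} (d : Fin t → ℕ)
    (e : ((k : Fin t) × Fin (d k)) ≃ κ) (Ω A : Matrix κ κ F) (hΩ : IsUnit Ω.det)
    (halt : ∀ v : κ → F, v ⬝ᵥ Ω *ᵥ v = 0) (hA : Aᵀ * Ω * A = Ω)
    (h : IsConj (Matrix.reindex e e (Cfsg.jordanTypeMatrix d F)) A) (j : ℕ) (hj : Odd j) :
    Even (Finset.univ.filter (fun k : Fin t => d k = j)).card := by
  obtain ⟨l, rfl⟩ := hj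
  apply even_card_filter_of_even_rank d (2 * l + 1) (by omega)
  · rw [← profile_of_isConj_jordanType d e A h]
    have := even_rank_pow_of_alt Ω A hΩ halt hA l
    have e2 : 2 * l = 2 * l + 1 - 1 := by omega
    rw [e2] at this
    exact this
  · rw [← profile_of_isConj_jordanType d e A h]
    have := even_rank_pow_of_alt Ω A hΩ halt hA (l + 1)
    have e2 : 2 * (l + 1) = 2 * l + 1 + 1 := by ring
    rw [e2] at this
    exact this

/-- even block sizes have even multiplicity for an isometry of a symmetric form, odd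
characteristic -/
theorem parity_of_symm (h2 : (2 : F) ≠ 0) {t : ℕ} (d : Fin t → ℕ)
    (e : ((k : Fin t) × Fin (d k)) ≃ κ) (Ω A : Matrix κ κ F) (hΩ : IsUnit Ω.det)
    (hsym : Ωᵀ = Ω) (hA : Aᵀ * Ω * A = Ω)
    (h : IsConj (Matrix.reindex e e (Cfsg.jordanTypeMatrix d F)) A) (j : ℕ) (hj : Even j)
    (hj0 : 0 < j) : Even (Finset.univ.filter (fun k : Fin t => d k = j)).card := by
  obtain ⟨l, hl⟩ := hj
  have hnil : IsNilpotent (A - 1) := ⟨∑ b, d b, eq_zero_of_rank_eq_zero _
    (by rw [profile_of_isConj_jordanType d e A h, profile_vanish])⟩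
  apply even_card_filter_of_even_rank d j (by omega)
  · rw [← profile_of_isConj_jordanType d e A h]
    have := even_rank_pow_of_symm h2 Ω A hΩ hsym hA hnil (l - 1)
    have e2 : 2 * (l - 1) + 1 = j - 1 := by omega
    rw [e2] at this
    exact this
  · rw [← profile_of_isConj_jordanType d e A h]
    have := even_rank_pow_of_symm h2 Ω A hΩ hsym hA hnil l
    have e2 : 2 * l + 1 = j + 1 := by omega
    rw [e2] at this
    exact this

/-- the Gram matrix of the polar form of a quadratic form with an isometry `A` -/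
theorem polar_matrix_props (Q : QuadraticForm F (κ → F))
    (hQ : (QuadraticMap.polarBilin Q).Nondegenerate) (A : Matrix κ κ F)
    (hA : ∀ v, Q (A *ᵥ v) = Q v) :
    IsUnit (LinearMap.BilinForm.toMatrix' (QuadraticMap.polarBilin Q)).det ∧
    (LinearMap.BilinForm.toMatrix' (QuadraticMap.polarBilin Q))ᵀ
      = LinearMap.BilinForm.toMatrix' (QuadraticMap.polarBilin Q) ∧
    Aᵀ * LinearMap.BilinForm.toMatrix' (QuadraticMap.polarBilin Q) * A
      = LinearMap.BilinForm.toMatrix' (QuadraticMap.polarBilin Q) ∧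
    ∀ v : κ → F, v ⬝ᵥ LinearMap.BilinForm.toMatrix' (QuadraticMap.polarBilin Q) *ᵥ v
      = QuadraticMap.polar Q v v := by
  set B := QuadraticMap.polarBilin Q with hB
  set Ω := LinearMap.BilinForm.toMatrix' B with hΩ
  have hBΩ : Matrix.toBilin' Ω = B := Matrix.toBilin'_toMatrix' B
  refine ⟨?_, ?_, ?_, ?_⟩
  · have : (Matrix.toBilin' Ω).Nondegenerate := by rw [hBΩ]; exact hQ
    exact (LinearMap.BilinForm.nondegenerate_toBilin'_iff_det_ne_zero.1 this).isUnit
  · ext i j
    rw [Matrix.transpose_apply, hΩ, LinearMap.BilinForm.toMatrix'_apply,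
      LinearMap.BilinForm.toMatrix'_apply]
    exact QuadraticMap.polar_comm _ _ _
  · have hcomp : LinearMap.BilinForm.comp B (Matrix.toLin' A) (Matrix.toLin' A) = B := by
      apply LinearMap.ext₂
      intro u v
      show QuadraticMap.polar Q (A *ᵥ u) (A *ᵥ v) = QuadraticMap.polar Q u v
      unfold QuadraticMap.polar
      rw [← Matrix.mulVec_add, hA, hA, hA]
    have := LinearMap.BilinForm.toMatrix'_comp B (Matrix.toLin' A) (Matrix.toLin' A)
    rw [hcomp, LinearMap.toMatrix'_toLin'] at this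
    exact this.symm
  · intro v
    rw [← Matrix.toBilin'_apply', hBΩ]
    rfl

end Transport

end Cfsg.Agent.Lib.helper48
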