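import Cfsg.Agent.Lib.helper65.S2686OREFL
import Cfsg.Agent.Lib.helper32.S2686OI

/-!
# S2686, piece O-CENT: odd automorphisms centralizing the orthogonal group are trivial
-/

set_option autoImplicit false

namespace Cfsg.Agent.Lib.helper48.S2686

open Matrix Cfsg
open Cfsg.Agent.Lib.helper47
open Cfsg.Agent.Lib.helper47.PSLn (pr cAut pr_surj pr_eq_iff)
open Cfsg.Agent.Lib.helper48.LB
open Cfsg.Agent.Lib.helper65.S2686

section general

variable {F : Type*} [Field F] {ι : Type} [Fintype ι] [DecidableEq ι]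

theorem map_mulVec_equiv (τ : F ≃+* F) (M : Matrix ι ι F) (v : ι → F) :
    (fun i => τ ((M *ᵥ v) i)) = M.map τ *ᵥ (fun i => τ (v i)) := by
  funext i
  simp [Matrix.mulVec, dotProduct, map_sum, map_mul]

theorem bil_symm (G : Matrix ι ι F) (hG : Gᵀ = G) (a b : ι → F) :
    (G *ᵥ a) ⬝ᵥ b = a ⬝ᵥ G *ᵥ b := by
  rw [dotProduct_comm, Matrix.dotProduct_mulVec, ← Matrix.mulVec_transpose, hG, dotProduct_comm]

/-- a reflection preserves the dual form -/
theorem refl_dual (G D : Matrix ι ι F) (hG : Gᵀ = G) (hGD : G * D = 1) (v : ι → F)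
    (hv : v ⬝ᵥ G *ᵥ v ≠ 0) : refl G v * D * (refl G v)ᵀ = D := by
  have hDG : D * G = 1 := mul_eq_one_comm.mp hGD
  have h1 := refl_isometry G hG v hv
  have h2 := refl_mul_self G hG v hv
  calc refl G v * D * (refl G v)ᵀ
      = refl G v * D * (refl G v)ᵀ * (G * refl G v * (refl G v * D)) := by
        have : G * refl G v * (refl G v * D) = 1 := by
          calc G * refl G v * (refl G v * D) = G * (refl G v * refl G v) * D := by
                simp only [Matrix.mul_assoc]
            _ = 1 := by rw [h2, Matrix.mul_one, hGD]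
        rw [this, Matrix.mul_one]
    _ = refl G v * D * ((refl G v)ᵀ * G * refl G v) * (refl G v * D) := by
        simp only [Matrix.mul_assoc]
    _ = refl G v * (D * G) * (refl G v * D) := by
        rw [h1]
        simp only [Matrix.mul_assoc]
    _ = D := by
        rw [hDG, Matrix.mul_one, ← Matrix.mul_assoc, h2, Matrix.one_mul]

/-- **Key lemma**: the semilinear map `T = h ∘ τ` maps `a` into the plane spanned by `a` and
`b`, for orthogonal anisotropic `a`, `b`. -/
theorem key_plane (h2 : (2 : F) ≠ 0) (G D : Matrix ι ι F) (hG : Gᵀ = G) (hGD : G * D = 1)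
    (h : Matrix ι ι F) (τ : F ≃+* F)
    (hcomm : ∀ s : SpecialLinearGroup ι F, s.1 * s.1 = 1 → s.1 * D * s.1ᵀ = D →
      h * s.1.map τ = s.1 * h)
    (a b : ι → F) (ha : a ⬝ᵥ G *ᵥ a ≠ 0) (hb : b ⬝ᵥ G *ᵥ b ≠ 0) (hab : a ⬝ᵥ G *ᵥ b = 0) :
    ∃ x y : F, h *ᵥ (fun i => τ (a i)) = x • a + y • b := by
  obtain ⟨s, hs⟩ : ∃ s : SpecialLinearGroup ι F, s.1 = refl G a * refl G b :=
    ⟨⟨refl G a * refl G b, by rw [Matrix.det_mul, refl_det G a ha, refl_det G b hb]; norm_num⟩, rfl⟩
  have hs2 : s.1 * s.1 = 1 := by rw [hs]; exact refl_perp_sq G hG a b ha hb hab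
  have hsD : s.1 * D * s.1ᵀ = D := by
    rw [hs, Matrix.transpose_mul]
    calc refl G a * refl G b * D * ((refl G b)ᵀ * (refl G a)ᵀ)
        = refl G a * (refl G b * D * (refl G b)ᵀ) * (refl G a)ᵀ := by
          simp only [Matrix.mul_assoc]
      _ = D := by rw [refl_dual G D hG hGD b hb, refl_dual G D hG hGD a ha]
  have H := hcomm s hs2 hsD
  have hba : (G *ᵥ b) ⬝ᵥ a = 0 := by rw [dotProduct_comm]; exact hab
  have hab' : (G *ᵥ a) ⬝ᵥ b = 0 := by rw [bil_symm G hG]; exact hab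
  have haa : (G *ᵥ a) ⬝ᵥ a = a ⬝ᵥ G *ᵥ a := dotProduct_comm _ _
  have hsa : s.1 *ᵥ a = -a := by
    rw [hs, ← Matrix.mulVec_mulVec, refl_mulVec G b a, hba, mul_zero, zero_div, zero_smul,
      sub_zero, refl_mulVec, haa, mul_div_assoc, div_self ha, mul_one]
    ext i
    simp only [Pi.sub_apply, Pi.smul_apply, smul_eq_mul, Pi.neg_apply]
    ring
  obtain ⟨u, hu⟩ : ∃ u : ι → F, u = h *ᵥ (fun i => τ (a i)) := ⟨_, rfl⟩
  have hsu : s.1 *ᵥ u = -u := by
    rw [hu, Matrix.mulVec_mulVec, ← H, ← Matrix.mulVec_mulVec, ← map_mulVec_equiv, hsa]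
    rw [← Matrix.mulVec_neg]
    congr 1
    funext i
    simp
  rw [hs, ← Matrix.mulVec_mulVec, refl_mulVec G b u, refl_mulVec] at hsu
  rw [dotProduct_sub, dotProduct_smul, hab', smul_zero, sub_zero] at hsu
  rw [← hu]
  refine ⟨((G *ᵥ a) ⬝ᵥ u) / (a ⬝ᵥ G *ᵥ a), ((G *ᵥ b) ⬝ᵥ u) / (b ⬝ᵥ G *ᵥ b), ?_⟩
  ext i
  have h3 := congrFun hsu i
  simp only [Pi.sub_apply, Pi.smul_apply, smul_eq_mul, Pi.neg_apply, Pi.add_apply] at h3 ⊢
  have h4 : (2 : F) * u i = 2 * (((G *ᵥ a) ⬝ᵥ u) / (a ⬝ᵥ G *ᵥ a) * a i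
      + ((G *ᵥ b) ⬝ᵥ u) / (b ⬝ᵥ G *ᵥ b) * b i) := by
    linear_combination h3
  exact mul_left_cancel₀ h2 h4

theorem dotG_single (g : ι → F) (i : ι) (b : ι → F) :
    (Pi.single i (1 : F)) ⬝ᵥ Matrix.diagonal g *ᵥ b = g i * b i := by
  simp [Matrix.mulVec_diagonal]

theorem tau_single (τ : F ≃+* F) (i : ι) :
    (fun m => τ ((Pi.single i (1 : F) : ι → F) m)) = Pi.single i 1 := by
  funext m
  by_cases hm : m = i
  · subst hm; simp
  · simp [Pi.single_apply, hm]

/-- the relation between two coordinates of `T a` outside the support of `b` -/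
theorem coord_rel (h2 : (2 : F) ≠ 0) (g : ι → F) (D : Matrix ι ι F)
    (hGD : Matrix.diagonal g * D = 1) (c : ι → F) (τ : F ≃+* F)
    (hcomm : ∀ s : SpecialLinearGroup ι F, s.1 * s.1 = 1 → s.1 * D * s.1ᵀ = D →
      Matrix.diagonal c * s.1.map τ = s.1 * Matrix.diagonal c)
    (a b : ι → F) (ha : a ⬝ᵥ Matrix.diagonal g *ᵥ a ≠ 0) (hb : b ⬝ᵥ Matrix.diagonal g *ᵥ b ≠ 0)
    (hab : a ⬝ᵥ Matrix.diagonal g *ᵥ b = 0) (l l' : ι) (hl : b l = 0) (hl' : b l' = 0) :
    c l * τ (a l) * a l' = c l' * τ (a l') * a l := by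
  obtain ⟨x, y, hxy⟩ := key_plane h2 (Matrix.diagonal g) D (Matrix.diagonal_transpose g) hGD
    (Matrix.diagonal c) τ hcomm a b ha hb hab
  have h1 := congrFun hxy l
  have h1' := congrFun hxy l'
  simp only [Matrix.mulVec_diagonal, Pi.add_apply, Pi.smul_apply, smul_eq_mul, hl, hl', mul_zero,
    add_zero] at h1 h1'
  rw [h1, h1']
  ring

end general

section orth

variable {F : Type*} [Field F] [Fintype F]

theorem exists_third {N : ℕ} (hN : 2 ≤ N) (i l : Fin (N + 1)) :
    ∃ j : Fin (N + 1), j ≠ i ∧ j ≠ l := by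
  by_contra hcon0
  have hcon : ∀ j : Fin (N + 1), j ≠ i → j = l := fun j hj => by
    by_contra hjl
    exact hcon0 ⟨j, hj, hjl⟩
  have h1 : (Finset.univ : Finset (Fin (N + 1))) ⊆ {i, l} := by
    intro j _
    by_cases hj : j = i
    · simp [hj]
    · simp [hcon j hj]
  have h2 := Finset.card_le_card h1
  have h3 : ({i, l} : Finset (Fin (N + 1))).card ≤ 2 := Finset.card_le_two
  rw [Finset.card_univ, Fintype.card_fin] at h2
  omega

omit [Fintype F] in
theorem Dlast_inv_mul (N : ℕ) (δ : F) (hδ : δ ≠ 0) : Dlast N δ⁻¹ * Dlast N δ = 1 := by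
  unfold Dlast
  rw [Matrix.diagonal_mul_diagonal, ← Matrix.diagonal_one]
  congr 1
  funext i
  by_cases hi : i = Fin.last N
  · simp [hi, hδ]
  · simp [hi]

/-- PIECE O-CENT -/
theorem orth_cent {r f : ℕ} [Fact r.Prime] (hF : Fintype.card F = r ^ f) {N : ℕ} (hN : 2 ≤ N)
    (h2 : (2 : F) ≠ 0) (δ : F) (hδ : δ ≠ 0) (hδN : δ = 1 ∨ 3 ≤ N)
    (a : MulAut (ProjectiveSpecialLinearGroup (Fin (N + 1)) F)) (ha : Odd (orderOf a))
    (hfix : ∀ s : SpecialLinearGroup (Fin (N + 1)) F,
      s.1 * Dlast N δ * s.1ᵀ = Dlast N δ → a (pr s) = pr s) : a = 1 := by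
  obtain ⟨h, τ, rfl, hOI⟩ := Cfsg.Agent.Lib.helper32.S2686.odd_aut_form hF (by omega) a ha
  have hcomm : ∀ s : SpecialLinearGroup (Fin (N + 1)) F, s.1 * s.1 = 1 →
      s.1 * Dlast N δ * s.1ᵀ = Dlast N δ → h.1 * s.1.map τ = s.1 * h.1 :=
    fun s hs2 hsD => hOI s hs2 (hfix s hsD)
  obtain ⟨g, hg⟩ : ∃ g : Fin (N + 1) → F, g = fun i => if i = Fin.last N then δ⁻¹ else 1 :=
    ⟨_, rfl⟩
  have hGD : Matrix.diagonal g * Dlast N δ = 1 := by
    rw [hg]
    exact Dlast_inv_mul N δ hδ
  have hgL : g (Fin.last N) = δ⁻¹ := by rw [hg]; simp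
  have hgne : ∀ i, i ≠ Fin.last N → g i = 1 := by
    intro i hi
    rw [hg]; simp [hi]
  have hg0 : ∀ i, g i ≠ 0 := by
    intro i
    by_cases hi : i = Fin.last N
    · rw [hi, hgL]; exact inv_ne_zero hδ
    · rw [hgne i hi]; exact one_ne_zero
  -- (i) `h` is diagonal
  have hdiag : ∀ l i, l ≠ i → h.1 l i = 0 := by
    intro l i hli
    obtain ⟨j, hji, hjl⟩ := exists_third hN i l
    obtain ⟨x, y, hxy⟩ := key_plane h2 (Matrix.diagonal g) (Dlast N δ) (Matrix.diagonal_transpose g)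
      hGD h.1 τ hcomm (Pi.single i 1) (Pi.single j 1)
      (by rw [dotG_single]; simp [hg0 i])
      (by rw [dotG_single]; simp [hg0 j])
      (by rw [dotG_single]; simp [hji.symm])
    have h1 := congrFun hxy l
    rw [tau_single, Matrix.mulVec_single_one] at h1
    simp [Pi.single_apply, hli, hjl.symm] at h1
    exact h1
  obtain ⟨c, hc⟩ : ∃ c : Fin (N + 1) → F, c = fun i => h.1 i i := ⟨_, rfl⟩
  have hh : h.1 = Matrix.diagonal c := by
    ext l i
    by_cases hli : l = i
    · subst hli; rw [Matrix.diagonal_apply_eq, hc]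
    · rw [Matrix.diagonal_apply_ne _ hli, hdiag l i hli]
  rw [hh] at hcomm
  have hc0 : ∀ i, c i ≠ 0 := by
    intro i hi
    have h1 : h.1 * h⁻¹.1 = 1 := h.val_inv
    have h3 := congrFun (congrFun h1 i) i
    rw [hh, Matrix.diagonal_mul, hi, zero_mul, Matrix.one_apply_eq] at h3
    exact zero_ne_one h3
  have rel := coord_rel h2 g (Dlast N δ) hGD c τ hcomm
  -- (ii) the two-vector relation
  have rel2 : ∀ i j k : Fin (N + 1), i ≠ j → k ≠ i → k ≠ j → ∀ t : F, g i + t ^ 2 * g j ≠ 0 →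
      c j * τ t = c i * t := by
    intro i j k hij hki hkj t ht
    have h1 := rel (Pi.single i 1 + t • Pi.single j 1) (Pi.single k 1)
      (by
        rw [add_dotProduct, smul_dotProduct, dotG_single, dotG_single]
        simp only [Pi.add_apply, Pi.smul_apply, smul_eq_mul, Pi.single_apply, if_true, hij,
          hij.symm, if_false]
        intro h0
        apply ht
        linear_combination h0)
      (by rw [dotG_single]; simp [hg0 k])
      (by
        rw [add_dotProduct, smul_dotProduct, dotG_single, dotG_single]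
        simp [Pi.single_apply, hki.symm, hkj.symm])
      j i (by simp [Pi.single_apply, hkj.symm]) (by simp [Pi.single_apply, hki.symm])
    simp only [Pi.add_apply, Pi.smul_apply, smul_eq_mul, Pi.single_apply, if_true, hij,
      hij.symm, if_false, mul_zero, add_zero, zero_add, mul_one, map_one] at h1
    exact h1
  obtain ⟨i0, hi0⟩ : ∃ i0 : Fin (N + 1), i0 = ⟨0, by omega⟩ := ⟨_, rfl⟩
  obtain ⟨i1, hi1⟩ : ∃ i1 : Fin (N + 1), i1 = ⟨1, by omega⟩ := ⟨_, rfl⟩
  have h01 : i0 ≠ i1 := by rw [hi0, hi1]; simp [Fin.ext_iff]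
  have h0L : i0 ≠ Fin.last N := by rw [hi0]; simp [Fin.ext_iff]; omega
  have h1L : i1 ≠ Fin.last N := by rw [hi1]; simp [Fin.ext_iff]; omega
  -- (iii) equal entries away from the last index
  have hA : ∀ i j : Fin (N + 1), i ≠ j → i ≠ Fin.last N → j ≠ Fin.last N → c j = c i := by
    intro i j hij hi hj
    obtain ⟨k, hki, hkj⟩ := exists_third hN i j
    have h1 := rel2 i j k hij hki hkj 1 (by
      rw [hgne i hi, hgne j hj]
      intro h0
      apply h2
      linear_combination h0)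
    rw [map_one, mul_one, mul_one] at h1
    exact h1
  -- (iv) `τ` fixes every `t` with `1 + t² ≠ 0`
  have hB : ∀ t : F, 1 + t ^ 2 ≠ 0 → τ t = t := by
    intro t ht
    obtain ⟨k, hk0, hk1⟩ := exists_third hN i0 i1
    have h1 := rel2 i0 i1 k h01 hk0 hk1 t (by
      rw [hgne i0 h0L, hgne i1 h1L, mul_one]
      exact ht)
    rw [hA i0 i1 h01 h0L h1L] at h1
    exact mul_left_cancel₀ (hc0 i0) h1
  have hC : ∀ b : F, τ b = b := by
    intro b
    by_cases hb : 1 + b ^ 2 = 0
    · by_cases hb' : 1 + (b + 1) ^ 2 = 0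
      · have h3 : (2 : F) * b = -1 := by linear_combination hb' - hb
        have h4 : τ (2 * b) = τ (-1) := by rw [h3]
        rw [map_mul, map_neg, map_one, map_ofNat, ← h3] at h4
        exact mul_left_cancel₀ h2 h4
      · have h3 := hB (b + 1) hb'
        rw [map_add, map_one] at h3
        exact add_right_cancel h3
    · exact hB b hb
  -- (v) the last index
  have hD : c (Fin.last N) = c i0 := by
    by_cases hd : 1 + δ⁻¹ = 0
    · have hδ1 : δ ≠ 1 := by
        rintro rfl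
        apply h2
        rw [inv_one] at hd
        linear_combination hd
      have hN3 : 3 ≤ N := by
        rcases hδN with h | h
        · exact absurd h hδ1
        · exact h
      obtain ⟨i2, hi2⟩ : ∃ i2 : Fin (N + 1), i2 = ⟨2, by omega⟩ := ⟨_, rfl⟩
      have h02 : i0 ≠ i2 := by rw [hi0, hi2]; simp [Fin.ext_iff]
      have h12 : i1 ≠ i2 := by rw [hi1, hi2]; simp [Fin.ext_iff]
      have h2L : i2 ≠ Fin.last N := by rw [hi2]; simp [Fin.ext_iff]; omega
      have h1 := rel (Pi.single i0 1 + Pi.single i1 1 + Pi.single (Fin.last N) 1) (Pi.single i2 1)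
        (by
          rw [add_dotProduct, add_dotProduct, dotG_single, dotG_single, dotG_single]
          simp only [Pi.add_apply, Pi.single_apply, if_true, h01, h01.symm, h0L, h0L.symm, h1L,
            h1L.symm, if_false, hgne i0 h0L, hgne i1 h1L, hgL]
          intro h0
          apply one_ne_zero (α := F)
          linear_combination h0 - hd)
        (by rw [dotG_single]; simp [hg0 i2])
        (by
          rw [add_dotProduct, add_dotProduct, dotG_single, dotG_single, dotG_single]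
          simp [Pi.single_apply, h02, h12, h2L.symm])
        (Fin.last N) i0 (by simp [Pi.single_apply, h2L.symm]) (by simp [Pi.single_apply, h02])
      simp only [Pi.add_apply, Pi.single_apply, if_true, h01, h01.symm, h0L, h0L.symm, h1L,
        h1L.symm, if_false, add_zero, zero_add, mul_one, map_one] at h1
      exact h1
    · have h1 := rel2 i0 (Fin.last N) i1 h0L h01.symm h1L 1 (by
        rw [hgne i0 h0L, hgL, one_pow, one_mul]
        exact hd)
      rw [map_one, mul_one, mul_one] at h1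
      exact h1
  have hall : ∀ i, c i = c i0 := by
    intro i
    by_cases hi : i = Fin.last N
    · rw [hi, hD]
    · by_cases hi0' : i = i0
      · rw [hi0']
      · exact hA i0 i (Ne.symm hi0') h0L hi
  have hτ : τ = 1 := by
    ext b
    exact hC b
  rw [hτ, map_one, mul_one]
  rw [Cfsg.Agent.Lib.helper47.PSLn.cAut_eq_one_iff (by omega)]
  refine ⟨Units.mk0 (c i0) (hc0 i0), ?_⟩
  rw [hh]
  ext l i
  by_cases hli : l = i
  · subst hli
    simp [hall l]
  · simp [Matrix.diagonal_apply_ne _ hli, Matrix.one_apply_ne hli]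

end orth

end Cfsg.Agent.Lib.helper48.S2686
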