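import Cfsg.Agent.Lib.helper48.LBRefl
import Cfsg.Agent.Lib.helper48.PSpCount
import Cfsg.Agent.S0270

/-!
# S2686, piece S-CORE: `NoCore 2` for the symplectic-type graph automorphism of `PSL_n(F)`
-/

set_option autoImplicit false

namespace Cfsg.Agent.Lib.helper48.S2686

open Matrix Cfsg
open Cfsg.Agent.Lib.helper47
open Cfsg.Agent.Lib.helper47.PSLn (pr cAut pr_surj pr_eq_iff)
open Cfsg.Agent.Lib.helper48.LB

variable {n : ℕ} {F : Type*} [Field F]

/-- the standard alternating matrix is minus the symplectic `J` -/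
theorem stdAlt_eq_neg_J (m : ℕ) :
    Cfsg.Agent.Lib.helper50.stdAlt m F = - Matrix.J (Fin m) F := by
  unfold Matrix.J Cfsg.Agent.Lib.helper50.stdAlt
  rw [Matrix.fromBlocks_neg]
  simp

theorem sp_iff {m : ℕ} (A : Matrix (Fin m ⊕ Fin m) (Fin m ⊕ Fin m) F) :
    A ∈ Matrix.symplecticGroup (Fin m) F ↔
      A * Cfsg.Agent.Lib.helper50.stdAlt m F * Aᵀ = Cfsg.Agent.Lib.helper50.stdAlt m F := by
  rw [SymplecticGroup.mem_iff, stdAlt_eq_neg_J, Matrix.mul_neg, Matrix.neg_mul, neg_inj]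

theorem Aalt_coe {m : ℕ} (e : Fin n ≃ Fin m ⊕ Fin m) :
    (Cfsg.Agent.Lib.helper50.Aalt (F := F) e).1
      = (Cfsg.Agent.Lib.helper50.stdAlt m F).submatrix e e := rfl

/-- the symplectic group inside `SL_n`, reindexed along `e` -/
def spSL {m : ℕ} (e : Fin n ≃ Fin m ⊕ Fin m) :
    Matrix.symplecticGroup (Fin m) F →* SpecialLinearGroup (Fin n) F where
  toFun A := ⟨A.1.submatrix e e, by
    rw [Matrix.det_submatrix_equiv_self]; exact SymplecticGroup.det_eq_one A.2⟩
  map_one' := by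
    apply Subtype.ext
    show (1 : Matrix (Fin m ⊕ Fin m) (Fin m ⊕ Fin m) F).submatrix e e = 1
    exact Matrix.submatrix_one_equiv e
  map_mul' A B := by
    apply Subtype.ext
    show (A.1 * B.1).submatrix e e = A.1.submatrix e e * B.1.submatrix e e
    rw [Matrix.submatrix_mul_equiv]

theorem spSL_coe {m : ℕ} (e : Fin n ≃ Fin m ⊕ Fin m) (A : Matrix.symplecticGroup (Fin m) F) :
    (spSL e A).1 = A.1.submatrix e e := rfl

theorem spSL_form {m : ℕ} (e : Fin n ≃ Fin m ⊕ Fin m) (A : Matrix.symplecticGroup (Fin m) F) :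
    (spSL e A).1 * (Cfsg.Agent.Lib.helper50.Aalt (F := F) e).1 * (spSL e A).1ᵀ
      = (Cfsg.Agent.Lib.helper50.Aalt (F := F) e).1 := by
  rw [spSL_coe, Aalt_coe, Matrix.transpose_submatrix, Matrix.submatrix_mul_equiv,
    Matrix.submatrix_mul_equiv, (sp_iff A.1).mp A.2]

/-- the image of `Sp` in `PSL_n` -/
def spPSL {m : ℕ} (e : Fin n ≃ Fin m ⊕ Fin m) :
    Matrix.symplecticGroup (Fin m) F →* ProjectiveSpecialLinearGroup (Fin n) F :=
  (pr : SpecialLinearGroup (Fin n) F →* ProjectiveSpecialLinearGroup (Fin n) F).comp (spSL e)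

theorem spPSL_apply {m : ℕ} (e : Fin n ≃ Fin m ⊕ Fin m) (A : Matrix.symplecticGroup (Fin m) F) :
    spPSL e A = pr (spSL e A) := rfl

theorem mem_range_spPSL {m : ℕ} (e : Fin n ≃ Fin m ⊕ Fin m) (s : SpecialLinearGroup (Fin n) F)
    (hs : s.1 * (Cfsg.Agent.Lib.helper50.Aalt (F := F) e).1 * s.1ᵀ
      = (Cfsg.Agent.Lib.helper50.Aalt (F := F) e).1) :
    pr s ∈ (spPSL (F := F) e).range := by
  have hA : s.1.submatrix e.symm e.symm ∈ Matrix.symplecticGroup (Fin m) F := by
    rw [sp_iff]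
    have h1 := congrArg (fun X : Matrix (Fin n) (Fin n) F => X.submatrix e.symm e.symm) hs
    simp only [Aalt_coe] at h1
    rw [← Matrix.submatrix_mul_equiv _ _ e.symm e.symm e.symm,
      ← Matrix.submatrix_mul_equiv _ _ e.symm e.symm e.symm] at h1
    simp only [Matrix.submatrix_submatrix, Equiv.self_comp_symm, Matrix.submatrix_id_id,
      Matrix.transpose_submatrix] at h1 ⊢
    exact h1
  refine ⟨⟨_, hA⟩, ?_⟩
  rw [spPSL_apply]
  congr 1
  apply Subtype.ext
  rw [spSL_coe]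
  simp

theorem spPSL_fix {m : ℕ} (e : Fin n ≃ Fin m ⊕ Fin m) (y : ProjectiveSpecialLinearGroup (Fin n) F)
    (hy : y ∈ (spPSL (F := F) e).range) :
    (cAut (Cfsg.Agent.Lib.helper50.Aalt (F := F) e) * PSLn.gAut :
      MulAut (ProjectiveSpecialLinearGroup (Fin n) F)) y = y := by
  obtain ⟨A, rfl⟩ := hy
  rw [spPSL_apply]
  exact graph_fix _ _ (spSL_form e A)

theorem card_of_equiv {m : ℕ} (e : Fin n ≃ Fin m ⊕ Fin m) : n = m + m := by
  have := Fintype.card_congr e
  simpa using this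

theorem center_le_ker {m : ℕ} (hm : 1 ≤ m) (e : Fin n ≃ Fin m ⊕ Fin m) :
    Subgroup.center (Matrix.symplecticGroup (Fin m) F) ≤ (spPSL (F := F) e).ker := by
  intro z hz
  rw [MonoidHom.mem_ker, spPSL_apply]
  rcases Cfsg.Agent.Lib.helper48.PSp.center_cases hm hz with h | h
  · rw [h, map_one, map_one]
  · rw [← map_one (pr : SpecialLinearGroup (Fin n) F →* ProjectiveSpecialLinearGroup (Fin n) F)]
    symm
    rw [pr_eq_iff]
    refine ⟨-1, ?_, ?_⟩
    · rw [card_of_equiv e, ← two_mul, pow_mul]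
      simp
    · rw [h, spSL_coe]
      show (-1 : Matrix (Fin m ⊕ Fin m) (Fin m ⊕ Fin m) F).submatrix e e = _
      ext i j
      by_cases hij : i = j
      · simp [Matrix.one_apply, hij]
      · simp [Matrix.one_apply, hij]

/-- the image of `Sp` contains an involution -/
theorem exists_invol {m : ℕ} (hm : 1 ≤ m) (e : Fin n ≃ Fin m ⊕ Fin m) :
    ∃ y ∈ (spPSL (F := F) e).range, orderOf y = 2 := by
  have hn : n = m + m := card_of_equiv e
  refine ⟨spPSL e (SymplecticGroup.symJ (Fin m) F), ⟨_, rfl⟩, ?_⟩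
  haveI : Fact (Nat.Prime 2) := ⟨Nat.prime_two⟩
  apply orderOf_eq_prime
  · rw [← map_pow, ← MonoidHom.mem_ker]
    apply center_le_ker hm e
    have h1 : (SymplecticGroup.symJ (Fin m) F) ^ 2 = Cfsg.Agent.Lib.helper48.PSp.negOne := by
      apply Subtype.ext
      rw [pow_two]
      show Matrix.J (Fin m) F * Matrix.J (Fin m) F = -1
      exact Matrix.J_squared (Fin m) F
    rw [h1]
    exact Cfsg.Agent.Lib.helper48.PSp.negOne_mem_center
  · intro h
    rw [spPSL_apply, ← map_one (pr : SpecialLinearGroup (Fin n) F →* ProjectiveSpecialLinearGroup (Fin n) F)] at h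
    have h' := h.symm
    rw [pr_eq_iff] at h'
    obtain ⟨c, hc, hcJ⟩ := h'
    rw [spSL_coe] at hcJ
    have h0 := congrFun (congrFun hcJ (e.symm (Sum.inl ⟨0, hm⟩))) (e.symm (Sum.inl ⟨0, hm⟩))
    have hc0 : c = 0 := by
      simp [SymplecticGroup.symJ, Matrix.J] at h0
      exact h0.symm
    rw [hc0, zero_pow (by omega)] at hc
    exact zero_ne_one hc

theorem conj_form {ι : Type*} [Fintype ι] [DecidableEq ι] (J S S' T : Matrix ι ι F) (c : F)
    (hJ : J ≠ 0) (h1 : S * S' = 1) (hS : S * J * Sᵀ = c • J) (hT : T * J * Tᵀ = J) :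
    (S * T * S') * J * (S * T * S')ᵀ = J := by
  have h1' : S' * S = 1 := mul_eq_one_comm.mp h1
  have hT2 : Sᵀ * S'ᵀ = 1 := by rw [← Matrix.transpose_mul, h1', Matrix.transpose_one]
  have hJ2 : S' * (S * J * Sᵀ) * S'ᵀ = J := by
    calc S' * (S * J * Sᵀ) * S'ᵀ = (S' * S) * J * (Sᵀ * S'ᵀ) := by
          simp only [Matrix.mul_assoc]
      _ = J := by rw [h1', hT2, Matrix.one_mul, Matrix.mul_one]
  have hc : c ≠ 0 := by
    rintro rfl
    rw [zero_smul] at hS
    apply hJ
    rw [← hJ2, hS]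
    simp
  have hS' : S' * J * S'ᵀ = c⁻¹ • J := by
    calc S' * J * S'ᵀ = c⁻¹ • (S' * (c • J) * S'ᵀ) := by
          rw [Matrix.mul_smul, Matrix.smul_mul, smul_smul, inv_mul_cancel₀ hc, one_smul]
      _ = c⁻¹ • J := by rw [← hS, hJ2]
  calc (S * T * S') * J * (S * T * S')ᵀ = S * (T * (S' * J * S'ᵀ) * Tᵀ) * Sᵀ := by
        simp only [Matrix.transpose_mul, Matrix.mul_assoc]
    _ = c⁻¹ • (S * (T * J * Tᵀ) * Sᵀ) := by
        rw [hS']
        simp only [Matrix.mul_smul, Matrix.smul_mul]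
    _ = J := by rw [hT, hS, smul_smul, inv_mul_cancel₀ hc, one_smul]

variable [Fintype F]

theorem card_ge_three (h2 : (2 : F) ≠ 0) : 3 ≤ Fintype.card F := by
  classical
  have h12 : (1 : F) ≠ 2 := by
    intro h
    have h0 : (1 : F) = 0 := by linear_combination -h
    exact one_ne_zero h0
  have h : ({0, 1, 2} : Finset F).card = 3 := by
    rw [Finset.card_insert_of_notMem, Finset.card_insert_of_notMem, Finset.card_singleton]
    · simpa using h12
    · simp only [Finset.mem_insert, Finset.mem_singleton, not_or]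
      exact ⟨zero_ne_one, h2.symm⟩
  rw [← h]
  exact Finset.card_le_univ _

/-- PIECE S-CORE, with the pieces FX (`graph_fix_iff`) and S-CENT (`symp_cent`) as hypotheses -/
theorem symp_noCore_of (hn : 3 ≤ n)
    (h2 : (2 : F) ≠ 0) {m : ℕ} (e : Fin n ≃ Fin m ⊕ Fin m)
    (hfx : ∀ s : SpecialLinearGroup (Fin n) F,
      (cAut (Cfsg.Agent.Lib.helper50.Aalt (F := F) e) * PSLn.gAut :
        MulAut (ProjectiveSpecialLinearGroup (Fin n) F)) (pr s) = pr s →
      ∃ c : F, s.1 * (Cfsg.Agent.Lib.helper50.Aalt (F := F) e).1 * s.1ᵀ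
        = c • (Cfsg.Agent.Lib.helper50.Aalt (F := F) e).1)
    (hcent : ∀ a : MulAut (ProjectiveSpecialLinearGroup (Fin n) F), Odd (orderOf a) →
      (∀ s : SpecialLinearGroup (Fin n) F,
        s.1 * (Cfsg.Agent.Lib.helper50.Aalt (F := F) e).1 * s.1ᵀ
          = (Cfsg.Agent.Lib.helper50.Aalt (F := F) e).1 → a (pr s) = pr s) → a = 1) :
    NoCore 2 (cAut (Cfsg.Agent.Lib.helper50.Aalt (F := F) e) * PSLn.gAut :
      MulAut (ProjectiveSpecialLinearGroup (Fin n) F)) := by
  have hnm : n = m + m := card_of_equiv e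
  have hm : 2 ≤ m := by omega
  haveI : Fact (Nat.Prime 2) := ⟨Nat.prime_two⟩
  have hsimp : IsSimpleGroup (Cfsg.PSp m F) :=
    Cfsg.Agent.S0270.result m hm (fun _ => card_ge_three h2)
  apply noCore_of_simple _ (spPSL (F := F) e).range
  · exact spPSL_fix e
  · intro k hk y hy
    obtain ⟨s, rfl⟩ := pr_surj k
    obtain ⟨A, rfl⟩ := hy
    obtain ⟨c, hc⟩ := hfx s hk
    rw [spPSL_apply, ← map_inv, ← map_mul, ← map_mul]
    apply mem_range_spPSL
    have hJ : (Cfsg.Agent.Lib.helper50.Aalt (F := F) e).1 ≠ 0 := by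
      intro h0
      have h3 := Cfsg.Agent.Lib.helper50.reGL_mul e (Cfsg.Agent.Lib.helper50.stdAlt m F)
        (Matrix.J (Fin m) F) (Cfsg.Agent.Lib.helper50.stdAlt_mul_J m)
      have h4 : (Cfsg.Agent.Lib.helper50.Aalt (F := F) e).1 * (Matrix.J (Fin m) F).submatrix e e = 1 := h3
      rw [h0, Matrix.zero_mul] at h4
      have h5 := congrFun (congrFun h4 ⟨0, by omega⟩) ⟨0, by omega⟩
      simp at h5
    have hss : s.1 * (s⁻¹).1 = 1 := by
      rw [← Matrix.SpecialLinearGroup.coe_mul, mul_inv_cancel]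
      simp
    exact conj_form _ s.1 (s⁻¹).1 (spSL e A).1 c hJ hss hc (spSL_form e A)
  · exact fun M hM => range_simple (spPSL e) (Subgroup.center _) (center_le_ker (by omega) e)
      hsimp M hM
  · exact exists_invol (by omega) e
  · intro k hk hcop hcomm
    have hinj := conj_inj_psl (n := n) (F := F) (by omega)
    apply hinj
    rw [map_one]
    apply hcent
    · rw [orderOf_injective _ hinj]
      exact Nat.Coprime.odd_of_right hcop
    · intro s hs
      have h3 := hcomm _ (mem_range_spPSL e s hs)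
      rw [MulAut.conj_apply, h3, mul_inv_cancel_right]

end Cfsg.Agent.Lib.helper48.S2686
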