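import Cfsg.Agent.Lib.helper48.LBRefl
import Cfsg.Agent.Lib.helper50.GraphOdd
import Cfsg.Agent.Lib.helper32.S2686FCENT
import Cfsg.Agent.Lib.helper39.S2686FX
import Cfsg.Agent.Lib.helper39.S2686UCENT
import Cfsg.Agent.Lib.helper61.S2686SCENT
import Cfsg.Agent.Lib.helper48.S2686SCORE
import Cfsg.Agent.Lib.helper48.S2686OCENT
import Cfsg.Agent.Lib.helper57.S2686FCORE
import Cfsg.Agent.Lib.helper50.S2686OCORE
import Cfsg.Agent.Lib.helper49.S2686UCORE

set_option autoImplicit false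

namespace Cfsg.Agent.Lib.helper48.LBGlue

open Matrix Cfsg
open Cfsg.Agent.Lib.helper47
open Cfsg.Agent.Lib.helper47.PSLn (pr cAut pr_surj)
open Cfsg.Agent.Lib.helper48.LB
open Cfsg.Agent.Lib.helper48.AbsBal (fixG)
open Cfsg.Agent.Lib.helper57.S2686 (field_noCore)
open Cfsg.Agent.Lib.helper50.S2686 (orth_noCore)
open Cfsg.Agent.Lib.helper49.S2686 (unit_noCore)
open Cfsg.Agent.Lib.helper32.S2686 (field_noCent)
open Cfsg.Agent.Lib.helper61.S2686 (symp_cent)
open Cfsg.Agent.Lib.helper39.S2686 (unit_cent)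
open Cfsg.Agent.Lib.helper48.S2686 (orth_cent symp_noCore_of)

variable {n : ℕ} {F : Type*} [Field F] [Fintype F]

/-- PIECE S-CORE -/
theorem symp_noCore {r f : ℕ} [Fact r.Prime] (hF : Fintype.card F = r ^ f) (hn : 3 ≤ n)
    (h2 : (2 : F) ≠ 0) {m : ℕ} (e : Fin n ≃ Fin m ⊕ Fin m) :
    NoCore 2 (cAut (Cfsg.Agent.Lib.helper50.Aalt (F := F) e) * PSLn.gAut :
      MulAut (ProjectiveSpecialLinearGroup (Fin n) F)) :=
  symp_noCore_of hn h2 e
    (fun s hs => (Cfsg.Agent.Lib.helper39.S2686.graph_fix_iff (by omega) _ s).mp hs)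
    (fun a ha hfix => symp_cent hF hn h2 e a ha hfix)

/-- fixed points of a conjugate -/
theorem fixG_conj {K : Type*} [Group K] (d x : MulAut K) :
    fixG (d * x * d⁻¹) = (fixG x).map d.toMonoidHom := by
  ext k
  constructor
  · intro hk
    refine ⟨d⁻¹ k, ?_, MulAut.apply_inv_self _ d k⟩
    have h1 : (d * x * d⁻¹) k = k := hk
    simp only [MulAut.mul_apply] at h1
    have h2 := congrArg (fun z => d⁻¹ z) h1
    simp only [MulAut.inv_apply_self] at h2
    exact h2
  · rintro ⟨k₀, hk₀, rfl⟩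
    have hk₀' : x k₀ = k₀ := hk₀
    show (d * x * d⁻¹) (d k₀) = d k₀
    simp only [MulAut.mul_apply, MulAut.inv_apply_self, hk₀']

theorem card_fixG_conj {K : Type*} [Group K] (d x : MulAut K) :
    Nat.card (fixG (d * x * d⁻¹)) = Nat.card (fixG x) := by
  rw [fixG_conj]
  exact Subgroup.card_map_of_injective d.injective

/-- the field automorphism `fAut σ` has a nontrivial fixed point -/
theorem fixG_fAut_ne_bot (hn : 2 ≤ n) (σ : F ≃+* F) :
    fixG (PSLn.fAut σ : MulAut (ProjectiveSpecialLinearGroup (Fin n) F)) ≠ ⊥ := by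
  have : NeZero n := ⟨by omega⟩
  obtain ⟨i, j, hij⟩ : ∃ i j : Fin n, i ≠ j :=
    ⟨⟨0, by omega⟩, ⟨1, by omega⟩, by simp [Fin.ext_iff]⟩
  intro hbot
  have h1 : pr (Matrix.SpecialLinearGroup.transvection hij (1 : F)) ∈ fixG (PSLn.fAut σ :
      MulAut (ProjectiveSpecialLinearGroup (Fin n) F)) := by
    show PSLn.fAut σ (pr (Matrix.SpecialLinearGroup.transvection hij (1 : F))) = pr (Matrix.SpecialLinearGroup.transvection hij 1)
    rw [PSLn.fAut_pr, PSLn.mapSL_Tv, map_one]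
  rw [hbot, Subgroup.mem_bot] at h1
  have h2 : pr (Matrix.SpecialLinearGroup.transvection hij (1 : F)) = pr (Matrix.SpecialLinearGroup.transvection hij (0 : F)) := by
    rw [h1]
    have h3 : Matrix.SpecialLinearGroup.transvection hij (0 : F) = 1 := by
      apply Subtype.ext
      rw [Matrix.SpecialLinearGroup.transvection_coe]
      simp
    rw [h3, map_one]
  exact one_ne_zero (PSLn.pr_Tv_inj hij _ _ h2)

/-- **field type** -/
theorem field_type {r f : ℕ} [Fact r.Prime] (hF : Fintype.card F = r ^ f) (hn : 2 ≤ n)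
    (𝒢 : Subgroup (MulAut (ProjectiveSpecialLinearGroup (Fin n) F)))
    (hinn : ∀ k : ProjectiveSpecialLinearGroup (Fin n) F, MulAut.conj k ∈ 𝒢)
    {p : ℕ} [Fact p.Prime] (hpr : p ≠ r) (g : GL (Fin n) F) (σ : F ≃+* F)
    (hord : orderOf (cAut g * PSLn.fAut σ : MulAut (ProjectiveSpecialLinearGroup (Fin n) F)) = p)
    (hnot : ¬ Cfsg.IsInnerDiagonalAutPSL
      (cAut g * PSLn.fAut σ : MulAut (ProjectiveSpecialLinearGroup (Fin n) F))) :
    Cfsg.pPrimeCore p ↥(𝒢 ⊓ Subgroup.centralizer {cAut g * PSLn.fAut σ}) ≠ ⊥ ↔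
      Nat.Coprime p (Nat.card ↥(MonoidHom.eqLocus
        (cAut g * PSLn.fAut σ : MulAut (ProjectiveSpecialLinearGroup (Fin n) F)).toMonoidHom
        (MonoidHom.id (ProjectiveSpecialLinearGroup (Fin n) F)))) := by
  have hp : p.Prime := Fact.out
  have hσ1 : σ ≠ 1 := by
    rintro rfl
    apply hnot
    rw [map_one, mul_one]
    exact PSLn.isInnerDiagonal_cAut g
  have hpow : (cAut g * PSLn.fAut σ : MulAut (ProjectiveSpecialLinearGroup (Fin n) F)) ^ p = 1 := by
    rw [← hord]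
    exact pow_orderOf_eq_one _
  have hσp : σ ^ p = 1 := by
    have h1 := hpow
    rw [PSLn.pow_cAut_fAut] at h1
    have h2 : (cAut (PSLn.NkGL σ g p) * PSLn.fAut (σ ^ p) :
        MulAut (ProjectiveSpecialLinearGroup (Fin n) F)) = cAut 1 * PSLn.fAut 1 := by
      rw [h1, map_one, map_one, mul_one]
    exact (PSLn.normal_form_unique hn _ _ _ _ h2).2
  have hσ : orderOf σ = p := by
    have h1 : orderOf σ ∣ p := orderOf_dvd_of_pow_eq_one hσp
    rcases (Nat.dvd_prime hp).mp h1 with h2 | h2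
    · exact absurd (orderOf_eq_one_iff.mp h2) hσ1
    · exact h2
  obtain ⟨h, hh⟩ := PSLn.field_case hn σ p hp.pos hσ g hpow
  rw [hh]
  apply core_ne_bot_iff_coprime (conj_inj_psl hn) 𝒢 hinn
  · intro hdvd
    apply noCore_conj
    apply field_noCore hF hn σ hpr hσ
    rwa [card_fixG_conj] at hdvd
  · apply noCent_conj
    exact field_noCent hF hn σ hp hσ
  · rw [fixG_conj]
    intro hb
    exact fixG_fAut_ne_bot hn σ
      ((Subgroup.map_eq_bot_iff_of_injective _ (cAut h : MulAut _).injective).mp hb)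

/-- the square of a graph-type automorphism -/
theorem graph_sq (g : GL (Fin n) F) (σ : F ≃+* F) :
    (cAut g * PSLn.fAut σ * PSLn.gAut : MulAut (ProjectiveSpecialLinearGroup (Fin n) F))
        * (cAut g * PSLn.fAut σ * PSLn.gAut)
      = cAut (g * Matrix.GeneralLinearGroup.map (σ : F →+* F) (PSLn.itGL g)) * PSLn.fAut (σ * σ) := by
  calc (cAut g * PSLn.fAut σ * PSLn.gAut : MulAut (ProjectiveSpecialLinearGroup (Fin n) F))
        * (cAut g * PSLn.fAut σ * PSLn.gAut)
      = cAut g * PSLn.fAut σ * (PSLn.gAut * cAut g) * PSLn.fAut σ * PSLn.gAut := by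
        simp only [mul_assoc]
    _ = cAut g * (PSLn.fAut σ * cAut (PSLn.itGL g)) * (PSLn.gAut * PSLn.fAut σ) * PSLn.gAut := by
        rw [PSLn.gAut_mul_cAut]; simp only [mul_assoc]
    _ = cAut g * (cAut (Matrix.GeneralLinearGroup.map (σ : F →+* F) (PSLn.itGL g)) * PSLn.fAut σ)
          * (PSLn.fAut σ * PSLn.gAut) * PSLn.gAut := by
        rw [PSLn.fAut_mul_cAut, PSLn.gAut_mul_fAut]
    _ = cAut g * cAut (Matrix.GeneralLinearGroup.map (σ : F →+* F) (PSLn.itGL g))
          * (PSLn.fAut σ * PSLn.fAut σ) * (PSLn.gAut * PSLn.gAut) := by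
        simp only [mul_assoc]
    _ = _ := by rw [PSLn.gAut_mul_self, mul_one, ← map_mul, ← map_mul]

/-- an odd power of a graph-type automorphism is of graph type -/
theorem graph_pow_odd (g : GL (Fin n) F) (σ : F ≃+* F) (k : ℕ) :
    ∃ (g' : GL (Fin n) F) (σ' : F ≃+* F),
      (cAut g * PSLn.fAut σ * PSLn.gAut : MulAut (ProjectiveSpecialLinearGroup (Fin n) F)) ^ (2 * k + 1)
        = cAut g' * PSLn.fAut σ' * PSLn.gAut := by
  rw [pow_succ, pow_mul, pow_two, graph_sq, PSLn.pow_cAut_fAut]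
  refine ⟨PSLn.NkGL (σ * σ) (g * Matrix.GeneralLinearGroup.map (σ : F →+* F) (PSLn.itGL g)) k
    * Matrix.GeneralLinearGroup.map (((σ * σ) ^ k : F ≃+* F) : F →+* F) g, (σ * σ) ^ k * σ, ?_⟩
  calc cAut (PSLn.NkGL (σ * σ) (g * Matrix.GeneralLinearGroup.map (σ : F →+* F) (PSLn.itGL g)) k)
        * PSLn.fAut ((σ * σ) ^ k) * (cAut g * PSLn.fAut σ * PSLn.gAut)
      = cAut (PSLn.NkGL (σ * σ) (g * Matrix.GeneralLinearGroup.map (σ : F →+* F) (PSLn.itGL g)) k)
        * (PSLn.fAut ((σ * σ) ^ k) * cAut g) * PSLn.fAut σ * PSLn.gAut := by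
        simp only [mul_assoc]
    _ = _ := by
        rw [PSLn.fAut_mul_cAut, map_mul, map_mul]
        simp only [mul_assoc]

theorem two_ne_zero_of_char {r : ℕ} [Fact r.Prime] [CharP F r] (hr : r ≠ 2) : (2 : F) ≠ 0 := by
  intro h
  have h1 : ((2 : ℕ) : F) = 0 := by exact_mod_cast h
  rw [CharP.cast_eq_zero_iff F r] at h1
  have hr' : r.Prime := Fact.out
  exact hr ((Nat.prime_dvd_prime_iff_eq hr' Nat.prime_two).mp h1)

/-- `NoCent 2` for the orthogonal representative -/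
theorem orth_noCent {r f : ℕ} [Fact r.Prime] (hF : Fintype.card F = r ^ f) {N : ℕ} (hN : 2 ≤ N)
    (h2 : (2 : F) ≠ 0) (δ : Fˣ) (hδN : (δ : F) = 1 ∨ 3 ≤ N) :
    NoCent 2 (cAut (dlast N δ) * PSLn.gAut :
      MulAut (ProjectiveSpecialLinearGroup (Fin (N + 1)) F)) := by
  intro a _ hfix hcop
  exact orth_cent hF hN h2 (δ : F) δ.ne_zero hδN a (Nat.Coprime.odd_of_right hcop)
    (fun s hs => hfix _ (graph_fix (dlast N δ) s hs))

/-- `NoCent 2` for the symplectic representative -/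
theorem symp_noCent {r f : ℕ} [Fact r.Prime] (hF : Fintype.card F = r ^ f) (hn : 3 ≤ n)
    (h2 : (2 : F) ≠ 0) {m : ℕ} (e : Fin n ≃ Fin m ⊕ Fin m) :
    NoCent 2 (cAut (Cfsg.Agent.Lib.helper50.Aalt (F := F) e) * PSLn.gAut :
      MulAut (ProjectiveSpecialLinearGroup (Fin n) F)) := by
  intro a _ hfix hcop
  exact symp_cent hF hn h2 e a (Nat.Coprime.odd_of_right hcop)
    (fun s hs => hfix _ (graph_fix (Cfsg.Agent.Lib.helper50.Aalt (F := F) e) s hs))

/-- `NoCent 2` for the unitary representative -/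
theorem unit_noCent {r f : ℕ} [Fact r.Prime] (hF : Fintype.card F = r ^ f) (hn : 3 ≤ n)
    (h2 : (2 : F) ≠ 0) (σ : F ≃+* F) (hσ1 : σ ≠ 1) (hσ2 : σ * σ = 1) :
    NoCent 2 (PSLn.fAut σ * PSLn.gAut : MulAut (ProjectiveSpecialLinearGroup (Fin n) F)) := by
  intro a _ hfix hcop
  exact unit_cent hF hn h2 σ hσ1 hσ2 a (Nat.Coprime.odd_of_right hcop)
    (fun s hs => hfix _ (unit_fix σ hσ2 s hs))

/-- transport along `IsConjUnder` -/
theorem good_of_conj {K : Type*} [Group K] {H : Subgroup (MulAut K)} {x y : MulAut K} {p : ℕ}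
    (h : IsConjUnder H y x) (h1 : NoCore p x) (h2 : NoCent p x) : NoCore p y ∧ NoCent p y := by
  obtain ⟨d, -, hd⟩ := h
  have hy : y = d⁻¹ * x * d⁻¹⁻¹ := by
    rw [hd]; group
  rw [hy]
  exact ⟨noCore_conj _ _ h1, noCent_conj _ _ h2⟩

/-- **graph types**: the core is trivial -/
theorem graph_type {r f : ℕ} [Fact r.Prime] [CharP F r] (hF : Fintype.card F = r ^ f)
    (hn : 3 ≤ n) (𝒢 : Subgroup (MulAut (ProjectiveSpecialLinearGroup (Fin n) F)))
    (hinn : ∀ k : ProjectiveSpecialLinearGroup (Fin n) F, MulAut.conj k ∈ 𝒢)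
    {p : ℕ} [Fact p.Prime] (hpr : p ≠ r) (g : GL (Fin n) F) (σ : F ≃+* F)
    (hord : orderOf (cAut g * PSLn.fAut σ * PSLn.gAut :
      MulAut (ProjectiveSpecialLinearGroup (Fin n) F)) = p) :
    Cfsg.pPrimeCore p ↥(𝒢 ⊓ Subgroup.centralizer {cAut g * PSLn.fAut σ * PSLn.gAut}) = ⊥ := by
  have hp : p.Prime := Fact.out
  have hpow : (cAut g * PSLn.fAut σ * PSLn.gAut :
      MulAut (ProjectiveSpecialLinearGroup (Fin n) F)) ^ p = 1 := by
    rw [← hord]
    exact pow_orderOf_eq_one _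
  -- `p = 2`
  have hp2 : p = 2 := by
    rcases hp.eq_two_or_odd' with h | h
    · exact h
    · exfalso
      obtain ⟨k, rfl⟩ := h
      obtain ⟨g', σ', hg'⟩ := graph_pow_odd g σ k
      rw [hg'] at hpow
      have h1 : (cAut 1 * PSLn.fAut 1 : MulAut (ProjectiveSpecialLinearGroup (Fin n) F))
          = cAut g' * PSLn.fAut σ' * PSLn.gAut := by
        rw [hpow, map_one, map_one, mul_one]
      exact PSLn.normal_form_ne hn _ _ _ _ h1
  subst hp2
  have h2 : (2 : F) ≠ 0 := two_ne_zero_of_char (r := r) (fun h => hpr h.symm)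
  have hsq : (cAut g * PSLn.fAut σ * PSLn.gAut : MulAut (ProjectiveSpecialLinearGroup (Fin n) F))
      * (cAut g * PSLn.fAut σ * PSLn.gAut) = 1 := by
    rw [← pow_two]; exact hpow
  have hσ2 : σ * σ = 1 := by
    have h1 := hsq
    rw [graph_sq] at h1
    have h3 : (cAut (g * Matrix.GeneralLinearGroup.map (σ : F →+* F) (PSLn.itGL g)) * PSLn.fAut (σ * σ) :
        MulAut (ProjectiveSpecialLinearGroup (Fin n) F)) = cAut 1 * PSLn.fAut 1 := by
      rw [h1, map_one, map_one, mul_one]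
    exact (PSLn.normal_form_unique (by omega) _ _ _ _ h3).2
  have key : NoCore 2 (cAut g * PSLn.fAut σ * PSLn.gAut :
        MulAut (ProjectiveSpecialLinearGroup (Fin n) F)) ∧
      NoCent 2 (cAut g * PSLn.fAut σ * PSLn.gAut :
        MulAut (ProjectiveSpecialLinearGroup (Fin n) F)) := by
    by_cases hσ1 : σ = 1
    · subst hσ1
      rw [map_one, mul_one] at hsq ⊢
      rw [cAut_mul_gAut] at hsq
      obtain ⟨c, hc⟩ := (Cfsg.Agent.Lib.helper50.graphAut_sq_eq_one_iff g).mp hsq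
      rcases Cfsg.Agent.Lib.helper50.symm_or_skew (by omega) g (c : F) hc with hsym | hskew
      · -- orthogonal type
        obtain ⟨N, rfl⟩ : ∃ N, n = N + 1 := ⟨n - 1, by omega⟩
        have hN : 2 ≤ N := by omega
        have hex : ∃ δ : Fˣ, ((δ : F) = 1 ∨ 3 ≤ N) ∧
            IsConjUnder (inndiagPSL (N + 1) F) (Cfsg.Agent.Lib.helper50.graphAut g)
              (Cfsg.Agent.Lib.helper50.graphAut (dlast N δ)) := by
          by_cases hN3 : 3 ≤ N
          · have hch : ringChar F ≠ 2 := by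
              intro h
              apply h2
              have h3 : ((2 : ℕ) : F) = 0 := by
                rw [← h]; exact ringChar.Nat.cast_ringChar
              exact_mod_cast h3
            obtain ⟨α, hα⟩ := FiniteField.exists_nonsquare hch
            obtain ⟨g', δ, hδ, hg'⟩ := Cfsg.Agent.Lib.helper50.exists_cong_diag h2 α hα g hsym
            have hδ0 : δ ≠ 0 := by
              rcases hδ with rfl | rfl
              · exact one_ne_zero
              · rintro rfl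
                exact hα ⟨0, by simp⟩
            exact ⟨Units.mk0 δ hδ0, Or.inr hN3,
              Cfsg.Agent.Lib.helper50.conj_of_cong g (dlast N (Units.mk0 δ hδ0)) g' (by
                rw [hg']; rfl)⟩
          · have hN2 : N = 2 := by omega
            subst hN2
            refine ⟨1, Or.inl (by simp), ?_⟩
            exact Cfsg.Agent.Lib.helper50.conj_all_odd h2 (m := 1) (by norm_num) g (dlast 2 1) hsym
              (by rw [dlast_coe]; exact Dlast_transpose _ _)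
        obtain ⟨δ, hδN, hconj⟩ := hex
        rw [← cAut_mul_gAut, ← cAut_mul_gAut] at hconj
        exact good_of_conj hconj (orth_noCore hF hN h2 δ hδN) (orth_noCent hF hN h2 δ hδN)
      · -- symplectic type
        rcases Nat.even_or_odd' n with ⟨m, hm | hm⟩
        · have e : Fin n ≃ Fin m ⊕ Fin m :=
            (finCongr (by omega : n = m + m)).trans finSumFinEquiv.symm
          obtain ⟨g', hg'⟩ := Cfsg.Agent.Lib.helper50.exists_cong_alt g
            (fun v => Cfsg.Agent.Lib.helper50.skew_alt h2 _ hskew v) e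
          have hconj := Cfsg.Agent.Lib.helper50.conj_of_cong g
            (Cfsg.Agent.Lib.helper50.Aalt (F := F) e) g' (by rw [hg']; rfl)
          rw [← cAut_mul_gAut, ← cAut_mul_gAut] at hconj
          exact good_of_conj hconj (symp_noCore hF hn h2 e) (symp_noCent hF hn h2 e)
        · exact (Cfsg.Agent.Lib.helper50.not_skew_of_odd h2 hm g hskew).elim
    · -- unitary type
      have hpow2 : (cAut g * (PSLn.fAut σ * PSLn.gAut) :
          MulAut (ProjectiveSpecialLinearGroup (Fin n) F)) ^ 2 = 1 := by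
        rw [← mul_assoc]; exact hpow
      obtain ⟨h, hh⟩ := PSLn.graph_field_case (by omega) σ hσ1 hσ2 g hpow2
      rw [mul_assoc, hh]
      exact ⟨noCore_conj _ _ (unit_noCore hF hn h2 σ hσ1 hσ2),
        noCent_conj _ _ (unit_noCent hF hn h2 σ hσ1 hσ2)⟩
  exact core_eq_bot (conj_inj_psl (by omega)) 𝒢 hinn _ key.1 key.2

/-- **Local balance for almost simple groups with socle `PSL_n(F)`** -/
theorem local_balance_psl (F : Type*) [Field F] [Fintype F] (r : ℕ) [Fact r.Prime] [CharP F r]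
    (n : ℕ) (hn : 2 ≤ n)
    (𝒢 : Subgroup (MulAut (Matrix.ProjectiveSpecialLinearGroup (Fin n) F)))
    (hinn : ∀ k : Matrix.ProjectiveSpecialLinearGroup (Fin n) F, MulAut.conj k ∈ 𝒢)
    (p : ℕ) [Fact p.Prime] (hpr : p ≠ r)
    (β : MulAut (Matrix.ProjectiveSpecialLinearGroup (Fin n) F)) (hord : orderOf β = p)
    (hnot : ¬ Cfsg.IsInnerDiagonalAutPSL β) :
    Cfsg.pPrimeCore p ↥(𝒢 ⊓ Subgroup.centralizer {β}) ≠ ⊥ ↔
      ((∃ γ φ : MulAut (Matrix.ProjectiveSpecialLinearGroup (Fin n) F),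
          Cfsg.IsInnerDiagonalAutPSL γ ∧ Cfsg.IsFieldAutPSL φ ∧ β = φ.trans γ) ∧
        Nat.Coprime p (Nat.card ↥(MonoidHom.eqLocus β.toMonoidHom
          (MonoidHom.id (Matrix.ProjectiveSpecialLinearGroup (Fin n) F))))) := by
  obtain ⟨f, hF⟩ : ∃ f : ℕ, Fintype.card F = r ^ f := by
    obtain ⟨k, -, hk⟩ := FiniteField.card F r
    exact ⟨k, hk⟩
  have hstruct : (∃ (g : GL (Fin n) F) (σ : F ≃+* F), β = cAut g * PSLn.fAut σ) ∨
      (3 ≤ n ∧ ∃ (g : GL (Fin n) F) (σ : F ≃+* F), β = cAut g * PSLn.fAut σ * PSLn.gAut) := by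
    by_cases h3 : 3 ≤ n
    · obtain ⟨g, σ, γ, hγ, hβ⟩ := PSLn.aut_structure_all hF hn β
      rcases hγ with rfl | rfl
      · exact Or.inl ⟨g, σ, by rw [hβ, mul_one]⟩
      · exact Or.inr ⟨h3, g, σ, hβ⟩
    · have h2 : n = 2 := by omega
      subst h2
      obtain ⟨g, σ, hβ⟩ := PSLn.aut_structure_two hF β
      exact Or.inl ⟨g, σ, hβ⟩
  rcases hstruct with ⟨g, σ, rfl⟩ | ⟨h3, g, σ, rfl⟩
  · rw [field_type hF hn 𝒢 hinn hpr g σ hord hnot]
    constructor
    · intro h
      exact ⟨⟨cAut g, PSLn.fAut σ, PSLn.isInnerDiagonal_cAut g, ⟨σ, PSLn.isStdField_fAut σ⟩, rfl⟩, h⟩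
    · intro h
      exact h.2
  · constructor
    · intro h
      exact absurd (graph_type hF h3 𝒢 hinn hpr g σ hord) h
    · rintro ⟨⟨γ, φ, hγ, ⟨σ', hφ⟩, hβ⟩, -⟩
      exfalso
      obtain ⟨g', rfl⟩ := PSLn.exists_cAut_of_isInnerDiagonal γ hγ
      have hφ' := PSLn.eq_fAut_of_isStd σ' φ hφ
      subst hφ'
      exact PSLn.normal_form_ne h3 g' g σ' σ hβ.symm

end Cfsg.Agent.Lib.helper48.LBGlue
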