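import Cfsg.Agent.Lib.helper48.AbsBal
import Cfsg.Agent.Lib.helper49.OddField3
import Cfsg.Agent.S0295

/-!
# Local balance for almost simple groups with socle `Ω_{2m+1}(F)`
-/

set_option autoImplicit false

namespace Cfsg.Agent.Lib.helper48.OddBal

open Matrix Cfsg QuadraticMap
open Cfsg.Agent.Lib.helper49 Cfsg.Agent.Lib.helper42 Cfsg.Agent.Lib.helper17
open Cfsg.Agent.Lib.helper49.OddField
open scoped commutatorElement

/-- the index type of the odd-dimensional form -/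
abbrev Idx (m : ℕ) : Type := Unit ⊕ (Fin m ⊕ Fin m)

section bc
variable {m : ℕ} {K₀ F : Type*} [Field K₀] [Field F]

/-- Gram matrix criterion for isometries of the odd-dimensional form. -/
theorem mem_iso_iff_gram (h2 : (2 : F) ≠ 0) (g : GL (Idx m) F) :
    g ∈ isometryGroup F (quadFormOdd m F) ↔
      (g : Matrix (Idx m) (Idx m) F)ᵀ * gramOdd m F * (g : Matrix (Idx m) (Idx m) F)
        = gramOdd m F := by
  rw [Cfsg.Agent.Lib.helper17.mem_isometryGroup_iff]
  constructor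
  · intro hc
    apply Cfsg.Agent.Lib.helper50.bil_ext
    intro u v
    rw [← Cfsg.Agent.Lib.helper50.dot_conj]
    have h1 := polar_quadFormOdd m ((g : Matrix _ _ F) *ᵥ u) ((g : Matrix _ _ F) *ᵥ v)
    have h3 := polar_quadFormOdd m u v
    rw [Matrix.toBilin'_apply'] at h1 h3
    rw [← h1, ← h3]
    unfold polar
    rw [← Matrix.mulVec_add, hc, hc, hc]
  · intro hν v
    rw [odd_eq_half h2, odd_eq_half h2, Cfsg.Agent.Lib.helper50.dot_conj, hν]

theorem two_ne_zero_of_hom (h2 : (2 : F) ≠ 0) (ι : K₀ →+* F) : (2 : K₀) ≠ 0 := by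
  intro h
  apply h2
  have h' := congrArg ι h
  rw [map_ofNat, map_zero] at h'
  exact h'

theorem map_mem_iso (h2 : (2 : F) ≠ 0) (ι : K₀ →+* F) (g : GL (Idx m) K₀)
    (hg : g ∈ isometryGroup K₀ (quadFormOdd m K₀)) :
    Matrix.GeneralLinearGroup.map ι g ∈ isometryGroup F (quadFormOdd m F) := by
  rw [mem_iso_iff_gram h2]
  rw [mem_iso_iff_gram (two_ne_zero_of_hom h2 ι)] at hg
  have h1 := congrArg (fun M : Matrix (Idx m) (Idx m) K₀ => M.map ι) hg
  simp only [Matrix.map_mul, gramOdd_map, Matrix.transpose_map] at h1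
  exact h1

/-- base change of isometries along a field homomorphism -/
noncomputable def bcO (h2 : (2 : F) ≠ 0) (ι : K₀ →+* F) :
    ↥(isometryGroup K₀ (quadFormOdd m K₀)) →* ↥(isometryGroup F (quadFormOdd m F)) :=
  ((Matrix.GeneralLinearGroup.map (n := Idx m) ι).comp
    (isometryGroup K₀ (quadFormOdd m K₀)).subtype).codRestrict _
    (fun g => map_mem_iso h2 ι g.1 g.2)

theorem bcO_val (h2 : (2 : F) ≠ 0) (ι : K₀ →+* F) (g : ↥(isometryGroup K₀ (quadFormOdd m K₀))) :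
    (((bcO h2 ι g : ↥(isometryGroup F (quadFormOdd m F))) : GL (Idx m) F) :
      Matrix (Idx m) (Idx m) F) = ((g : GL (Idx m) K₀) : Matrix (Idx m) (Idx m) K₀).map ι := rfl

theorem bcO_injective (h2 : (2 : F) ≠ 0) (ι : K₀ →+* F) :
    Function.Injective (bcO (m := m) h2 ι) := by
  intro a b hab
  apply Subtype.ext
  apply Units.ext
  have h1 := congrArg (fun z : ↥(isometryGroup F (quadFormOdd m F)) =>
    ((z : GL (Idx m) F) : Matrix (Idx m) (Idx m) F)) hab
  simp only [bcO_val] at h1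
  ext i j
  have h3 := congrFun (congrFun h1 i) j
  simp only [Matrix.map_apply] at h3
  exact ι.injective h3

theorem bcO_mem_Omega (h2 : (2 : F) ≠ 0) (ι : K₀ →+* F)
    (s : ↥(isometryGroup K₀ (quadFormOdd m K₀))) (hs : s ∈ Omega K₀ (quadFormOdd m K₀)) :
    bcO h2 ι s ∈ Omega F (quadFormOdd m F) := by
  have h : (commutator ↥(isometryGroup K₀ (quadFormOdd m K₀))).map (bcO (m := m) h2 ι)
      ≤ commutator ↥(isometryGroup F (quadFormOdd m F)) := by
    rw [commutator_def, Subgroup.map_commutator]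
    exact Subgroup.commutator_mono le_top le_top
  exact h (Subgroup.mem_map_of_mem _ hs)

/-- base change on `Ω` -/
noncomputable def bcOm (h2 : (2 : F) ≠ 0) (ι : K₀ →+* F) :
    ↥(Omega K₀ (quadFormOdd m K₀)) →* ↥(Omega F (quadFormOdd m F)) :=
  ((bcO (m := m) h2 ι).comp (Omega K₀ (quadFormOdd m K₀)).subtype).codRestrict _
    (fun s => bcO_mem_Omega h2 ι s.1 s.2)

theorem bcOm_val (h2 : (2 : F) ≠ 0) (ι : K₀ →+* F) (s : ↥(Omega K₀ (quadFormOdd m K₀))) :
    ((bcOm h2 ι s : ↥(Omega F (quadFormOdd m F))) : ↥(isometryGroup F (quadFormOdd m F)))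
      = bcO h2 ι s.1 := rfl

theorem bcOm_injective (h2 : (2 : F) ≠ 0) (ι : K₀ →+* F) :
    Function.Injective (bcOm (m := m) h2 ι) := by
  intro a b hab
  apply Subtype.ext
  apply bcO_injective h2 ι
  have h1 := congrArg Subtype.val hab
  exact h1

/-- the rational points of `Ω`, mapped to `PΩ` -/
noncomputable def psiO (h2 : (2 : F) ≠ 0) (ι : K₀ →+* F) :
    ↥(Omega K₀ (quadFormOdd m K₀)) →* POmega F (quadFormOdd m F) :=
  (QuotientGroup.mk' (Subgroup.center (Omega F (quadFormOdd m F)))).comp (bcOm h2 ι)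

theorem psiO_apply (h2 : (2 : F) ≠ 0) (ι : K₀ →+* F) (s : ↥(Omega K₀ (quadFormOdd m K₀))) :
    psiO h2 ι s = QuotientGroup.mk (bcOm h2 ι s) := rfl

end bc

section fin
variable {m : ℕ} {F : Type*} [Field F] [Fintype F]

theorem center_Omega_odd (h2 : (2 : F) ≠ 0) (hm : 3 ≤ m) :
    Subgroup.center (Omega F (quadFormOdd m F)) = ⊥ := by
  have hQ := Cfsg.Agent.Lib.helper17.oddForm_nondeg17 h2 m
  rw [Subgroup.eq_bot_iff_forall]
  intro z hz
  rcases center_Omega_pm (oddForm m F) hQ (AutOm.oddFrame m hm) z hz with h | h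
  · apply Subtype.ext
    apply Subtype.ext
    apply Units.ext
    exact h
  · exfalso
    have hd := ((mem_Omega_iff_det_spinor h2 (oddForm m F) hQ z.1).mp z.2).1
    have hd' : (((z : ↥(isometryGroup F (quadFormOdd m F))) : GL (Idx m) F) :
        Matrix (Idx m) (Idx m) F).det = 1 := congrArg Units.val hd
    rw [h, Matrix.det_neg, Matrix.det_one, mul_one, card_oddIdx, Odd.neg_one_pow ⟨m, rfl⟩] at hd'
    apply h2
    linear_combination -hd'

theorem mk_inj (h2 : (2 : F) ≠ 0) (hm : 3 ≤ m) {a b : ↥(Omega F (quadFormOdd m F))}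
    (h : (QuotientGroup.mk a : POmega F (quadFormOdd m F)) = QuotientGroup.mk b) : a = b := by
  have h1 : a⁻¹ * b ∈ Subgroup.center (Omega F (quadFormOdd m F)) := QuotientGroup.eq.mp h
  rw [center_Omega_odd h2 hm, Subgroup.mem_bot] at h1
  exact inv_mul_eq_one.mp h1

theorem pair_one_sigma (σ : F ≃+* F) :
    IsSemisimilarityPair (quadFormOdd m F) (1 : GL (Idx m) F) σ :=
  ⟨1, fun v => by rw [Units.val_one, Matrix.one_mulVec, Units.val_one, one_mul, odd_sigma]⟩

theorem exists_sigma_Omega (σ : F ≃+* F) (s : ↥(Omega F (quadFormOdd m F))) :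
    ∃ s' : ↥(Omega F (quadFormOdd m F)),
      (((s' : ↥(isometryGroup F (quadFormOdd m F))) : GL (Idx m) F) : Matrix (Idx m) (Idx m) F)
        = (((s : ↥(isometryGroup F (quadFormOdd m F))) : GL (Idx m) F) :
            Matrix (Idx m) (Idx m) F).map σ := by
  obtain ⟨s', hs'⟩ := exists_semiConj_Omega (quadFormOdd m F) 1 σ (pair_one_sigma σ) s
  refine ⟨s', ?_⟩
  rw [hs', one_mul, inv_one, mul_one, GLmap_val]

/-- fixed points of the standard field automorphism -/
theorem fix_iff (h2 : (2 : F) ≠ 0) (hm : 3 ≤ m) (σ : F ≃+* F)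
    (φ : MulAut (POmega F (quadFormOdd m F))) (hφ : IsFieldAutPOmegaOf (quadFormOdd m F) σ φ)
    (s : ↥(Omega F (quadFormOdd m F))) :
    φ (QuotientGroup.mk s) = QuotientGroup.mk s ↔
      (((s : ↥(isometryGroup F (quadFormOdd m F))) : GL (Idx m) F) :
            Matrix (Idx m) (Idx m) F).map σ
        = (((s : ↥(isometryGroup F (quadFormOdd m F))) : GL (Idx m) F) :
            Matrix (Idx m) (Idx m) F) := by
  constructor
  · intro h
    obtain ⟨s', hs'⟩ := exists_sigma_Omega σ s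
    rw [hφ s s' hs'] at h
    rw [← hs', mk_inj h2 hm h]
  · intro h
    exact hφ s s h.symm

open Cfsg.Agent.Lib.helper48.Split in
/-- a `σ`-fixed isometry is rational -/
theorem exists_rational (h2 : (2 : F) ≠ 0) (σ : F ≃+* F)
    (s : ↥(isometryGroup F (quadFormOdd m F)))
    (hs : ((s : GL (Idx m) F) : Matrix (Idx m) (Idx m) F).map σ
        = ((s : GL (Idx m) F) : Matrix (Idx m) (Idx m) F)) :
    ∃ s₀ : ↥(isometryGroup (fixK σ) (quadFormOdd m (fixK σ))),
      bcO h2 (fixK σ).subtype s₀ = s := by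
  obtain ⟨M₀, hM₀⟩ : ∃ M₀ : Matrix (Idx m) (Idx m) (fixK σ),
      M₀.map (fixK σ).subtype = ((s : GL (Idx m) F) : Matrix (Idx m) (Idx m) F) :=
    ⟨fun a b => ⟨((s : GL (Idx m) F) : Matrix (Idx m) (Idx m) F) a b,
      congrFun (congrFun hs a) b⟩, by ext a b; rfl⟩
  have hinjM : Function.Injective
      (fun M : Matrix (Idx m) (Idx m) (fixK σ) => M.map (fixK σ).subtype) := by
    intro A B hAB
    ext i j
    have h3 := congrFun (congrFun hAB i) j
    simp only [Matrix.map_apply] at h3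
    exact h3
  have hdet : M₀.det ≠ 0 := by
    intro h0
    have h1 : (fixK σ).subtype M₀.det = (M₀.map (fixK σ).subtype).det := by
      rw [RingHom.map_det]; rfl
    rw [h0, map_zero, hM₀] at h1
    exact ((Matrix.isUnit_iff_isUnit_det _).mp (s : GL (Idx m) F).isUnit).ne_zero h1.symm
  have hmem : Matrix.GeneralLinearGroup.mkOfDetNeZero M₀ hdet
      ∈ isometryGroup (fixK σ) (quadFormOdd m (fixK σ)) := by
    rw [mem_iso_iff_gram (two_ne_zero_of_hom h2 (fixK σ).subtype)]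
    apply hinjM
    show (M₀ᵀ * gramOdd m (fixK σ) * M₀).map (fixK σ).subtype
      = (gramOdd m (fixK σ)).map (fixK σ).subtype
    rw [Matrix.map_mul, Matrix.map_mul, gramOdd_map, Matrix.transpose_map, hM₀]
    exact (mem_iso_iff_gram h2 _).mp s.2
  refine ⟨⟨_, hmem⟩, ?_⟩
  apply Subtype.ext
  apply Units.ext
  rw [bcO_val]
  exact hM₀

end fin

section rat
variable {m : ℕ} {F : Type*} [Field F] [Fintype F]

open Cfsg.Agent.Lib.helper48.Split
open Cfsg.Agent.Lib.helper48.AbsBal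

/-- the subgroup of rational points (over the fixed field of `σ`) of `Ω`, inside `PΩ` -/
noncomputable def Erat (m : ℕ) (h2 : (2 : F) ≠ 0) (σ : F ≃+* F) :
    Subgroup (POmega F (quadFormOdd m F)) :=
  (psiO (m := m) h2 (fixK σ).subtype).range

theorem map_sigma_bcO (h2 : (2 : F) ≠ 0) (σ : F ≃+* F)
    (s₀ : ↥(isometryGroup (fixK σ) (quadFormOdd m (fixK σ)))) :
    (((bcO h2 (fixK σ).subtype s₀ : ↥(isometryGroup F (quadFormOdd m F))) : GL (Idx m) F) :
      Matrix (Idx m) (Idx m) F).map σ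
    = (((bcO h2 (fixK σ).subtype s₀ : ↥(isometryGroup F (quadFormOdd m F))) : GL (Idx m) F) :
      Matrix (Idx m) (Idx m) F) := by
  rw [bcO_val]
  ext i j
  exact (((s₀ : GL (Idx m) (fixK σ)) : Matrix (Idx m) (Idx m) (fixK σ)) i j).2

theorem Erat_le_fix (h2 : (2 : F) ≠ 0) (σ : F ≃+* F)
    (φ : MulAut (POmega F (quadFormOdd m F))) (hφ : IsFieldAutPOmegaOf (quadFormOdd m F) σ φ) :
    Erat m h2 σ ≤ fixG φ := by
  rintro _ ⟨s₀, rfl⟩
  rw [mem_fixG, psiO_apply]
  apply hφ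
  rw [bcOm_val]
  exact (map_sigma_bcO h2 σ s₀.1).symm

theorem exists_rat_of_fix (h2 : (2 : F) ≠ 0) (hm : 3 ≤ m) (σ : F ≃+* F)
    (φ : MulAut (POmega F (quadFormOdd m F))) (hφ : IsFieldAutPOmegaOf (quadFormOdd m F) σ φ)
    {a : POmega F (quadFormOdd m F)} (ha : φ a = a) :
    ∃ (s : ↥(Omega F (quadFormOdd m F)))
      (a₀ : ↥(isometryGroup (fixK σ) (quadFormOdd m (fixK σ)))),
      a = QuotientGroup.mk s ∧ bcO h2 (fixK σ).subtype a₀ = s.1 := by
  obtain ⟨s, rfl⟩ := QuotientGroup.mk_surjective a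
  obtain ⟨a₀, ha₀⟩ := exists_rational h2 σ s.1 ((fix_iff h2 hm σ φ hφ s).mp ha)
  exact ⟨s, a₀, rfl, ha₀⟩

theorem comm_mem_Erat (h2 : (2 : F) ≠ 0) (hm : 3 ≤ m) (σ : F ≃+* F)
    (φ : MulAut (POmega F (quadFormOdd m F))) (hφ : IsFieldAutPOmegaOf (quadFormOdd m F) σ φ)
    {a b : POmega F (quadFormOdd m F)} (ha : φ a = a) (hb : φ b = b) :
    ⁅a, b⁆ ∈ Erat m h2 σ := by
  obtain ⟨sa, a₀, rfl, ha₀⟩ := exists_rat_of_fix h2 hm σ φ hφ ha
  obtain ⟨sb, b₀, rfl, hb₀⟩ := exists_rat_of_fix h2 hm σ φ hφ hb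
  have hmem : ⁅a₀, b₀⁆ ∈ Omega (fixK σ) (quadFormOdd m (fixK σ)) := by
    have h : ⁅a₀, b₀⁆ ∈ commutator ↥(isometryGroup (fixK σ) (quadFormOdd m (fixK σ))) := by
      rw [commutator_def]
      exact Subgroup.commutator_mem_commutator (Subgroup.mem_top _) (Subgroup.mem_top _)
    exact h
  refine ⟨⟨⁅a₀, b₀⁆, hmem⟩, ?_⟩
  rw [psiO_apply]
  have e : bcOm h2 (fixK σ).subtype ⟨⁅a₀, b₀⁆, hmem⟩ = ⁅sa, sb⁆ := by
    apply Subtype.ext
    rw [bcOm_val]
    show bcO h2 (fixK σ).subtype ⁅a₀, b₀⁆ = ⁅sa.1, sb.1⁆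
    rw [map_commutatorElement, ha₀, hb₀]
  rw [e]
  rfl

theorem odd_card_of_two_ne_zero {K : Type*} [Field K] [Fintype K] (h2 : (2 : K) ≠ 0) :
    Odd (Fintype.card K) := by
  rw [Nat.odd_iff]
  apply FiniteField.odd_card_of_char_ne_two
  intro hc
  apply h2
  have : CharP K 2 := ringChar.of_eq hc
  exact CharTwo.two_eq_zero

theorem sq_mem_Omega {ι : Type} [Fintype ι] [DecidableEq ι] {K : Type*} [Field K] [Fintype K]
    (h2 : (2 : K) ≠ 0) (Q : QuadraticForm K (ι → K)) (hQ : (polarBilin Q).Nondegenerate)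
    (g : ↥(isometryGroup K ⇑Q)) : g * g ∈ Omega K ⇑Q := by
  apply (mem_Omega_iff_det_spinor h2 Q hQ (g * g)).mpr
  constructor
  · rw [map_mul]
    rcases detHom_eq_one_or h2 Q hQ g with h | h
    · rw [h, one_mul]
    · rw [h]
      simp
  · rw [map_mul]
    exact Int.units_mul_self _

theorem sq_mem_Erat (h2 : (2 : F) ≠ 0) (hm : 3 ≤ m) (σ : F ≃+* F)
    (φ : MulAut (POmega F (quadFormOdd m F))) (hφ : IsFieldAutPOmegaOf (quadFormOdd m F) σ φ)
    {a : POmega F (quadFormOdd m F)} (ha : φ a = a) :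
    a * a ∈ Erat m h2 σ := by
  obtain ⟨sa, a₀, rfl, ha₀⟩ := exists_rat_of_fix h2 hm σ φ hφ ha
  have hfin : Fintype (fixK σ) := Fintype.ofFinite _
  have h2₀ : (2 : fixK σ) ≠ 0 := two_ne_zero_of_hom h2 (fixK σ).subtype
  have hQ₀ := Cfsg.Agent.Lib.helper17.oddForm_nondeg17 h2₀ m
  have hmem : a₀ * a₀ ∈ Omega (fixK σ) (quadFormOdd m (fixK σ)) :=
    sq_mem_Omega h2₀ (oddForm m (fixK σ)) hQ₀ a₀
  refine ⟨⟨a₀ * a₀, hmem⟩, ?_⟩
  rw [psiO_apply]
  have e : bcOm h2 (fixK σ).subtype ⟨a₀ * a₀, hmem⟩ = sa * sa := by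
    apply Subtype.ext
    rw [bcOm_val]
    show bcO h2 (fixK σ).subtype (a₀ * a₀) = sa.1 * sa.1
    rw [map_mul, ha₀]
  rw [e]
  rfl

theorem Omega_top_perfect {K : Type*} [Field K] [Fintype K] (h2 : (2 : K) ≠ 0) (hm : 3 ≤ m) :
    commutator ↥(Omega K (quadFormOdd m K)) = ⊤ := by
  have hQ := Cfsg.Agent.Lib.helper17.oddForm_nondeg17 h2 m
  have h7 : 7 ≤ Fintype.card (Idx m) := by rw [card_oddIdx]; omega
  have hperf := Omega_perfect (oddForm m K) hQ h7
  rw [eq_top_iff]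
  intro s _
  have h1 : (s : ↥(isometryGroup K (quadFormOdd m K)))
      ∈ ⁅Omega K (quadFormOdd m K), Omega K (quadFormOdd m K)⁆ := hperf s.2
  rw [← Subgroup.map_subtype_commutator] at h1
  obtain ⟨t, ht, hts⟩ := h1
  have : t = s := Subtype.ext hts
  rw [← this]
  exact ht

theorem Erat_perfect (h2 : (2 : F) ≠ 0) (hm : 3 ≤ m) (σ : F ≃+* F) :
    Erat m h2 σ ≤ ⁅Erat m h2 σ, Erat m h2 σ⁆ := by
  have hfin : Fintype (fixK σ) := Fintype.ofFinite _
  have h2₀ : (2 : fixK σ) ≠ 0 := two_ne_zero_of_hom h2 (fixK σ).subtype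
  have h1 := Omega_top_perfect (m := m) h2₀ hm
  have h3 : Erat m h2 σ = (⊤ : Subgroup ↥(Omega (fixK σ) (quadFormOdd m (fixK σ)))).map
      (psiO (m := m) h2 (fixK σ).subtype) := by
    rw [Erat, MonoidHom.range_eq_map]
  have h4 : (⊤ : Subgroup ↥(Omega (fixK σ) (quadFormOdd m (fixK σ)))).map
      (psiO (m := m) h2 (fixK σ).subtype) = ⁅Erat m h2 σ, Erat m h2 σ⁆ := by
    conv_lhs => rw [← h1, commutator_def, Subgroup.map_commutator, ← h3]
  rw [← h4, ← h3]

theorem Erat_char (h2 : (2 : F) ≠ 0) (hm : 3 ≤ m) (σ : F ≃+* F)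
    (φ : MulAut (POmega F (quadFormOdd m F))) (hφ : IsFieldAutPOmegaOf (quadFormOdd m F) σ φ)
    (c : MulAut (POmega F (quadFormOdd m F))) (hc : c * φ = φ * c)
    (y : POmega F (quadFormOdd m F)) (hy : y ∈ Erat m h2 σ) : c y ∈ Erat m h2 σ := by
  have hEfix := Erat_le_fix h2 σ φ hφ
  have hE1 : Erat m h2 σ ≤ ⁅fixG φ, fixG φ⁆ :=
    (Erat_perfect h2 hm σ).trans (Subgroup.commutator_mono hEfix hEfix)
  have hE2 : ⁅fixG φ, fixG φ⁆ ≤ Erat m h2 σ := by
    rw [Subgroup.commutator_le]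
    intro a ha b hb
    exact comm_mem_Erat h2 hm σ φ hφ ha hb
  apply hE2
  have h1 : c y ∈ Subgroup.map c.toMonoidHom ⁅fixG φ, fixG φ⁆ := ⟨y, hE1 hy, rfl⟩
  rw [Subgroup.map_commutator] at h1
  have h3 : Subgroup.map c.toMonoidHom (fixG φ) ≤ fixG φ := by
    rintro _ ⟨k, hk, rfl⟩
    have h2' := congrArg (fun e : MulAut (POmega F (quadFormOdd m F)) => e k) hc
    simp only [MulAut.mul_apply] at h2'
    rw [show φ k = k from hk] at h2'
    exact h2'.symm
  exact Subgroup.commutator_mono h3 h3 h1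

theorem Omega_simple {K : Type*} [Field K] [Fintype K] (h2 : (2 : K) ≠ 0) (hm : 3 ≤ m) :
    IsSimpleGroup ↥(Omega K (quadFormOdd m K)) := by
  have hs : IsSimpleGroup (POmega K (quadFormOdd m K)) :=
    Cfsg.Agent.S0295.result (odd_card_of_two_ne_zero h2) m hm
  have hbij : Function.Bijective
      (QuotientGroup.mk' (Subgroup.center (Omega K (quadFormOdd m K)))) :=
    ⟨fun a b h => mk_inj h2 hm h, QuotientGroup.mk'_surjective _⟩
  exact (MulEquiv.ofBijective _ hbij).isSimpleGroup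

theorem Erat_simple (h2 : (2 : F) ≠ 0) (hm : 3 ≤ m) (σ : F ≃+* F)
    (M : Subgroup (POmega F (quadFormOdd m F)))
    (hM : ∀ e ∈ Erat m h2 σ, ∀ k ∈ M, e * k * e⁻¹ ∈ M) :
    M ⊓ Erat m h2 σ = ⊥ ∨ Erat m h2 σ ≤ M := by
  have hfin : Fintype (fixK σ) := Fintype.ofFinite _
  have h2₀ : (2 : fixK σ) ≠ 0 := two_ne_zero_of_hom h2 (fixK σ).subtype
  have hsimple := Omega_simple (m := m) h2₀ hm
  have hn : (M.comap (psiO (m := m) h2 (fixK σ).subtype)).Normal := by
    constructor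
    intro n hn g
    rw [Subgroup.mem_comap] at hn ⊢
    rw [map_mul, map_mul, map_inv]
    exact hM _ ⟨g, rfl⟩ _ hn
  rcases hn.eq_bot_or_eq_top with h | h
  · left
    rw [Subgroup.eq_bot_iff_forall]
    rintro y ⟨hyM, ⟨s₀, rfl⟩⟩
    have h1 : s₀ ∈ M.comap (psiO (m := m) h2 (fixK σ).subtype) := hyM
    rw [h, Subgroup.mem_bot] at h1
    rw [h1, map_one]
  · right
    rintro _ ⟨s₀, rfl⟩
    have h1 : s₀ ∈ M.comap (psiO (m := m) h2 (fixK σ).subtype) := by rw [h]; trivial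
    exact h1

end rat

section ord
variable {m : ℕ} {F : Type*} [Field F] [Fintype F]

open Cfsg.Agent.Lib.helper48.Split
open Cfsg.Agent.Lib.helper48.AbsBal

/-- an involution in `Ω` -/
theorem exists_invol {K : Type*} [Field K] (h2 : (2 : K) ≠ 0) (hm : 3 ≤ m) :
    ∃ s : ↥(Omega K (quadFormOdd m K)), s * s = 1 ∧ s ≠ 1 := by
  have hQ := Cfsg.Agent.Lib.helper17.oddForm_nondeg17 h2 m
  obtain ⟨fr, hfr⟩ : ∃ fr : HypFrame3 (oddForm m K), fr = AutOm.oddFrame m hm := ⟨_, rfl⟩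
  obtain ⟨u, hu⟩ : ∃ u, u = fr.e 0 + (1 : K) • fr.f 0 := ⟨_, rfl⟩
  obtain ⟨v, hv⟩ : ∃ v, v = fr.e 1 + (1 : K) • fr.f 1 := ⟨_, rfl⟩
  have hQu : oddForm m K u = 1 := by rw [hu]; exact fr.Q_add_smul 0 1
  have hQv : oddForm m K v = 1 := by rw [hv]; exact fr.Q_add_smul 1 1
  have huv : polar (oddForm m K) v u = 0 := by
    rw [hu, hv]
    simp only [polar_add_left, polar_add_right, polar_smul_left, polar_smul_right, fr.ee, fr.ff,
      fr.ef, fr.polar_f_e]
    simp
  have hu0 : oddForm m K u ≠ 0 := by rw [hQu]; exact one_ne_zero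
  have hv0 : oddForm m K v ≠ 0 := by rw [hQv]; exact one_ne_zero
  have hmem := refl_mul_refl_mem_commutator_of_eq (oddForm m K) hQ u v hu0 hv0 (by rw [hQu, hQv])
  have hcomm : reflectionIsom (oddForm m K) v hv0 * reflectionIsom (oddForm m K) u hu0
      = reflectionIsom (oddForm m K) u hu0 * reflectionIsom (oddForm m K) v hv0 := by
    apply Subtype.ext
    apply Units.ext
    simp only [Subgroup.coe_mul, Units.val_mul, reflectionIsom_coe]
    have h1 := Cfsg.Agent.Lib.helper91.refl_conj (oddForm m K) (reflectionMatrix (oddForm m K) v)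
      (fun x => reflectionMatrix_preserves (oddForm m K) v hv0 x) u
    rw [reflectionMatrix_mulVec_of_polar_eq_zero (oddForm m K) v u huv] at h1
    exact h1
  refine ⟨⟨_, hmem⟩, ?_, ?_⟩
  · apply Subtype.ext
    show reflectionIsom (oddForm m K) u hu0 * reflectionIsom (oddForm m K) v hv0
      * (reflectionIsom (oddForm m K) u hu0 * reflectionIsom (oddForm m K) v hv0) = 1
    calc reflectionIsom (oddForm m K) u hu0 * reflectionIsom (oddForm m K) v hv0
          * (reflectionIsom (oddForm m K) u hu0 * reflectionIsom (oddForm m K) v hv0)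
        = reflectionIsom (oddForm m K) u hu0 * (reflectionIsom (oddForm m K) v hv0
          * reflectionIsom (oddForm m K) u hu0) * reflectionIsom (oddForm m K) v hv0 := by group
      _ = (reflectionIsom (oddForm m K) u hu0 * reflectionIsom (oddForm m K) u hu0)
          * (reflectionIsom (oddForm m K) v hv0 * reflectionIsom (oddForm m K) v hv0) := by
          rw [hcomm]; group
      _ = 1 := by rw [reflectionIsom_mul_self, reflectionIsom_mul_self, one_mul]
  · intro h1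
    have h3 : reflectionIsom (oddForm m K) u hu0 * reflectionIsom (oddForm m K) v hv0 = 1 :=
      congrArg Subtype.val h1
    have h4 := congrArg (fun g : ↥(isometryGroup K ⇑(oddForm m K)) =>
      ((g : GL (Idx m) K) : Matrix (Idx m) (Idx m) K) *ᵥ u) h3
    simp only [Subgroup.coe_mul, Units.val_mul, reflectionIsom_coe, OneMemClass.coe_one,
      Units.val_one, Matrix.one_mulVec] at h4
    rw [← Matrix.mulVec_mulVec, reflectionMatrix_mulVec_of_polar_eq_zero _ v u huv,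
      reflectionMatrix_mulVec_self _ u hu0] at h4
    have h5 : (2 : K) • u = 0 := by
      rw [two_smul]
      nth_rewrite 1 [← h4]
      exact neg_add_cancel u
    have h6 : u = 0 := by
      rcases smul_eq_zero.mp h5 with h | h
      · exact absurd h h2
      · exact h
    rw [h6, map_zero] at hQu
    exact zero_ne_one hQu

theorem psiO_injective {K₀ : Type*} [Field K₀] (h2 : (2 : F) ≠ 0) (hm : 3 ≤ m) (ι : K₀ →+* F) :
    Function.Injective (psiO (m := m) h2 ι) := by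
  intro a b hab
  rw [psiO_apply, psiO_apply] at hab
  exact bcOm_injective h2 ι (mk_inj h2 hm hab)

theorem Erat_order_two (h2 : (2 : F) ≠ 0) (hm : 3 ≤ m) (σ : F ≃+* F) :
    ∃ y ∈ Erat m h2 σ, orderOf y = 2 := by
  have h2₀ : (2 : fixK σ) ≠ 0 := two_ne_zero_of_hom h2 (fixK σ).subtype
  obtain ⟨s, hs1, hs2⟩ := exists_invol (m := m) h2₀ hm
  refine ⟨psiO h2 (fixK σ).subtype s, ⟨s, rfl⟩, ?_⟩
  rw [orderOf_injective _ (psiO_injective h2 hm (fixK σ).subtype)]
  have : Fact (Nat.Prime 2) := ⟨Nat.prime_two⟩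
  exact orderOf_eq_prime (by rw [pow_two]; exact hs1) hs2

theorem Erat_order (h2 : (2 : F) ≠ 0) (hm : 3 ≤ m) (σ : F ≃+* F)
    (φ : MulAut (POmega F (quadFormOdd m F))) (hφ : IsFieldAutPOmegaOf (quadFormOdd m F) σ φ)
    {p : ℕ} [Fact p.Prime] (hdvd : p ∣ Nat.card (fixG φ)) :
    ∃ y ∈ Erat m h2 σ, orderOf y = p := by
  have hp : p.Prime := Fact.out
  by_cases hp2 : p = 2
  · rw [hp2]
    exact Erat_order_two h2 hm σ
  · obtain ⟨y₀, hy₀⟩ := exists_prime_orderOf_dvd_card' p hdvd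
    have hy₀' : orderOf (y₀ : POmega F (quadFormOdd m F)) = p := by
      rw [Subgroup.orderOf_coe]; exact hy₀
    have hfixy : φ (y₀ : POmega F (quadFormOdd m F)) = y₀ := y₀.2
    have hyy : (y₀ : POmega F (quadFormOdd m F)) * y₀ ∈ Erat m h2 σ :=
      sq_mem_Erat h2 hm σ φ hφ hfixy
    have hodd : p % 2 = 1 := (hp.eq_two_or_odd).resolve_left hp2
    have e : (y₀ : POmega F (quadFormOdd m F))
        = ((y₀ : POmega F (quadFormOdd m F)) * y₀) ^ ((p + 1) / 2) := by
      have e2 : 2 * ((p + 1) / 2) = p + 1 := by omega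
      rw [← pow_two, ← pow_mul, e2, pow_succ, ← hy₀', pow_orderOf_eq_one, one_mul]
    refine ⟨y₀, ?_, hy₀'⟩
    rw [e]
    exact (Erat m h2 σ).pow_mem hyy _

theorem fix_ne_bot (h2 : (2 : F) ≠ 0) (hm : 3 ≤ m) (σ : F ≃+* F)
    (φ : MulAut (POmega F (quadFormOdd m F))) (hφ : IsFieldAutPOmegaOf (quadFormOdd m F) σ φ) :
    fixG φ ≠ ⊥ := by
  intro hbot
  obtain ⟨y, hy, hy2⟩ := Erat_order_two h2 hm σ
  have h1 : y ∈ fixG φ := Erat_le_fix h2 σ φ hφ hy
  rw [hbot, Subgroup.mem_bot] at h1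
  rw [h1, orderOf_one] at hy2
  omega

end ord

section cent
variable {m : ℕ} {F : Type*} [Field F] [Fintype F]

open Cfsg.Agent.Lib.helper48.Split
open Cfsg.Agent.Lib.helper48.AbsBal

/-- a semisimilarity fixing the rational points of `Ω` elementwise -/
theorem key_fix (h2 : (2 : F) ≠ 0) (hm : 3 ≤ m) (σ : F ≃+* F) (g : GL (Idx m) F) (τ : F ≃+* F)
    (hp : IsSemisimilarityPair (quadFormOdd m F) g τ)
    (β : MulAut (POmega F (quadFormOdd m F)))
    (hβ : IsInducedBySemilinearPOmega (quadFormOdd m F) g τ β)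
    (hfix : ∀ y ∈ Erat m h2 σ, β y = y)
    (s₀ : ↥(Omega (fixK σ) (quadFormOdd m (fixK σ)))) :
    (g : Matrix (Idx m) (Idx m) F)
        * (((((s₀ : ↥(isometryGroup (fixK σ) (quadFormOdd m (fixK σ)))) : GL (Idx m) (fixK σ)) :
            Matrix (Idx m) (Idx m) (fixK σ)).map (fixK σ).subtype).map τ)
        * ((g⁻¹ : GL (Idx m) F) : Matrix (Idx m) (Idx m) F)
      = (((s₀ : ↥(isometryGroup (fixK σ) (quadFormOdd m (fixK σ)))) : GL (Idx m) (fixK σ)) :
            Matrix (Idx m) (Idx m) (fixK σ)).map (fixK σ).subtype := by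
  obtain ⟨s', hs'⟩ := exists_semiConj_Omega (quadFormOdd m F) g τ hp (bcOm h2 (fixK σ).subtype s₀)
  have h1 := ((induced_GL_iff (quadFormOdd m F) g τ β).mp hβ) _ s' hs'
  have h3 := hfix (psiO h2 (fixK σ).subtype s₀) ⟨s₀, rfl⟩
  rw [psiO_apply, h1] at h3
  have h4 := mk_inj h2 hm h3
  rw [h4] at hs'
  have h5 := congrArg (fun x : GL (Idx m) F => (x : Matrix (Idx m) (Idx m) F)) hs'
  simp only [Units.val_mul, GLmap_val] at h5
  rw [bcOm_val, bcO_val] at h5
  exact h5.symm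

/-- the field automorphism of such a semisimilarity fixes the fixed field of `σ` -/
theorem tau_fix (h2 : (2 : F) ≠ 0) (hm : 3 ≤ m) (σ : F ≃+* F) (g : GL (Idx m) F) (τ : F ≃+* F)
    (hp : IsSemisimilarityPair (quadFormOdd m F) g τ)
    (β : MulAut (POmega F (quadFormOdd m F)))
    (hβ : IsInducedBySemilinearPOmega (quadFormOdd m F) g τ β)
    (hfix : ∀ y ∈ Erat m h2 σ, β y = y) : ∀ c : F, σ c = c → τ c = c := by
  have h2₀ : (2 : fixK σ) ≠ 0 := two_ne_zero_of_hom h2 (fixK σ).subtype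
  have hQ₀ := Cfsg.Agent.Lib.helper17.oddForm_nondeg17 h2₀ m
  have hZZi : ((g : GL (Idx m) F) : Matrix (Idx m) (Idx m) F)
      * (((g : GL (Idx m) F)⁻¹ : GL (Idx m) F) : Matrix (Idx m) (Idx m) F) = 1 := by
    rw [← Units.val_mul, mul_inv_cancel, Units.val_one]
  have hZiZ : (((g : GL (Idx m) F)⁻¹ : GL (Idx m) F) : Matrix (Idx m) (Idx m) F)
      * ((g : GL (Idx m) F) : Matrix (Idx m) (Idx m) F) = 1 := by
    rw [← Units.val_mul, inv_mul_cancel, Units.val_one]
  have hsq : ∀ y : fixK σ, τ ((y : F) * (y : F)) = (y : F) * (y : F) := by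
    intro y
    obtain ⟨u, v, hu, hv, huv⟩ :=
      (AutOm.oddFrame (F := fixK σ) m hm).exists_pair_polar (y - 1)
    have hu0 : oddForm m (fixK σ) u ≠ 0 := by rw [hu]; exact one_ne_zero
    have hv0 : oddForm m (fixK σ) v ≠ 0 := by rw [hv]; exact one_ne_zero
    have hmem := refl_mul_refl_mem_commutator_of_eq (oddForm m (fixK σ)) hQ₀ u v hu0 hv0
      (by rw [hu, hv])
    have hk := key_fix h2 hm σ g τ hp β hβ hfix ⟨_, hmem⟩
    simp only [Subgroup.coe_mul, Units.val_mul, reflectionIsom_coe] at hk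
    have htr := congrArg Matrix.trace hk
    rw [Matrix.trace_mul_comm, ← Matrix.mul_assoc, hZiZ, Matrix.one_mul,
      ← AddMonoidHom.map_trace τ, ← AddMonoidHom.map_trace (fixK σ).subtype,
      trace_refl_mul_refl (oddForm m (fixK σ)) u v hu hv, huv] at htr
    have h1 : (1 : fixK σ) + (y - 1) = y := by ring
    rw [h1, map_add, map_sub, map_natCast, map_ofNat, map_mul, map_add, map_sub, map_natCast,
      map_ofNat] at htr
    have h3 := add_left_cancel htr
    exact h3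
  intro c hc
  have h1 := hsq (⟨c, hc⟩ + 1)
  have h3 := hsq ⟨c, hc⟩
  have e1 : (((⟨c, hc⟩ + 1 : fixK σ) : fixK σ) : F) = c + 1 := rfl
  have e2 : (((⟨c, hc⟩ : fixK σ) : fixK σ) : F) = c := rfl
  rw [e1, map_mul, map_add, map_one] at h1
  rw [e2, map_mul] at h3
  have h4 : (2 : F) * τ c = 2 * c := by linear_combination h1 - h3
  exact mul_left_cancel₀ h2 h4

end cent

section cent2
variable {m : ℕ} {F : Type*} [Field F] [Fintype F]

open Cfsg.Agent.Lib.helper48.Split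
open Cfsg.Agent.Lib.helper48.AbsBal

/-- a matrix commuting with the rational points of `Ω` is a scalar -/
theorem scalar_of_commute (h2 : (2 : F) ≠ 0) (hm : 3 ≤ m) (σ : F ≃+* F)
    (Z : Matrix (Idx m) (Idx m) F)
    (hZ : ∀ s₀ : ↥(Omega (fixK σ) (quadFormOdd m (fixK σ))),
      Z * (((s₀ : ↥(isometryGroup (fixK σ) (quadFormOdd m (fixK σ)))) : GL (Idx m) (fixK σ)) :
            Matrix (Idx m) (Idx m) (fixK σ)).map (fixK σ).subtype
        = (((s₀ : ↥(isometryGroup (fixK σ) (quadFormOdd m (fixK σ)))) : GL (Idx m) (fixK σ)) :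
            Matrix (Idx m) (Idx m) (fixK σ)).map (fixK σ).subtype * Z) :
    ∃ a : F, Z = a • (1 : Matrix (Idx m) (Idx m) F) := by
  have h2₀ : (2 : fixK σ) ≠ 0 := two_ne_zero_of_hom h2 (fixK σ).subtype
  have hQ₀ := Cfsg.Agent.Lib.helper17.oddForm_nondeg17 h2₀ m
  have key : ∀ f : F →ₗ[fixK σ] fixK σ, ∃ a : fixK σ,
      (Matrix.of fun i j => f (Z i j) : Matrix (Idx m) (Idx m) (fixK σ))
        = a • (1 : Matrix (Idx m) (Idx m) (fixK σ)) := by
    intro f
    apply center_scalar_refl (oddForm m (fixK σ)) hQ₀ (AutOm.oddFrame m hm)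
    intro u v hu hv huv
    have hmem := refl_mul_refl_mem_commutator_of_eq (oddForm m (fixK σ)) hQ₀ u v hu hv huv
    have h1 := hZ ⟨_, hmem⟩
    simp only [Subgroup.coe_mul, Units.val_mul, reflectionIsom_coe] at h1
    generalize reflectionMatrix (⇑(oddForm m (fixK σ))) u
      * reflectionMatrix (⇑(oddForm m (fixK σ))) v = T at h1 ⊢
    ext i j
    have h3 := congrArg f (congrFun (congrFun h1 i) j)
    simp only [Matrix.mul_apply, Matrix.map_apply, map_sum, Matrix.of_apply] at h3 ⊢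
    have e1 : ∀ l, f (Z i l * ((fixK σ).subtype (T l j))) = f (Z i l) * T l j := by
      intro l
      rw [mul_comm (Z i l), mul_comm (f (Z i l))]
      exact f.map_smul (T l j) (Z i l)
    have e2 : ∀ l, f (((fixK σ).subtype (T i l)) * Z l j) = T i l * f (Z l j) :=
      fun l => f.map_smul (T i l) (Z l j)
    simp only [e1, e2] at h3
    rw [h3]
  have hoff : ∀ i j, i ≠ j → Z i j = 0 := by
    intro i j hij
    apply (Module.forall_dual_apply_eq_zero_iff (fixK σ) (Z i j)).mp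
    intro f
    obtain ⟨a, ha⟩ := key f
    have h1 := congrFun (congrFun ha i) j
    simp only [Matrix.of_apply, Matrix.smul_apply, Matrix.one_apply, if_neg hij, smul_zero] at h1
    exact h1
  have hdiag : ∀ i j, Z i i = Z j j := by
    intro i j
    rw [← sub_eq_zero]
    apply (Module.forall_dual_apply_eq_zero_iff (fixK σ) _).mp
    intro f
    obtain ⟨a, ha⟩ := key f
    have h1 := congrFun (congrFun ha i) i
    have h3 := congrFun (congrFun ha j) j
    simp only [Matrix.of_apply, Matrix.smul_apply, Matrix.one_apply, if_true, smul_eq_mul,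
      mul_one] at h1 h3
    have h4 : f (Z i i - Z j j) = f (Z i i) - f (Z j j) := map_sub f _ _
    rw [h4, h1, h3, sub_self]
  refine ⟨Z (Sum.inl ()) (Sum.inl ()), ?_⟩
  ext i j
  by_cases hij : i = j
  · subst hij
    rw [Matrix.smul_apply, Matrix.one_apply_eq, smul_eq_mul, mul_one]
    exact hdiag i _
  · rw [Matrix.smul_apply, Matrix.one_apply_ne hij, smul_zero]
    exact hoff i j hij

/-- the centralizer of the rational subgroup in the automorphism group has exponent `p` -/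
theorem Erat_cent (h2 : (2 : F) ≠ 0) (hm : 3 ≤ m) (σ : F ≃+* F) {p : ℕ} (hσ : orderOf σ = p)
    (hall : ∀ β : MulAut (POmega F (quadFormOdd m F)), ∃ (g : GL (Idx m) F) (τ : F ≃+* F),
      IsSemisimilarityPair (quadFormOdd m F) g τ ∧
        IsInducedBySemilinearPOmega (quadFormOdd m F) g τ β)
    (n : MulAut (POmega F (quadFormOdd m F))) (hn : ∀ y ∈ Erat m h2 σ, n y = y) :
    n ^ p = 1 := by
  obtain ⟨g, τ, hp, hi⟩ := hall n
  have hτ : τ ^ p = 1 :=
    Cfsg.Agent.Lib.helper48.PSp.pow_eq_one_of_fix σ τ hσ (tau_fix h2 hm σ g τ hp n hi hn)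
  have hpr := pair_pow (quadFormOdd m F) g τ hp p
  have hir := induced_pow (quadFormOdd m F) g τ hp n hi p
  rw [hτ] at hpr hir
  have hfixp : ∀ y ∈ Erat m h2 σ, (n ^ p) y = y := by
    intro y hy
    have h : ∀ k : ℕ, (n ^ k) y = y := by
      intro k
      induction k with
      | zero => simp
      | succ k ih => rw [pow_succ, MulAut.mul_apply, hn y hy, ih]
    exact h p
  obtain ⟨k, hk⟩ : ∃ k, k = NkGL τ g p := ⟨_, rfl⟩
  rw [← hk] at hpr hir
  have hcomm : ∀ s₀ : ↥(Omega (fixK σ) (quadFormOdd m (fixK σ))),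
      (k : Matrix (Idx m) (Idx m) F)
          * (((s₀ : ↥(isometryGroup (fixK σ) (quadFormOdd m (fixK σ)))) : GL (Idx m) (fixK σ)) :
            Matrix (Idx m) (Idx m) (fixK σ)).map (fixK σ).subtype
        = (((s₀ : ↥(isometryGroup (fixK σ) (quadFormOdd m (fixK σ)))) : GL (Idx m) (fixK σ)) :
            Matrix (Idx m) (Idx m) (fixK σ)).map (fixK σ).subtype
          * (k : Matrix (Idx m) (Idx m) F) := by
    intro s₀
    have h1 := key_fix h2 hm σ k 1 hpr (n ^ p) hir hfixp s₀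
    generalize (((s₀ : ↥(isometryGroup (fixK σ) (quadFormOdd m (fixK σ)))) : GL (Idx m) (fixK σ)) :
            Matrix (Idx m) (Idx m) (fixK σ)).map (fixK σ).subtype = X at h1 ⊢
    have e : X.map (1 : F ≃+* F) = X := by ext i j; rfl
    rw [e] at h1
    have h3 := congrArg (fun M : Matrix (Idx m) (Idx m) F => M * (k : Matrix (Idx m) (Idx m) F)) h1
    rw [Matrix.mul_assoc, ← Units.val_mul, inv_mul_cancel, Units.val_one, Matrix.mul_one] at h3
    exact h3
  obtain ⟨a, ha⟩ := scalar_of_commute h2 hm σ (k : Matrix (Idx m) (Idx m) F) hcomm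
  have ha0 : a ≠ 0 := by
    rintro rfl
    have h1 : ((k : GL (Idx m) F) : Matrix (Idx m) (Idx m) F).det ≠ 0 :=
      ((Matrix.isUnit_iff_isUnit_det _).mp k.isUnit).ne_zero
    have hne : Nonempty (Idx m) := ⟨Sum.inl ()⟩
    rw [ha, zero_smul, Matrix.det_zero] at h1
    exact h1 rfl
  have hk2 : k = GeneralLinearGroup.scalar (Idx m) (Units.mk0 a ha0) := by
    apply Units.ext
    rw [scalar_val, ha]
    rfl
  have h5 := induced_scalar_mul (quadFormOdd m F) k 1 (Units.mk0 a ha0)⁻¹ (n ^ p) hir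
  rw [hk2, ← map_mul, inv_mul_cancel, map_one] at h5
  exact induced_unique (quadFormOdd m F) 1 (RingEquiv.refl F) (pair_one _) (n ^ p) 1 h5
    (induced_one _)

end cent2

section final
variable {m : ℕ} {F : Type*} [Field F] [Fintype F]

open Cfsg.Agent.Lib.helper48.Split
open Cfsg.Agent.Lib.helper48.AbsBal

theorem conj_inj (h2 : (2 : F) ≠ 0) (hm : 3 ≤ m) :
    Function.Injective (MulAut.conj :
      POmega F (quadFormOdd m F) →* MulAut (POmega F (quadFormOdd m F))) := by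
  intro a b hab
  obtain ⟨sa, rfl⟩ := QuotientGroup.mk_surjective a
  obtain ⟨sb, rfl⟩ := QuotientGroup.mk_surjective b
  have h1 : sb⁻¹ * sa ∈ Subgroup.center (Omega F (quadFormOdd m F)) := by
    rw [Subgroup.mem_center_iff]
    intro t
    have h3 := congrArg (fun e : MulAut (POmega F (quadFormOdd m F)) =>
      e (QuotientGroup.mk t)) hab
    simp only [MulAut.conj_apply] at h3
    have h4 : sa * t * sa⁻¹ = sb * t * sb⁻¹ := mk_inj h2 hm h3
    calc t * (sb⁻¹ * sa) = sb⁻¹ * (sb * t * sb⁻¹) * sa := by group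
      _ = sb⁻¹ * (sa * t * sa⁻¹) * sa := by rw [h4]
      _ = sb⁻¹ * sa * t := by group
  rw [center_Omega_odd h2 hm, Subgroup.mem_bot] at h1
  have h5 : sa = sb := by
    rw [inv_mul_eq_one] at h1
    exact h1.symm
  rw [h5]

/-- **Local balance criterion for `Ω_{2m+1}(F)`** -/
theorem local_balance_odd (hodd : Odd (Fintype.card F)) (hm : 3 ≤ m)
    (A : Subgroup (MulAut (POmega F (quadFormOdd m F))))
    (hinn : ∀ k : POmega F (quadFormOdd m F), MulAut.conj k ∈ A) {p : ℕ} [Fact p.Prime]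
    (x : MulAut (POmega F (quadFormOdd m F))) (hord : orderOf x = p)
    (hnot : ¬ IsInnerDiagonalAutPOmegaOdd m x) :
    pPrimeCore p ↥(A ⊓ Subgroup.centralizer {x}) ≠ ⊥ ↔
      (IsFieldAutClassPOmega (quadFormOdd m F) x ∧
        Nat.Coprime p (Nat.card ↥(MonoidHom.eqLocus x.toMonoidHom
          (MonoidHom.id (POmega F (quadFormOdd m F)))))) := by
  have h2 : (2 : F) ≠ 0 := Cfsg.Agent.Lib.helper17.two_ne_zero_of_odd_card hodd
  have hQ := Cfsg.Agent.Lib.helper17.oddForm_nondeg17 h2 m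
  have hp : p.Prime := Fact.out
  have hub := AutOm.gamma_odd hodd hm
  have hall : ∀ β : MulAut (POmega F (quadFormOdd m F)), ∃ (g : GL (Idx m) F) (τ : F ≃+* F),
      IsSemisimilarityPair (quadFormOdd m F) g τ ∧
        IsInducedBySemilinearPOmega (quadFormOdd m F) g τ β :=
    fun β => exists_pair_of_mem_gamma (quadFormOdd m F) β (by rw [hub]; trivial)
  obtain ⟨g, σ, hpg, hig⟩ := hall x
  have hσ1 : σ ≠ RingEquiv.refl F := by
    intro h
    rw [h] at hpg hig
    exact hnot ⟨g, sim_of_pair m g _ hpg, hig⟩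
  have hxp : x ^ p = 1 := by rw [← hord]; exact pow_orderOf_eq_one x
  have h5 : 5 ≤ Fintype.card (Idx m) := by rw [card_oddIdx]; omega
  have hσp : σ ^ p = 1 := by
    have hpr := pair_pow (quadFormOdd m F) g σ hpg p
    have hir := induced_pow (quadFormOdd m F) g σ hpg x hig p
    rw [hxp] at hir
    exact RingEquiv.ext (sigma_fix_of_induced_one h2 (oddForm m F) hQ (AutOm.oddFrame m hm) h5
      (NkGL σ g p) (σ ^ p) hpr hir)
  have hσord : orderOf σ = p := orderOf_eq_prime hσp hσ1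
  obtain ⟨h, μ, hh, hgh⟩ := exists_fix_odd h2 hm g σ hpg x hig hp hσ1 hxp
  obtain ⟨γ, hγ⟩ : ∃ γ : MulAut (POmega F (quadFormOdd m F)),
      γ = PsiAut (quadFormOdd m F) ⟨h, hh⟩ := ⟨_, rfl⟩
  obtain ⟨φ, hφdef⟩ : ∃ φ : MulAut (POmega F (quadFormOdd m F)), φ = γ⁻¹ * x * γ := ⟨_, rfl⟩
  have hx : x = γ * φ * γ⁻¹ := by rw [hφdef]; group
  have hφ : IsFieldAutPOmegaOf (quadFormOdd m F) σ φ := by
    have hki : h⁻¹ ∈ Geo.quadSimilarityGroup (F := F) (quadFormOdd m F) := Subgroup.inv_mem _ hh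
    have hc := induced_conj (quadFormOdd m F) h⁻¹ hki g σ hpg x hig
    have e1 : PsiAut (quadFormOdd m F) ⟨h⁻¹, hki⟩ = γ⁻¹ := by
      rw [hγ, ← map_inv]
      rfl
    have hcm := GeneralLinearGroup.scalar_commute (n := Idx m) μ h
    have e2 : h⁻¹ * g * (Matrix.GeneralLinearGroup.map (σ : F →+* F) h⁻¹)⁻¹
        = GeneralLinearGroup.scalar (Idx m) μ := by
      rw [map_inv, inv_inv, mul_assoc, hgh, hcm, inv_mul_cancel_left]
    rw [e1, e2, inv_inv] at hc
    have h3 := induced_scalar_mul (quadFormOdd m F) _ σ μ⁻¹ _ hc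
    rw [← map_mul, inv_mul_cancel, map_one] at h3
    intro s s' hs'
    rw [hφdef]
    apply h3 s s'
    rw [hs', inv_one, Units.val_one, Matrix.one_mul, Matrix.mul_one]
  have hfield : IsFieldAutClassPOmega (quadFormOdd m F) x :=
    ⟨γ⁻¹, φ, σ, hσ1, hφ, by rw [hφdef, inv_inv]⟩
  have hbal := abs_local_balance (conj_inj h2 hm) A hinn x γ φ hx (Erat m h2 σ)
    (Erat_le_fix h2 σ φ hφ) (Erat_char h2 hm σ φ hφ) (Erat_simple h2 hm σ)
    (Erat_order h2 hm σ φ hφ) (Erat_cent h2 hm σ hσord hall) (fix_ne_bot h2 hm σ φ hφ)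
  rw [hbal]
  exact ⟨fun h => ⟨hfield, h⟩, fun h => h.2⟩

end final

end Cfsg.Agent.Lib.helper48.OddBal
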