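import Mathlib

set_option autoImplicit false

namespace Cfsg.Agent.Lib.helper45.PearlC

/-- C10 IN_E (prefixed racer copy, verbatim statement). -/
theorem h48_in_E {G : Type*} [Group G] [Finite G] (p : ℕ) [Fact p.Prime] (n : ℕ)
    (hG : Nat.card G = p ^ n) (E : Subgroup G) (hE : Nat.card ↥E = p ^ 3)
    (hna : ¬ IsMulCommutative ↥E) (hC : Subgroup.centralizer (E : Set G) ≤ E)
    (hCp : Nat.card ↥(Subgroup.centralizer (E : Set G)) = p)
    (hZ : Subgroup.center G = Subgroup.centralizer (E : Set G))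
    (w : G) (hw : ∀ g : G, w * g * w⁻¹ * g⁻¹ ∈ Subgroup.center G)
    (hidx : Nat.card G ≤ p * Nat.card ↥(Subgroup.centralizer ({w} : Set G)))
    (hstep : ∀ A B C : Subgroup G, C ≤ B →
      Nat.card ↥(A ⊓ B) * Nat.card ↥C ≤ Nat.card ↥(A ⊓ C) * Nat.card ↥B)
    (hcg : ∀ (D : Subgroup G), D ≤ E → Nat.card ↥E ≤ p * Nat.card ↥D → ∀ e ∈ E, e ∉ D →
      ∀ g : G, (∀ d ∈ D, d * g = g * d) → e * g = g * e →
        g ∈ Subgroup.centralizer (E : Set G))
    (hcc : ∀ a b : G, a ∈ E → b ∈ E → a * b * a⁻¹ * b⁻¹ ∈ Subgroup.centralizer (E : Set G))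
    (hpow : ∀ c : G, c ∈ Subgroup.center G → c ≠ 1 → ∀ z : G, z ∈ Subgroup.center G →
      ∃ k : ℕ, z = c ^ k)
    (hadj : ∀ (d e w c : G) (k : ℕ), (∀ g : G, c * g = g * c) → d * e * d⁻¹ * e⁻¹ = c →
      w * e * w⁻¹ * e⁻¹ = c ^ k → d * w = w * d → e * (w * (d ^ k)⁻¹) = (w * (d ^ k)⁻¹) * e) :
    w ∈ E := by
  classical
  have hp : p.Prime := Fact.out
  have hmemCw : ∀ g : G, g ∈ Subgroup.centralizer ({w} : Set G) ↔ w * g = g * w := by
    intro g
    rw [Subgroup.mem_centralizer_iff]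
    simp
  have hD1 : Nat.card ↥E ≤ p * Nat.card ↥(E ⊓ Subgroup.centralizer ({w} : Set G)) := by
    have h1 := hstep E ⊤ (Subgroup.centralizer ({w} : Set G)) le_top
    rw [inf_top_eq, Subgroup.card_top] at h1
    have hpos : 0 < Nat.card ↥(Subgroup.centralizer ({w} : Set G)) := Nat.card_pos
    have h2 : Nat.card ↥E * Nat.card ↥(Subgroup.centralizer ({w} : Set G)) ≤
        (p * Nat.card ↥(E ⊓ Subgroup.centralizer ({w} : Set G))) *
          Nat.card ↥(Subgroup.centralizer ({w} : Set G)) := by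
      calc Nat.card ↥E * Nat.card ↥(Subgroup.centralizer ({w} : Set G))
          ≤ Nat.card ↥(E ⊓ Subgroup.centralizer ({w} : Set G)) * Nat.card G := h1
        _ ≤ Nat.card ↥(E ⊓ Subgroup.centralizer ({w} : Set G)) *
            (p * Nat.card ↥(Subgroup.centralizer ({w} : Set G))) := Nat.mul_le_mul_left _ hidx
        _ = (p * Nat.card ↥(E ⊓ Subgroup.centralizer ({w} : Set G))) *
            Nat.card ↥(Subgroup.centralizer ({w} : Set G)) := by ring
    exact Nat.le_of_mul_le_mul_right h2 hpos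
  by_cases hEw : E ≤ Subgroup.centralizer ({w} : Set G)
  · apply hC
    rw [Subgroup.mem_centralizer_iff]
    intro h hh
    exact ((hmemCw h).mp (hEw hh)).symm
  · obtain ⟨e, heE, heCw⟩ := SetLike.not_le_iff_exists.mp hEw
    have heD : e ∉ E ⊓ Subgroup.centralizer ({w} : Set G) :=
      fun h => heCw (Subgroup.mem_inf.mp h).2
    have hDcard : Nat.card ↥(E ⊓ Subgroup.centralizer ({w} : Set G)) = p ^ 2 := by
      have hdvd : Nat.card ↥(E ⊓ Subgroup.centralizer ({w} : Set G)) ∣ p ^ 3 := by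
        rw [← hE]
        exact Subgroup.card_dvd_of_le inf_le_left
      obtain ⟨j, hj, hjc⟩ := (Nat.dvd_prime_pow hp).mp hdvd
      have h3 : 3 ≤ j + 1 := by
        have h4 := hD1
        rw [hE, hjc, ← pow_succ'] at h4
        exact (Nat.pow_le_pow_iff_right hp.one_lt).mp h4
      have hj3 : j ≠ 3 := by
        rintro rfl
        have heq : E ⊓ Subgroup.centralizer ({w} : Set G) = E :=
          Subgroup.eq_of_le_of_card_ge inf_le_left (by rw [hE, hjc])
        exact heD (by rw [heq]; exact heE)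
      have hj2 : j = 2 := by omega
      rw [hjc, hj2]
    have hDcomm : ∀ a ∈ E ⊓ Subgroup.centralizer ({w} : Set G),
        ∀ b ∈ E ⊓ Subgroup.centralizer ({w} : Set G), a * b = b * a := by
      intro a ha b hb
      have h := IsPGroup.commutative_of_card_eq_prime_sq hDcard ⟨a, ha⟩ ⟨b, hb⟩
      exact congrArg Subtype.val h
    have hex : ∃ d ∈ E ⊓ Subgroup.centralizer ({w} : Set G), d * e ≠ e * d := by
      by_contra hcon
      push Not at hcon
      have hle : E ⊓ Subgroup.centralizer ({w} : Set G) ≤ Subgroup.centralizer (E : Set G) := by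
        intro g hg
        exact hcg _ inf_le_left hD1 e heE heD g (fun d hd => hDcomm d hd g hg) (hcon g hg).symm
      have h5 := Subgroup.card_le_of_le hle
      rw [hDcard, hCp] at h5
      have h6 : p * p ≤ p * 1 := by
        rw [← pow_two, mul_one]
        exact h5
      have h7 := Nat.le_of_mul_le_mul_left h6 hp.pos
      have := hp.one_lt
      omega
    obtain ⟨d, hdD, hde⟩ := hex
    have hdE : d ∈ E := (Subgroup.mem_inf.mp hdD).1
    have hdw : d * w = w * d := ((hmemCw d).mp (Subgroup.mem_inf.mp hdD).2).symm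
    have hcC := hcc d e hdE heE
    have hcZ : d * e * d⁻¹ * e⁻¹ ∈ Subgroup.center G := by
      rw [hZ]
      exact hcC
    have hc1 : d * e * d⁻¹ * e⁻¹ ≠ 1 := by
      intro h
      apply hde
      have h8 : d * e = (d * e * d⁻¹ * e⁻¹) * (e * d) := by group
      rw [h8, h, one_mul]
    obtain ⟨k, hk⟩ := hpow _ hcZ hc1 _ (hw e)
    have hcomm : ∀ g : G, (d * e * d⁻¹ * e⁻¹) * g = g * (d * e * d⁻¹ * e⁻¹) :=
      fun g => (Subgroup.mem_center_iff.mp hcZ g).symm
    have hge := hadj d e w _ k hcomm rfl hk hdw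
    have hgD : ∀ d' ∈ E ⊓ Subgroup.centralizer ({w} : Set G),
        d' * (w * (d ^ k)⁻¹) = (w * (d ^ k)⁻¹) * d' := by
      intro d' hd'
      have h1 : Commute d' w := ((hmemCw d').mp (Subgroup.mem_inf.mp hd').2).symm
      have h2 : Commute d' d := hDcomm d' hd' d hdD
      exact (h1.mul_right (h2.pow_right k).inv_right).eq
    have hgC := hcg _ inf_le_left hD1 e heE heD _ hgD hge
    have hgE := hC hgC
    have h9 : w = (w * (d ^ k)⁻¹) * d ^ k := by group
    rw [h9]
    exact E.mul_mem hgE (E.pow_mem hdE k)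

end Cfsg.Agent.Lib.helper45.PearlC
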