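import Mathlib

set_option autoImplicit false

namespace Cfsg.Agent.Lib.helper45.PearlC

/-- C11 FINAL COUNT (prefixed racer copy, verbatim statement). -/
theorem h48_final_count {G : Type*} [Group G] [Finite G] (p : ℕ) [Fact p.Prime] (n : ℕ)
    (hG : Nat.card G = p ^ n) (E : Subgroup G) (hE : Nat.card ↥E = p ^ 3)
    (hC : Subgroup.centralizer (E : Set G) ≤ E)
    (hCp : Nat.card ↥(Subgroup.centralizer (E : Set G)) = p)
    (hZ : Subgroup.center G = Subgroup.centralizer (E : Set G))
    (w x : G) (hwE : w ∈ E) (hxE : x ∈ E) (hxw : x * w ≠ w * x)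
    (hidx : Nat.card G ≤ p * Nat.card ↥(Subgroup.centralizer ({w} : Set G)))
    (hstrict : ∀ A B : Subgroup G, A < B → p * Nat.card ↥A ≤ Nat.card ↥B)
    (hstep : ∀ A B C : Subgroup G, C ≤ B →
      Nat.card ↥(A ⊓ B) * Nat.card ↥C ≤ Nat.card ↥(A ⊓ C) * Nat.card ↥B)
    (hcg : ∀ (D : Subgroup G), D ≤ E → Nat.card ↥E ≤ p * Nat.card ↥D → ∀ e ∈ E, e ∉ D →
      ∀ g : G, (∀ d ∈ D, d * g = g * d) → e * g = g * e →
        g ∈ Subgroup.centralizer (E : Set G)) :
    Nat.card ↥(Subgroup.centralizer ({x} : Set G)) = p ^ 2 := by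
  classical
  have hp : p.Prime := Fact.out
  have hmemC : ∀ a g : G, g ∈ Subgroup.centralizer ({a} : Set G) ↔ a * g = g * a := by
    intro a g
    rw [Subgroup.mem_centralizer_iff]
    simp
  have hZp : Nat.card ↥(Subgroup.center G) = p := by rw [hZ]; exact hCp
  have hZE : Subgroup.center G ≤ E := by rw [hZ]; exact hC
  have hwZ : w ∉ Subgroup.center G := fun h => hxw (Subgroup.mem_center_iff.mp h x)
  have hxZ : x ∉ Subgroup.center G := fun h => hxw (Subgroup.mem_center_iff.mp h w).symm
  have hDE : Subgroup.center G ⊔ Subgroup.zpowers w ≤ E :=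
    sup_le hZE ((Subgroup.zpowers_le).mpr hwE)
  have hwD : w ∈ Subgroup.center G ⊔ Subgroup.zpowers w :=
    (le_sup_right : Subgroup.zpowers w ≤ _) (Subgroup.mem_zpowers w)
  have hlt : Subgroup.center G < Subgroup.center G ⊔ Subgroup.zpowers w :=
    lt_of_le_of_ne le_sup_left (fun h => hwZ (h ▸ hwD))
  have hDcard : p * p ≤ Nat.card ↥(Subgroup.center G ⊔ Subgroup.zpowers w) := by
    have := hstrict _ _ hlt
    rwa [hZp] at this
  have hED : Nat.card ↥E ≤ p * Nat.card ↥(Subgroup.center G ⊔ Subgroup.zpowers w) := by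
    rw [hE]
    calc p ^ 3 = p * (p * p) := by ring
      _ ≤ p * Nat.card ↥(Subgroup.center G ⊔ Subgroup.zpowers w) := Nat.mul_le_mul_left _ hDcard
  have hDle : ∀ g : G, w * g = g * w →
      Subgroup.center G ⊔ Subgroup.zpowers w ≤ Subgroup.centralizer ({g} : Set G) := by
    intro g hg
    refine sup_le (Subgroup.center_le_centralizer _) ((Subgroup.zpowers_le).mpr ?_)
    rw [hmemC]
    exact hg.symm
  have hxD : x ∉ Subgroup.center G ⊔ Subgroup.zpowers w := by
    intro h
    have h1 := hDle w rfl h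
    rw [hmemC] at h1
    exact hxw h1.symm
  have hle : Subgroup.centralizer ({x} : Set G) ⊓ Subgroup.centralizer ({w} : Set G) ≤
      Subgroup.centralizer (E : Set G) := by
    intro g hg
    obtain ⟨hgx, hgw⟩ := Subgroup.mem_inf.mp hg
    rw [hmemC] at hgx hgw
    refine hcg _ hDE hED x hxE hxD g ?_ hgx
    intro d hd
    have h1 := hDle g hgw hd
    rw [hmemC] at h1
    exact h1.symm
  have hcard1 : Nat.card ↥(Subgroup.centralizer ({x} : Set G) ⊓ Subgroup.centralizer ({w} : Set G))
      ≤ p := by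
    have := Subgroup.card_le_of_le hle
    rwa [hCp] at this
  have hupper : Nat.card ↥(Subgroup.centralizer ({x} : Set G)) ≤ p * p := by
    have h1 := hstep (Subgroup.centralizer ({x} : Set G)) ⊤ (Subgroup.centralizer ({w} : Set G))
      le_top
    rw [inf_top_eq, Subgroup.card_top] at h1
    have hpos : 0 < Nat.card ↥(Subgroup.centralizer ({w} : Set G)) := Nat.card_pos
    have h2 : Nat.card ↥(Subgroup.centralizer ({x} : Set G)) *
        Nat.card ↥(Subgroup.centralizer ({w} : Set G)) ≤
        (p * p) * Nat.card ↥(Subgroup.centralizer ({w} : Set G)) := by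
      calc Nat.card ↥(Subgroup.centralizer ({x} : Set G)) *
            Nat.card ↥(Subgroup.centralizer ({w} : Set G))
          ≤ Nat.card ↥(Subgroup.centralizer ({x} : Set G) ⊓ Subgroup.centralizer ({w} : Set G)) *
            Nat.card G := h1
        _ ≤ p * (p * Nat.card ↥(Subgroup.centralizer ({w} : Set G))) :=
            Nat.mul_le_mul hcard1 hidx
        _ = (p * p) * Nat.card ↥(Subgroup.centralizer ({w} : Set G)) := by ring
    exact Nat.le_of_mul_le_mul_right h2 hpos
  have hlower : p * p ≤ Nat.card ↥(Subgroup.centralizer ({x} : Set G)) := by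
    have hlt2 : Subgroup.center G < Subgroup.centralizer ({x} : Set G) := by
      refine lt_of_le_of_ne (Subgroup.center_le_centralizer _) (fun h => hxZ ?_)
      rw [h, hmemC]
    have := hstrict _ _ hlt2
    rwa [hZp] at this
  rw [pow_two]
  exact le_antisymm hupper hlower

end Cfsg.Agent.Lib.helper45.PearlC
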