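import Mathlib
import Cfsg.Agent.Lib.helper68.HallPet
import Cfsg.Agent.Lib.helper65.PearlPow

set_option autoImplicit false

namespace Cfsg.Agent.Lib.helper33.PearlG

open Cfsg.Agent.Lib.helper68 Cfsg.Agent.Lib.helper65.PearlPow

variable {G : Type*} [Group G] [Finite G]

/-- HPC. Hall-Petrescu (`hall_petrescu_mem`) in the group `↥(gam G i)`. -/
theorem hp_congr (p : ℕ) [Fact p.Prime] (hp2 : p ≠ 2) (n : ℕ) (hG : Nat.card G = p ^ n)
    (hF3 : ∀ j, 2 ≤ j → ∀ y ∈ gam G j, y ^ p ∈ gam G (j + p - 1))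
    (hsub : ∀ i k : ℕ, 1 ≤ k → ∀ a : ↥(gam G i), a ∈ gam ↥(gam G i) k → (a : G) ∈ gam G (k * i))
    (i : ℕ) (hi : 2 ≤ i) (a b : G) (ha : a ∈ gam G i) (hb : b ∈ gam G i) :
    ∃ z ∈ gam G (i + p + 1), (a * b) ^ p = a ^ p * b ^ p * z := by
  have hp : p.Prime := Fact.out
  have hp3 : 3 ≤ p := by
    have := hp.two_le
    omega
  have hGp : IsPGroup p G := IsPGroup.of_card hG
  have hTp : IsPGroup p ↥(gam G i) := hGp.to_subgroup _
  have : Group.IsNilpotent ↥(gam G i) := hTp.isNilpotent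
  have hc : (⊤ : Subgroup ↥(gam G i)).lowerCentralSeries (Group.nilpotencyClass ↥(gam G i)) = ⊥ :=
    (Subgroup.lowerCentralSeries_eq_bot_iff_nilpotencyClass_le).mpr le_rfl
  have hM : ∀ k, 2 ≤ k → k ≤ Group.nilpotencyClass ↥(gam G i) → ∀ c ∈ gam ↥(gam G i) k,
      c ^ (p.choose k) ∈ (gam G (i + p + 1)).subgroupOf (gam G i) := by
    intro k hk _ c hc'
    rw [Subgroup.mem_subgroupOf, Subgroup.coe_pow]
    have h1 : (c : G) ∈ gam G (k * i) := hsub i k (by omega) c hc'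
    rcases lt_trichotomy k p with hlt | heq | hgt
    · obtain ⟨q, hq⟩ := hp.dvd_choose_self (by omega) hlt
      rw [hq, mul_comm, pow_mul]
      have h2 : ((c : G) ^ q) ^ p ∈ gam G (k * i + p - 1) :=
        hF3 (k * i) (by nlinarith) _ ((gam G (k * i)).pow_mem h1 q)
      have hki : 2 * i ≤ k * i := Nat.mul_le_mul_right i hk
      exact gam_antitone (by omega) h2
    · subst heq
      rw [Nat.choose_self, pow_one]
      exact gam_antitone (by nlinarith) h1
    · rw [Nat.choose_eq_zero_of_lt hgt, pow_zero]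
      exact Subgroup.one_mem _
  obtain ⟨z, hz, hzeq⟩ := hall_petrescu_mem (Group.nilpotencyClass ↥(gam G i)) hc
    ((gam G (i + p + 1)).subgroupOf (gam G i)) p hM ⟨a, ha⟩ ⟨b, hb⟩
  refine ⟨(z : G), Subgroup.mem_subgroupOf.mp hz, ?_⟩
  have := congrArg (Subtype.val) hzeq
  simpa using this

end Cfsg.Agent.Lib.helper33.PearlG
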