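import Mathlib
import Cfsg.Agent.Lib.helper48.PearlJJ7

set_option autoImplicit false

namespace Cfsg.Agent.Lib.helper52.PearlJ

open Cfsg.Agent.Lib.helper68

/-- J1 (M), prefixed racer copy. Greedy generators modulo `L`. -/
theorem h48_jp_greedy {G : Type*} [Group G] [Finite G] (p : ℕ) [Fact p.Prime] (hGp : IsPGroup p G)
    (k : ℕ) (H L : Subgroup G) (hL : L ≤ H) (hidx : Nat.card H ≤ p ^ k * Nat.card L) :
    ∃ T : Finset G, T.card ≤ k ∧ Subgroup.closure (T : Set G) ⊔ L = H := by
  classical
  induction k generalizing L with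
  | zero =>
    refine ⟨∅, le_rfl, ?_⟩
    have : L = H := Subgroup.eq_of_le_of_card_ge hL (by simpa using hidx)
    simp [this]
  | succ k ih =>
    by_cases hLH : L = H
    · exact ⟨∅, Nat.zero_le _, by simp [hLH]⟩
    · obtain ⟨h, hhH, hhL⟩ := SetLike.exists_of_lt (lt_of_le_of_ne hL hLH)
      have hL' : Subgroup.closure ({h} : Set G) ⊔ L ≤ H :=
        sup_le ((Subgroup.closure_le H).mpr (by simpa using hhH)) hL
      have hmem : h ∈ Subgroup.closure ({h} : Set G) ⊔ L :=
        (le_sup_left : Subgroup.closure ({h} : Set G) ≤ _) (Subgroup.subset_closure rfl)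
      have hcard : p * Nat.card L ≤ Nat.card ↥(Subgroup.closure ({h} : Set G) ⊔ L) :=
        h48_jp_proper_card p hGp _ L le_sup_right h hmem hhL
      have hidx' : Nat.card H ≤ p ^ k * Nat.card ↥(Subgroup.closure ({h} : Set G) ⊔ L) := by
        calc Nat.card H ≤ p ^ (k + 1) * Nat.card L := hidx
          _ = p ^ k * (p * Nat.card L) := by ring
          _ ≤ p ^ k * Nat.card ↥(Subgroup.closure ({h} : Set G) ⊔ L) :=
            Nat.mul_le_mul_left _ hcard
      obtain ⟨T, hT, hTH⟩ := ih (Subgroup.closure ({h} : Set G) ⊔ L) hL' hidx'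
      refine ⟨insert h T, (Finset.card_insert_le h T).trans (by omega), ?_⟩
      rw [Finset.coe_insert, Set.insert_eq, Subgroup.closure_union, ← hTH]
      rw [sup_comm (Subgroup.closure ({h} : Set G)) (Subgroup.closure (T : Set G)), sup_assoc]

end Cfsg.Agent.Lib.helper52.PearlJ
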