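import Mathlib
import Cfsg.Prelude.Def_Classical

set_option autoImplicit false

namespace Cfsg.Agent.Lib.helper48

/-- The nontrivial additive character of `ZMod 2`, with integer values. -/
def chi (a : ZMod 2) : ℤ := if a = 0 then 1 else -1

theorem chi_add (a b : ZMod 2) : chi (a + b) = chi a * chi b := by
  revert a b; decide

theorem chi_zero : chi 0 = 1 := by decide

theorem chi_one : chi 1 = -1 := by decide

theorem chi_add_one (a : ZMod 2) : chi (a + 1) = - chi a := by
  revert a; decide

theorem chi_eq_one_iff (a : ZMod 2) : chi a = 1 ↔ a = 0 := by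
  revert a; decide

theorem zmod2_add_self (a : ZMod 2) : a + a = 0 := by
  revert a; decide

theorem zmod2_mul_self (a : ZMod 2) : a * a = a := by
  revert a; decide

theorem zmod2_eq_zero_or_one (a : ZMod 2) : a = 0 ∨ a = 1 := by
  revert a; decide

/-- The square of the "Gauss sum" of a quadratic function over `ZMod 2` whose polar form is
biadditive and non-degenerate is the size of the space. -/
theorem charSum_sq {V : Type*} [AddCommGroup V] [Fintype V]
    (q : V → ZMod 2) (f : V → V → ZMod 2)
    (hq : ∀ u v, q (u + v) = q u + q v + f u v)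
    (hadd : ∀ u u' v, f (u + u') v = f u v + f u' v)
    (hnd : ∀ t, t ≠ 0 → ∃ u, f u t = 1) :
    (∑ v, chi (q v)) ^ 2 = Fintype.card V := by
  classical
  have hf0 : ∀ v, f 0 v = 0 := by
    intro v
    have := hadd 0 0 v
    simpa using this
  have hq0 : q 0 = 0 := by
    have := hq 0 0
    simpa [hf0] using this
  have hfr0 : ∀ u, f u 0 = 0 := by
    intro u
    have := hq u 0
    simpa [hq0] using this
  have inner : ∀ t, ∑ u, chi (f u t) = if t = 0 then (Fintype.card V : ℤ) else 0 := by
    intro t
    split_ifs with ht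
    · subst ht; simp [hfr0, chi_zero]
    · obtain ⟨u0, hu0⟩ := hnd t ht
      have : ∑ u, chi (f u t) = - ∑ u, chi (f u t) := by
        calc ∑ u, chi (f u t) = ∑ u, chi (f (u + u0) t) :=
              (Equiv.sum_comp (Equiv.addRight u0) (fun u => chi (f u t))).symm
          _ = ∑ u, - chi (f u t) := by
              refine Finset.sum_congr rfl (fun u _ => ?_)
              rw [hadd, hu0, chi_add_one]
          _ = - ∑ u, chi (f u t) := Finset.sum_neg_distrib _
      omega
  calc (∑ v, chi (q v)) ^ 2 = ∑ u, ∑ v, chi (q u) * chi (q v) := by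
        rw [sq, Finset.sum_mul_sum]
    _ = ∑ u, ∑ t, chi (q u) * chi (q (u + t)) := by
        refine Finset.sum_congr rfl (fun u _ => ?_)
        exact (Equiv.sum_comp (Equiv.addLeft u) (fun v => chi (q u) * chi (q v))).symm
    _ = ∑ u, ∑ t, chi (q t) * chi (f u t) := by
        refine Finset.sum_congr rfl (fun u _ => Finset.sum_congr rfl (fun t _ => ?_))
        rw [hq, ← chi_add, ← chi_add]
        congr 1
        calc q u + (q u + q t + f u t) = (q u + q u) + q t + f u t := by ring
          _ = q t + f u t := by rw [zmod2_add_self, zero_add]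
    _ = ∑ t, ∑ u, chi (q t) * chi (f u t) := Finset.sum_comm
    _ = ∑ t, chi (q t) * (if t = 0 then (Fintype.card V : ℤ) else 0) := by
        refine Finset.sum_congr rfl (fun t _ => ?_)
        rw [← Finset.mul_sum, inner]
    _ = Fintype.card V := by
        simp [hq0, chi_zero]

/-- The polar form of the plus-type quadratic form, as an explicit sum. -/
def polPlus (m : ℕ) (F : Type*) [Field F] (u v : Fin m ⊕ Fin m → F) : F :=
  ∑ i : Fin m, (u (.inl i) * v (.inr i) + v (.inl i) * u (.inr i))

theorem polar_plus (m : ℕ) (F : Type*) [Field F] (u v : Fin m ⊕ Fin m → F) :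
    Cfsg.quadFormPlus m F (u + v) - Cfsg.quadFormPlus m F u - Cfsg.quadFormPlus m F v
      = polPlus m F u v := by
  unfold Cfsg.quadFormPlus polPlus
  rw [← Finset.sum_sub_distrib, ← Finset.sum_sub_distrib]
  refine Finset.sum_congr rfl (fun i _ => ?_)
  simp only [Pi.add_apply]
  ring

theorem quadFormPlus_add (m : ℕ) (F : Type*) [Field F] (u v : Fin m ⊕ Fin m → F) :
    Cfsg.quadFormPlus m F (u + v) = Cfsg.quadFormPlus m F u + Cfsg.quadFormPlus m F v
      + polPlus m F u v := by
  rw [← polar_plus]; ring

theorem polPlus_add_left (m : ℕ) (F : Type*) [Field F] (u u' v : Fin m ⊕ Fin m → F) :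
    polPlus m F (u + u') v = polPlus m F u v + polPlus m F u' v := by
  unfold polPlus
  rw [← Finset.sum_add_distrib]
  refine Finset.sum_congr rfl (fun i _ => ?_)
  simp only [Pi.add_apply]
  ring

theorem polPlus_comm (m : ℕ) (F : Type*) [Field F] (u v : Fin m ⊕ Fin m → F) :
    polPlus m F u v = polPlus m F v u := by
  unfold polPlus
  refine Finset.sum_congr rfl (fun i _ => ?_)
  ring

theorem polPlus_add_right (m : ℕ) (F : Type*) [Field F] (u v v' : Fin m ⊕ Fin m → F) :
    polPlus m F u (v + v') = polPlus m F u v + polPlus m F u v' := by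
  rw [polPlus_comm, polPlus_add_left, polPlus_comm m F v u, polPlus_comm m F v' u]

theorem polPlus_smul_left (m : ℕ) (F : Type*) [Field F] (c : F) (u v : Fin m ⊕ Fin m → F) :
    polPlus m F (c • u) v = c * polPlus m F u v := by
  unfold polPlus
  rw [Finset.mul_sum]
  refine Finset.sum_congr rfl (fun i _ => ?_)
  simp only [Pi.smul_apply, smul_eq_mul]
  ring

theorem polPlus_smul_right (m : ℕ) (F : Type*) [Field F] (c : F) (u v : Fin m ⊕ Fin m → F) :
    polPlus m F u (c • v) = c * polPlus m F u v := by
  rw [polPlus_comm, polPlus_smul_left, polPlus_comm]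

theorem polPlus_zero_left (m : ℕ) (F : Type*) [Field F] (v : Fin m ⊕ Fin m → F) :
    polPlus m F 0 v = 0 := by
  have := polPlus_smul_left m F 0 0 v
  simpa using this

theorem polPlus_zero_right (m : ℕ) (F : Type*) [Field F] (u : Fin m ⊕ Fin m → F) :
    polPlus m F u 0 = 0 := by
  rw [polPlus_comm, polPlus_zero_left]

theorem polPlus_single_inr (m : ℕ) (F : Type*) [Field F] (i : Fin m) (c : F)
    (t : Fin m ⊕ Fin m → F) :
    polPlus m F (Pi.single (Sum.inr i) c) t = t (.inl i) * c := by
  classical
  unfold polPlus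
  rw [Finset.sum_eq_single i]
  · simp
  · intro j _ hji
    simp [hji]
  · intro h; exact absurd (Finset.mem_univ i) h

theorem polPlus_single_inl (m : ℕ) (F : Type*) [Field F] (i : Fin m) (c : F)
    (t : Fin m ⊕ Fin m → F) :
    polPlus m F (Pi.single (Sum.inl i) c) t = c * t (.inr i) := by
  classical
  unfold polPlus
  rw [Finset.sum_eq_single i]
  · simp
  · intro j _ hji
    simp [hji]
  · intro h; exact absurd (Finset.mem_univ i) h

/-- The polar form of the plus-type form is non-degenerate. -/
theorem polPlus_nondeg (m : ℕ) (F : Type*) [Field F] (t : Fin m ⊕ Fin m → F) (ht : t ≠ 0) :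
    ∃ u, polPlus m F u t = 1 := by
  classical
  have : ∃ j, t j ≠ 0 := by
    by_contra h
    push Not at h
    exact ht (funext h)
  obtain ⟨j, hj⟩ := this
  rcases j with i | i
  · exact ⟨Pi.single (Sum.inr i) (t (.inl i))⁻¹, by rw [polPlus_single_inr, mul_inv_cancel₀ hj]⟩
  · exact ⟨Pi.single (Sum.inl i) (t (.inr i))⁻¹, by rw [polPlus_single_inl, inv_mul_cancel₀ hj]⟩

theorem polPlus_self (m : ℕ) (u : Fin m ⊕ Fin m → ZMod 2) : polPlus m (ZMod 2) u u = 0 := by
  unfold polPlus
  refine Finset.sum_eq_zero (fun i _ => ?_)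
  rw [mul_comm (u (.inl i)), zmod2_add_self]

/-- Gauss sum of a quadratic function polarizing to the plus-type polar form over `ZMod 2`. -/
theorem charSum_sq_plus (m : ℕ) (q : (Fin m ⊕ Fin m → ZMod 2) → ZMod 2)
    (hq : ∀ u v, q (u + v) = q u + q v + polPlus m (ZMod 2) u v) :
    (∑ v, chi (q v)) ^ 2 = Fintype.card (Fin m ⊕ Fin m → ZMod 2) :=
  charSum_sq q (polPlus m (ZMod 2)) hq (polPlus_add_left m (ZMod 2)) (polPlus_nondeg m (ZMod 2))

end Cfsg.Agent.Lib.helper48
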