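import Mathlib
import Cfsg.Prelude.Def_Classical
import Cfsg.Agent.Lib.helper48.QuadF2

set_option autoImplicit false

namespace Cfsg.Agent.Lib.helper48

section Abstract

variable {V : Type*} [AddCommGroup V] [Module (ZMod 2) V] [Fintype V]

theorem polar_symm_of (q : V → ZMod 2) (f : V → V → ZMod 2)
    (hq : ∀ u v, q (u + v) = q u + q v + f u v) (u v : V) : f u v = f v u := by
  have h1 := hq u v
  have h2 := hq v u
  rw [add_comm v u, h1] at h2
  have : q u + q v + f u v = q u + q v + f v u := by rw [h2]; ring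
  exact add_left_cancel this

theorem polar_add_right_of (q : V → ZMod 2) (f : V → V → ZMod 2)
    (hq : ∀ u v, q (u + v) = q u + q v + f u v)
    (hadd : ∀ u u' v, f (u + u') v = f u v + f u' v) (u v v' : V) :
    f u (v + v') = f u v + f u v' := by
  rw [polar_symm_of q f hq u (v + v'), hadd, polar_symm_of q f hq v u, polar_symm_of q f hq v' u]

theorem sum_chi_submodule (f : V → V → ZMod 2)
    (haddr : ∀ u v v', f u (v + v') = f u v + f u v')
    (U : Submodule (ZMod 2) V) [Fintype U] (v : V) [Decidable (∀ u ∈ U, f v u = 0)] :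
    ∑ u : U, chi (f v u) = if (∀ u ∈ U, f v u = 0) then (Fintype.card U : ℤ) else 0 := by
  split_ifs with h
  · rw [Finset.sum_congr rfl (fun u _ => by rw [h u u.2, chi_zero] :
      ∀ u ∈ (Finset.univ : Finset U), chi (f v (u : V)) = 1)]
    simp
  · push Not at h
    obtain ⟨u0, hu0, hne⟩ := h
    have h1 : f v u0 = 1 := by
      rcases zmod2_eq_zero_or_one (f v u0) with h | h
      · exact absurd h hne
      · exact h
    have : ∑ u : U, chi (f v u) = - ∑ u : U, chi (f v u) := by
      calc ∑ u : U, chi (f v u) = ∑ u : U, chi (f v ((u + ⟨u0, hu0⟩ : U) : V)) :=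
            (Equiv.sum_comp (Equiv.addRight (⟨u0, hu0⟩ : U)) (fun u : U => chi (f v u))).symm
        _ = ∑ u : U, - chi (f v u) := by
            refine Finset.sum_congr rfl (fun u _ => ?_)
            rw [Submodule.coe_add, haddr, h1, chi_add_one]
        _ = - ∑ u : U, chi (f v u) := Finset.sum_neg_distrib _
    omega

theorem sum_chi_all (f : V → V → ZMod 2)
    (hadd : ∀ u u' v, f (u + u') v = f u v + f u' v)
    (hfr0 : ∀ u, f u 0 = 0)
    (hnd : ∀ t, t ≠ 0 → ∃ u, f u t = 1) (t : V) [Decidable (t = 0)] :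
    ∑ u, chi (f u t) = if t = 0 then (Fintype.card V : ℤ) else 0 := by
  split_ifs with ht
  · subst ht; simp [hfr0, chi_zero]
  · obtain ⟨u0, hu0⟩ := hnd t ht
    have : ∑ u, chi (f u t) = - ∑ u, chi (f u t) := by
      calc ∑ u, chi (f u t) = ∑ u, chi (f (u + u0) t) :=
            (Equiv.sum_comp (Equiv.addRight u0) (fun u => chi (f u t))).symm
        _ = ∑ u, - chi (f u t) := by
            refine Finset.sum_congr rfl (fun u _ => ?_)
            rw [hadd, hu0, chi_add_one]
        _ = - ∑ u, chi (f u t) := Finset.sum_neg_distrib _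
    omega

theorem card_mul_card_perp (f : V → V → ZMod 2)
    (hadd : ∀ u u' v, f (u + u') v = f u v + f u' v)
    (haddr : ∀ u v v', f u (v + v') = f u v + f u v')
    (hnd : ∀ t, t ≠ 0 → ∃ u, f u t = 1)
    (U : Submodule (ZMod 2) V) [Fintype U]
    [DecidablePred fun v : V => ∀ u ∈ U, f v u = 0] :
    Fintype.card U * (Finset.univ.filter (fun v : V => ∀ u ∈ U, f v u = 0)).card
      = Fintype.card V := by
  classical
  have hfr0 : ∀ u, f u 0 = 0 := by
    intro u
    have := haddr u 0 0
    simpa using this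
  have key : ∑ v : V, ∑ u : U, chi (f v u) = (Fintype.card V : ℤ) := by
    rw [Finset.sum_comm]
    simp_rw [sum_chi_all f hadd hfr0 hnd]
    rw [Finset.sum_eq_single (0 : U)]
    · simp
    · intro b _ hb
      rw [if_neg]
      simpa using hb
    · intro h; exact absurd (Finset.mem_univ _) h
  have key2 : ∑ v : V, ∑ u : U, chi (f v u)
      = (Fintype.card U : ℤ) * (Finset.univ.filter (fun v : V => ∀ u ∈ U, f v u = 0)).card := by
    simp_rw [sum_chi_submodule f haddr U]
    rw [← Finset.sum_filter, Finset.sum_const, nsmul_eq_mul, mul_comm]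
  exact_mod_cast key2.symm.trans key

theorem card_mul_charSum (q : V → ZMod 2) (f : V → V → ZMod 2)
    (hq : ∀ u v, q (u + v) = q u + q v + f u v)
    (haddr : ∀ u v v', f u (v + v') = f u v + f u v')
    (U : Submodule (ZMod 2) V) [Fintype U] (hU : ∀ u ∈ U, q u = 0)
    [DecidablePred fun v : V => ∀ u ∈ U, f v u = 0] :
    (Fintype.card U : ℤ) * ∑ v, chi (q v)
      = (Fintype.card U : ℤ) *
          ∑ v ∈ Finset.univ.filter (fun v : V => ∀ u ∈ U, f v u = 0), chi (q v) := by
  have h1 : (Fintype.card U : ℤ) * ∑ v, chi (q v) = ∑ u : U, ∑ v, chi (q (v + u)) := by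
    rw [← nsmul_eq_mul, ← Finset.card_univ (α := U), ← Finset.sum_const]
    refine Finset.sum_congr rfl (fun u _ => ?_)
    exact (Equiv.sum_comp (Equiv.addRight (u : V)) (fun v => chi (q v))).symm
  have h2 : ∑ u : U, ∑ v, chi (q (v + u)) = ∑ v, chi (q v) * ∑ u : U, chi (f v u) := by
    rw [Finset.sum_comm]
    refine Finset.sum_congr rfl (fun v _ => ?_)
    rw [Finset.mul_sum]
    refine Finset.sum_congr rfl (fun u _ => ?_)
    rw [hq, hU u u.2, add_zero, chi_add]
  rw [h1, h2]
  simp_rw [sum_chi_submodule f haddr U]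
  rw [Finset.mul_sum, Finset.sum_filter]
  refine Finset.sum_congr rfl (fun v _ => ?_)
  split_ifs <;> ring

/-- A totally singular subspace has at most half the dimension. -/
theorem ts_finrank_le (q : V → ZMod 2) (f : V → V → ZMod 2)
    (hq : ∀ u v, q (u + v) = q u + q v + f u v)
    (hadd : ∀ u u' v, f (u + u') v = f u v + f u' v)
    (hnd : ∀ t, t ≠ 0 → ∃ u, f u t = 1)
    (U : Submodule (ZMod 2) V) (hU : ∀ u ∈ U, q u = 0) :
    2 * Module.finrank (ZMod 2) U ≤ Module.finrank (ZMod 2) V := by
  classical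
  have haddr := polar_add_right_of q f hq hadd
  have hcard := card_mul_card_perp f hadd haddr hnd U
  have hsub : Finset.univ.filter (fun v : V => v ∈ U)
      ⊆ Finset.univ.filter (fun v : V => ∀ u ∈ U, f v u = 0) := by
    intro v hv
    simp only [Finset.mem_filter, Finset.mem_univ, true_and] at hv ⊢
    intro u hu
    have := hq v u
    rw [hU _ (U.add_mem hv hu), hU v hv, hU u hu] at this
    simpa using this.symm
  have hcU : (Finset.univ.filter (fun v : V => v ∈ U)).card = Fintype.card U :=
    (Fintype.card_subtype _).symm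
  have hle := Finset.card_le_card hsub
  rw [hcU] at hle
  have hUc : Fintype.card U = 2 ^ Module.finrank (ZMod 2) U := by
    rw [Module.card_eq_pow_finrank (K := ZMod 2) (V := U), ZMod.card]
  have hVc : Fintype.card V = 2 ^ Module.finrank (ZMod 2) V := by
    rw [Module.card_eq_pow_finrank (K := ZMod 2) (V := V), ZMod.card]
  have : 2 ^ (2 * Module.finrank (ZMod 2) U) ≤ 2 ^ Module.finrank (ZMod 2) V := by
    calc 2 ^ (2 * Module.finrank (ZMod 2) U) = Fintype.card U * Fintype.card U := by
          rw [hUc]; ring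
      _ ≤ Fintype.card U * (Finset.univ.filter (fun v : V => ∀ u ∈ U, f v u = 0)).card :=
          Nat.mul_le_mul_left _ hle
      _ = 2 ^ Module.finrank (ZMod 2) V := by rw [hcard, hVc]
  exact (Nat.pow_le_pow_iff_right (by norm_num)).1 this

/-- If a totally singular subspace has exactly half the dimension, the Gauss sum is positive. -/
theorem charSum_of_ts_half (q : V → ZMod 2) (f : V → V → ZMod 2)
    (hq : ∀ u v, q (u + v) = q u + q v + f u v)
    (hadd : ∀ u u' v, f (u + u') v = f u v + f u' v)
    (hnd : ∀ t, t ≠ 0 → ∃ u, f u t = 1)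
    (U : Submodule (ZMod 2) V) (hU : ∀ u ∈ U, q u = 0)
    (hhalf : 2 * Module.finrank (ZMod 2) U = Module.finrank (ZMod 2) V) :
    ∑ v, chi (q v) = 2 ^ Module.finrank (ZMod 2) U := by
  classical
  have haddr := polar_add_right_of q f hq hadd
  have hcard := card_mul_card_perp f hadd haddr hnd U
  have hsub : Finset.univ.filter (fun v : V => v ∈ U)
      ⊆ Finset.univ.filter (fun v : V => ∀ u ∈ U, f v u = 0) := by
    intro v hv
    simp only [Finset.mem_filter, Finset.mem_univ, true_and] at hv ⊢
    intro u hu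
    have := hq v u
    rw [hU _ (U.add_mem hv hu), hU v hv, hU u hu] at this
    simpa using this.symm
  have hcU : (Finset.univ.filter (fun v : V => v ∈ U)).card = Fintype.card U :=
    (Fintype.card_subtype _).symm
  have hUc : Fintype.card U = 2 ^ Module.finrank (ZMod 2) U := by
    rw [Module.card_eq_pow_finrank (K := ZMod 2) (V := U), ZMod.card]
  have hVc : Fintype.card V = 2 ^ Module.finrank (ZMod 2) V := by
    rw [Module.card_eq_pow_finrank (K := ZMod 2) (V := V), ZMod.card]
  have hUpos : 0 < Fintype.card U := by rw [hUc]; positivity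
  have hperp : (Finset.univ.filter (fun v : V => ∀ u ∈ U, f v u = 0)).card = Fintype.card U := by
    have h1 : Fintype.card U * (Finset.univ.filter (fun v : V => ∀ u ∈ U, f v u = 0)).card
        = Fintype.card U * Fintype.card U := by
      rw [hcard, hVc, hUc, ← hhalf]; ring
    exact Nat.eq_of_mul_eq_mul_left hUpos h1
  have heq : Finset.univ.filter (fun v : V => v ∈ U)
      = Finset.univ.filter (fun v : V => ∀ u ∈ U, f v u = 0) :=
    Finset.eq_of_subset_of_card_le hsub (by rw [hperp, hcU])
  have hmain := card_mul_charSum q f hq haddr U hU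
  rw [← heq] at hmain
  have hsum : ∑ v ∈ Finset.univ.filter (fun v : V => v ∈ U), chi (q v) = (Fintype.card U : ℤ) := by
    rw [Finset.sum_congr rfl (fun v hv => by
      rw [hU v (by simpa using hv), chi_zero] :
      ∀ v ∈ Finset.univ.filter (fun v : V => v ∈ U), chi (q v) = 1)]
    simp [hcU]
  rw [hsum] at hmain
  have hUpos' : (Fintype.card U : ℤ) ≠ 0 := by exact_mod_cast hUpos.ne'
  have := mul_left_cancel₀ hUpos' hmain
  rw [this, hUc]
  push_cast
  rfl

end Abstract

end Cfsg.Agent.Lib.helper48
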