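import Mathlib
import Cfsg.Agent.Lib.helper45.RUDefs
import Cfsg.Agent.Lib.helper48.RU_D

/-!
# S2279 piece C (helper48 racing copy): `h48_Om_wrap`
-/

set_option autoImplicit false

namespace Cfsg.Agent.Lib.helper45.RU

open Matrix Cfsg.Agent.Lib.helper44

variable {n : ℕ} {F : Type*} [Field F] {S : Set (Matrix (Fin n) (Fin n) F)}

/-- C (racing copy, prefixed name) -/
theorem h48_Om_wrap (hS : MatGrp S) (hJ : jm F n ∈ S) (l : Fin n) (hl : l.val + 1 = n)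
    (i i' : ℕ) (hi : i + 2 ≤ n) (hi' : i' + 2 ≤ n) (h : n ≤ i + i' + 1) {x y : F}
    (hx : x ∈ Om S l i) (hy : y ∈ Om S l i') : x * y ∈ Om S l (i + i' + 1 - n) := by
  obtain ⟨s, hs⟩ : ∃ s, n - 1 - i = s := ⟨_, rfl⟩
  obtain ⟨r, hr⟩ : ∃ r, i + i' + 1 - n = r := ⟨_, rfl⟩
  rw [hr]
  have hi's : i' = r + s := by omega
  have his : i + s + 1 = n := by omega
  have hJp : (jm F n) ^ s ∈ S := h48_jm_pow_mem hS hJ s
  have hM : 1 + vecMulVec ((jm F n) ^ s *ᵥ Pi.single l 1) (y • rowv F n r) ∈ S := by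
    have key := conj_rankOne ((jm F n) ^ s) (Pi.single l 1) (y • rowv F n r)
    rw [Matrix.smul_vecMul, ← rowv_add, ← hi's] at key
    exact hS.conj hJp ((mem_Om S l i' y).mp hy) key.symm
  have hX : 1 + vecMulVec (Pi.single l 1) (x • rowv F n i) ∈ S := (mem_Om S l i x).mp hx
  have h1 : (y • rowv F n r) ⬝ᵥ (Pi.single l 1 : Fin n → F) = 0 := by
    rw [smul_dotProduct, rowv_dot_last _ l hl (by omega), smul_zero]
  have h2 : (y • rowv F n r) ⬝ᵥ ((jm F n) ^ s *ᵥ Pi.single l 1) = 0 := by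
    rw [smul_dotProduct, Matrix.dotProduct_mulVec, ← rowv_add, ← hi's,
      rowv_dot_last _ l hl hi', smul_zero]
  have h3 : (x • rowv F n i) ⬝ᵥ ((jm F n) ^ s *ᵥ Pi.single l 1) = x := by
    rw [smul_dotProduct, Matrix.dotProduct_mulVec, ← rowv_add,
      rowv_dot_last_top _ l hl his, smul_eq_mul, mul_one]
  have hC := MatGrp_comm_mem hS hX hM (h48_formulaC _ _ _ _ h1 h2)
  rw [h3, smul_smul] at hC
  exact hC

end Cfsg.Agent.Lib.helper45.RU

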