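import Mathlib

namespace Cfsg.Agent.Lib.helper48

/-- The number of `m`-th roots of unity in a finite field with `q` elements is `gcd m (q - 1)`. -/
theorem card_pow_eq_one {K : Type*} [Field K] [Fintype K] {q : ℕ} (hq : Fintype.card K = q) (m : ℕ)
    (hm : 0 < m) : Nat.card {s : K // s ^ m = 1} = Nat.gcd m (q - 1) := by
  classical
  have hcard : Nat.card Kˣ = q - 1 := by
    rw [Nat.card_eq_fintype_card, Fintype.card_units, hq]
  have hker : Nat.card (powMonoidHom m : Kˣ →* Kˣ).ker = (Nat.card Kˣ).gcd m :=
    IsCyclic.card_powMonoidHom_ker (G := Kˣ) m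
  rw [Nat.gcd_comm, ← hcard, ← hker]
  refine Nat.card_congr ?_
  refine
    { toFun := fun s => ⟨Units.mkOfMulEqOne (s.1) (s.1 ^ (m - 1)) (by
          rw [← pow_succ', Nat.sub_add_cancel hm]; exact s.2), by
        rw [MonoidHom.mem_ker, powMonoidHom_apply]
        ext
        simpa using s.2⟩
      invFun := fun u => ⟨(u.1 : K), by
        have h := u.2
        rw [MonoidHom.mem_ker, powMonoidHom_apply] at h
        have h2 := congrArg (fun x : Kˣ => (x : K)) h
        simpa using h2⟩
      left_inv := fun s => by
        ext
        simp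
      right_inv := fun u => by
        ext
        simp }

end Cfsg.Agent.Lib.helper48
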