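import Cfsg.Agent.Lib.helper43.SL2Data

/-!
# S2686, piece F-CORE, sub-piece SL2: subgroups of `SL₂(K)` normalized by `GL₂(K)`
-/

set_option autoImplicit false

namespace Cfsg.Agent.Lib.helper48.S2686

open Matrix
open Cfsg.Agent.Lib.helper43 (uSL uSL_val eq_top_of_USL_le)

section sl2

variable {K : Type*} [Field K]

theorem mk2_ext {a b c d a' b' c' d' : K} (h1 : a = a') (h2 : b = b') (h3 : c = c')
    (h4 : d = d') : !![a, b; c, d] = !![a', b'; c', d'] := by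
  rw [h1, h2, h3, h4]

theorem conj_mem_aux (N : Subgroup (SpecialLinearGroup (Fin 2) K))
    (hN : ∀ (g g' : Matrix (Fin 2) (Fin 2) K), g * g' = 1 → ∀ s ∈ N,
      ∀ t : SpecialLinearGroup (Fin 2) K, t.1 = g * s.1 * g' → t ∈ N)
    (g g' : Matrix (Fin 2) (Fin 2) K) (hgg' : g * g' = 1) (s : SpecialLinearGroup (Fin 2) K)
    (hs : s ∈ N) : ∃ t ∈ N, t.1 = g * s.1 * g' := by
  have hdet : (g * s.1 * g').det = 1 := by
    rw [Matrix.det_mul, Matrix.det_mul, s.2, mul_one, ← Matrix.det_mul, hgg', Matrix.det_one]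
  exact ⟨⟨g * s.1 * g', hdet⟩, hN g g' hgg' s hs _ rfl, rfl⟩

/-- a member with nonzero lower-left entry is conjugate to the companion matrix of its
characteristic polynomial -/
theorem companion_mem (N : Subgroup (SpecialLinearGroup (Fin 2) K))
    (hN : ∀ (g g' : Matrix (Fin 2) (Fin 2) K), g * g' = 1 → ∀ s ∈ N,
      ∀ t : SpecialLinearGroup (Fin 2) K, t.1 = g * s.1 * g' → t ∈ N)
    (s : SpecialLinearGroup (Fin 2) K) (hs : s ∈ N) (hr : s.1 1 0 ≠ 0) :
    ∃ c ∈ N, ∃ t : K, c.1 = !![0, -1; 1, t] := by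
  obtain ⟨p, hp⟩ : ∃ p, p = s.1 0 0 := ⟨_, rfl⟩
  obtain ⟨q, hq⟩ : ∃ q, q = s.1 0 1 := ⟨_, rfl⟩
  obtain ⟨r, hr'⟩ : ∃ r, r = s.1 1 0 := ⟨_, rfl⟩
  obtain ⟨w, hw⟩ : ∃ w, w = s.1 1 1 := ⟨_, rfl⟩
  have hs' : s.1 = !![p, q; r, w] := by
    rw [hp, hq, hr', hw]; exact Matrix.eta_fin_two s.1
  have hdet : p * w - q * r = 1 := by
    have h1 := s.2
    rw [hs', Matrix.det_fin_two_of] at h1
    exact h1
  rw [← hr'] at hr
  obtain ⟨ri, hri⟩ : ∃ ri : K, r * ri = 1 := ⟨r⁻¹, mul_inv_cancel₀ hr⟩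
  obtain ⟨t, ht, htv⟩ := conj_mem_aux N hN !![1, -p * ri; 0, ri] !![1, p; 0, r] (by
    rw [Matrix.mul_fin_two, Matrix.one_fin_two]
    apply mk2_ext
    · ring
    · linear_combination (-p) * hri
    · ring
    · linear_combination hri) s hs
  refine ⟨t, ht, p + w, ?_⟩
  rw [htv, hs', Matrix.mul_fin_two, Matrix.mul_fin_two]
  apply mk2_ext
  · linear_combination (-p) * hri
  · linear_combination (-(p ^ 2 + p * w)) * hri - hdet
  · linear_combination hri
  · linear_combination (p + w) * hri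

/-- a non-scalar member gives a member with nonzero lower-left entry -/
theorem exists_lower_ne (N : Subgroup (SpecialLinearGroup (Fin 2) K))
    (hN : ∀ (g g' : Matrix (Fin 2) (Fin 2) K), g * g' = 1 → ∀ s ∈ N,
      ∀ t : SpecialLinearGroup (Fin 2) K, t.1 = g * s.1 * g' → t ∈ N)
    (s : SpecialLinearGroup (Fin 2) K) (hs : s ∈ N)
    (hsc : ∀ c : K, s.1 ≠ c • (1 : Matrix (Fin 2) (Fin 2) K)) :
    ∃ s' ∈ N, s'.1 1 0 ≠ 0 := by
  obtain ⟨p, hp⟩ : ∃ p, p = s.1 0 0 := ⟨_, rfl⟩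
  obtain ⟨q, hq⟩ : ∃ q, q = s.1 0 1 := ⟨_, rfl⟩
  obtain ⟨r, hr'⟩ : ∃ r, r = s.1 1 0 := ⟨_, rfl⟩
  obtain ⟨w, hw⟩ : ∃ w, w = s.1 1 1 := ⟨_, rfl⟩
  have hs' : s.1 = !![p, q; r, w] := by
    rw [hp, hq, hr', hw]; exact Matrix.eta_fin_two s.1
  by_cases hr : r = 0
  · by_cases hq0 : q = 0
    · have hpw : p ≠ w := by
        intro hpw
        apply hsc p
        rw [hs', hr, hq0, ← hpw, Matrix.one_fin_two]
        simp
      obtain ⟨t, ht, htv⟩ := conj_mem_aux N hN !![1, 0; 1, 1] !![1, 0; -1, 1] (by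
        rw [Matrix.mul_fin_two, Matrix.one_fin_two]
        apply mk2_ext <;> ring) s hs
      refine ⟨t, ht, ?_⟩
      rw [htv, hs', Matrix.mul_fin_two, Matrix.mul_fin_two, hr, hq0]
      simp
      intro h0
      apply hpw
      linear_combination h0
    · obtain ⟨t, ht, htv⟩ := conj_mem_aux N hN !![0, 1; -1, 0] !![0, -1; 1, 0] (by
        rw [Matrix.mul_fin_two, Matrix.one_fin_two]
        apply mk2_ext <;> ring) s hs
      refine ⟨t, ht, ?_⟩
      rw [htv, hs', Matrix.mul_fin_two, Matrix.mul_fin_two]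
      simp
      exact hq0
  · exact ⟨s, hs, by rw [← hr']; exact hr⟩

/-- **SL₂ dichotomy**: a subgroup of `SL₂(K)` normalized by `GL₂(K)` is scalar or everything,
provided `K` has an element `a ≠ 0` with `a² ≠ 1`. -/
theorem sl2_dichotomy (a : K) (ha0 : a ≠ 0) (ha : a ^ 2 ≠ 1)
    (N : Subgroup (SpecialLinearGroup (Fin 2) K))
    (hN : ∀ (g g' : Matrix (Fin 2) (Fin 2) K), g * g' = 1 → ∀ s ∈ N,
      ∀ t : SpecialLinearGroup (Fin 2) K, t.1 = g * s.1 * g' → t ∈ N) :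
    (∀ s ∈ N, ∃ c : K, s.1 = c • (1 : Matrix (Fin 2) (Fin 2) K)) ∨ N = ⊤ := by
  by_cases hsc : ∀ s ∈ N, ∃ c : K, s.1 = c • (1 : Matrix (Fin 2) (Fin 2) K)
  · exact Or.inl hsc
  right
  have hsc' : ∃ s ∈ N, ∀ c : K, s.1 ≠ c • (1 : Matrix (Fin 2) (Fin 2) K) := by
    by_contra hcon
    apply hsc
    intro s hs
    by_contra hc
    exact hcon ⟨s, hs, fun c hc' => hc ⟨c, hc'⟩⟩
  obtain ⟨s, hs, hsne⟩ := hsc'
  have hnormal : N.Normal := by
    constructor
    intro n hn g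
    refine hN g.1 (g⁻¹).1 ?_ n hn _ ?_
    · rw [← Matrix.SpecialLinearGroup.coe_mul, mul_inv_cancel]; rfl
    · rfl
  obtain ⟨s', hs', hlow⟩ := exists_lower_ne N hN s hs hsne
  obtain ⟨c, hc, t, hct⟩ := companion_mem N hN s' hs' hlow
  obtain ⟨ai, haa⟩ : ∃ ai : K, a * ai = 1 := ⟨a⁻¹, mul_inv_cancel₀ ha0⟩
  obtain ⟨c₂, hc₂, hc₂v⟩ := conj_mem_aux N hN !![a, 0; 0, 1] !![ai, 0; 0, 1] (by
    rw [Matrix.mul_fin_two, Matrix.one_fin_two]
    apply mk2_ext
    · linear_combination haa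
    · ring
    · ring
    · ring) c hc
  obtain ⟨B, hB⟩ : ∃ B, B = c⁻¹ * c₂ := ⟨_, rfl⟩
  have hBN : B ∈ N := by rw [hB]; exact N.mul_mem (N.inv_mem hc) hc₂
  have hBv : B.1 = !![ai, t * (1 - a); 0, a] := by
    rw [hB, Matrix.SpecialLinearGroup.coe_mul, Matrix.SpecialLinearGroup.coe_inv, hc₂v, hct,
      Matrix.adjugate_fin_two_of, Matrix.mul_fin_two, Matrix.mul_fin_two, Matrix.mul_fin_two]
    apply mk2_ext
    · ring
    · ring
    · ring
    · ring
  have hBiv : (B⁻¹).1 = !![a, -(t * (1 - a)); 0, ai] := by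
    rw [Matrix.SpecialLinearGroup.coe_inv, hBv, Matrix.adjugate_fin_two_of]
    apply mk2_ext <;> ring
  have hu : ∀ x : K, uSL ((ai ^ 2 - 1) * x) ∈ N := by
    intro x
    have h1 : uSL x * B⁻¹ * (uSL x)⁻¹ ∈ N := hnormal.conj_mem _ (N.inv_mem hBN) _
    have h2 : B * (uSL x * B⁻¹ * (uSL x)⁻¹) ∈ N := N.mul_mem hBN h1
    have h3 : B * (uSL x * B⁻¹ * (uSL x)⁻¹) = uSL ((ai ^ 2 - 1) * x) := by
      apply Subtype.ext
      rw [Cfsg.Agent.Lib.helper43.uSL_inv]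
      simp only [Matrix.SpecialLinearGroup.coe_mul]
      rw [hBv, hBiv, uSL_val, uSL_val, uSL_val, Matrix.mul_fin_two, Matrix.mul_fin_two,
        Matrix.mul_fin_two]
      apply mk2_ext
      · linear_combination haa
      · linear_combination (-x) * haa
      · ring
      · linear_combination haa
    rw [← h3]
    exact h2
  have hne : ai ^ 2 - 1 ≠ 0 := by
    intro h0
    apply ha
    linear_combination (-a ^ 2) * h0 + (a * ai + 1) * haa
  apply eq_top_of_USL_le N hnormal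
  intro b
  have h1 := hu (b / (ai ^ 2 - 1))
  rw [mul_div_cancel₀ _ hne] at h1
  exact h1

theorem exists_sq_ne_one [Fintype K] (h : 4 ≤ Fintype.card K) : ∃ a : K, a ≠ 0 ∧ a ^ 2 ≠ 1 := by
  classical
  by_contra hcon
  have h1 : (Finset.univ : Finset K) ⊆ {0, 1, -1} := by
    intro a _
    by_cases ha0 : a = 0
    · simp [ha0]
    · have h2 : a ^ 2 = 1 := by
        by_contra h2
        exact hcon ⟨a, ha0, h2⟩
      have h3 : (a - 1) * (a + 1) = 0 := by linear_combination h2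
      rcases mul_eq_zero.mp h3 with h4 | h4
      · have : a = 1 := by linear_combination h4
        simp [this]
      · have : a = -1 := by linear_combination h4
        simp [this]
  have h2 := Finset.card_le_card h1
  have h3 : ({0, 1, -1} : Finset K).card ≤ 3 := Finset.card_le_three
  rw [Finset.card_univ] at h2
  omega

end sl2

end Cfsg.Agent.Lib.helper48.S2686
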