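import Cfsg.Agent.Lib.helper65.S2686OREFL
import Cfsg.Agent.Lib.helper50.SymClass
import Cfsg.Agent.Lib.helper48.S2686OCENT

/-!
# S2687, piece G-LIN-O: a semilinear map commuting with the involutions of a special orthogonal
group over a subfield is a scalar, and its field automorphism fixes the subfield
-/

set_option autoImplicit false

namespace Cfsg.Agent.Lib.helper48.S2687

open Matrix Cfsg
open Cfsg.Agent.Lib.helper48.LB
open Cfsg.Agent.Lib.helper65.S2686 (refl_mul_self refl_isometry refl_det refl_perp_sq)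

universe u v

section rel

variable {F : Type u} [Field F] {F₀ : Type v} [Field F₀] {κ : Type} [Fintype κ] [DecidableEq κ]

theorem map_mulVec_fun (ι : F₀ →+* F) (M : Matrix κ κ F₀) (v : κ → F₀) :
    (fun i => ι ((M *ᵥ v) i)) = M.map ι *ᵥ (fun i => ι (v i)) := by
  funext i
  exact RingHom.map_mulVec ι M v i

theorem map_dot_fun (ι : F₀ →+* F) (v w : κ → F₀) :
    ι (v ⬝ᵥ w) = (fun i => ι (v i)) ⬝ᵥ (fun i => ι (w i)) :=
  RingHom.map_dotProduct ι v w

theorem map_mulVec_tau (τ : F ≃+* F) (M : Matrix κ κ F) (v : κ → F) :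
    (fun i => τ ((M *ᵥ v) i)) = M.map τ *ᵥ (fun i => τ (v i)) := by
  funext i
  simp [Matrix.mulVec, dotProduct, map_sum, map_mul]

theorem refl_map (ι : F₀ →+* F) (G : Matrix κ κ F₀) (v : κ → F₀) :
    (LB.refl G v).map ι = LB.refl (G.map ι) (fun i => ι (v i)) := by
  have hQ : ι (v ⬝ᵥ G *ᵥ v) = (fun i => ι (v i)) ⬝ᵥ G.map ι *ᵥ (fun i => ι (v i)) := by
    rw [map_dot_fun, map_mulVec_fun]
  have hGv : ∀ j, ι ((G *ᵥ v) j) = (G.map ι *ᵥ (fun i => ι (v i))) j := fun j =>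
    congrFun (map_mulVec_fun ι G v) j
  ext i j
  unfold LB.refl
  simp only [Matrix.map_apply, Matrix.sub_apply, Matrix.smul_apply, Matrix.vecMulVec_apply,
    smul_eq_mul, map_sub, map_mul, map_div₀, Matrix.one_apply, hQ, hGv, map_ofNat]
  congr 1
  split_ifs <;> simp

/-- **Key lemma, relative version** -/
theorem key_plane_rel (h2 : (2 : F) ≠ 0) (ι : F₀ →+* F) (G : Matrix κ κ F₀) (hG : Gᵀ = G)
    (w : Matrix κ κ F) (τ : F ≃+* F)
    (hcomm : ∀ S : Matrix κ κ F₀, S * S = 1 → S.det = 1 → Sᵀ * G * S = G →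
      w * (S.map ι).map τ = S.map ι * w)
    (a b : κ → F₀) (ha : a ⬝ᵥ G *ᵥ a ≠ 0) (hb : b ⬝ᵥ G *ᵥ b ≠ 0) (hab : a ⬝ᵥ G *ᵥ b = 0) :
    ∃ x y : F, w *ᵥ (fun i => τ (ι (a i))) = x • (fun i => ι (a i)) + y • (fun i => ι (b i)) := by
  obtain ⟨S, hS⟩ : ∃ S : Matrix κ κ F₀, S = LB.refl G a * LB.refl G b := ⟨_, rfl⟩
  have hS2 : S * S = 1 := by rw [hS]; exact refl_perp_sq G hG a b ha hb hab
  have hSdet : S.det = 1 := by
    rw [hS, Matrix.det_mul, refl_det G a ha, refl_det G b hb]; norm_num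
  have hSG : Sᵀ * G * S = G := by
    rw [hS, Matrix.transpose_mul]
    calc (LB.refl G b)ᵀ * (LB.refl G a)ᵀ * G * (LB.refl G a * LB.refl G b)
        = (LB.refl G b)ᵀ * ((LB.refl G a)ᵀ * G * LB.refl G a) * LB.refl G b := by
          simp only [Matrix.mul_assoc]
      _ = G := by rw [refl_isometry G hG a ha, refl_isometry G hG b hb]
  have H := hcomm S hS2 hSdet hSG
  -- over `F`
  obtain ⟨G', hG'⟩ : ∃ G' : Matrix κ κ F, G' = G.map ι := ⟨_, rfl⟩
  obtain ⟨a', ha'⟩ : ∃ a' : κ → F, a' = fun i => ι (a i) := ⟨_, rfl⟩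
  obtain ⟨b', hb'⟩ : ∃ b' : κ → F, b' = fun i => ι (b i) := ⟨_, rfl⟩
  have hG'T : G'ᵀ = G' := by
    rw [hG', ← Matrix.transpose_map, hG]
  have hSmap : S.map ι = LB.refl G' a' * LB.refl G' b' := by
    rw [hS, Matrix.map_mul, refl_map, refl_map, hG', ha', hb']
  have ha'Q : a' ⬝ᵥ G' *ᵥ a' ≠ 0 := by
    rw [ha', hG', ← map_mulVec_fun, ← map_dot_fun]
    exact fun h0 => ha (ι.injective (by rw [h0, map_zero]))
  have hb'Q : b' ⬝ᵥ G' *ᵥ b' ≠ 0 := by
    rw [hb', hG', ← map_mulVec_fun, ← map_dot_fun]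
    exact fun h0 => hb (ι.injective (by rw [h0, map_zero]))
  have hab0 : a' ⬝ᵥ G' *ᵥ b' = 0 := by
    rw [ha', hb', hG', ← map_mulVec_fun, ← map_dot_fun, hab, map_zero]
  have hba : (G' *ᵥ b') ⬝ᵥ a' = 0 := by rw [dotProduct_comm]; exact hab0
  have hab' : (G' *ᵥ a') ⬝ᵥ b' = 0 := by
    rw [dotProduct_comm, Matrix.dotProduct_mulVec, ← Matrix.mulVec_transpose, hG'T,
      dotProduct_comm]
    exact hab0
  have haa : (G' *ᵥ a') ⬝ᵥ a' = a' ⬝ᵥ G' *ᵥ a' := dotProduct_comm _ _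
  have hsa : S.map ι *ᵥ a' = -a' := by
    rw [hSmap, ← Matrix.mulVec_mulVec, refl_mulVec G' b' a', hba, mul_zero, zero_div, zero_smul,
      sub_zero, refl_mulVec, haa, mul_div_assoc, div_self ha'Q, mul_one]
    ext i
    simp only [Pi.sub_apply, Pi.smul_apply, smul_eq_mul, Pi.neg_apply]
    ring
  obtain ⟨u, hu⟩ : ∃ u : κ → F, u = w *ᵥ (fun i => τ (a' i)) := ⟨_, rfl⟩
  have hsu : S.map ι *ᵥ u = -u := by
    rw [hu, Matrix.mulVec_mulVec, ← H, ← Matrix.mulVec_mulVec, ← map_mulVec_tau, hsa]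
    rw [← Matrix.mulVec_neg]
    congr 1
    funext i
    simp
  rw [hSmap, ← Matrix.mulVec_mulVec, refl_mulVec G' b' u, refl_mulVec] at hsu
  rw [dotProduct_sub, dotProduct_smul, hab', smul_zero, sub_zero] at hsu
  have hu' : w *ᵥ (fun i => τ (ι (a i))) = u := by rw [hu, ha']
  rw [hu']
  refine ⟨((G' *ᵥ a') ⬝ᵥ u) / (a' ⬝ᵥ G' *ᵥ a'), ((G' *ᵥ b') ⬝ᵥ u) / (b' ⬝ᵥ G' *ᵥ b'), ?_⟩
  ext i
  have h3 := congrFun hsu i
  simp only [Pi.sub_apply, Pi.smul_apply, smul_eq_mul, Pi.neg_apply, Pi.add_apply] at h3 ⊢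
  have h4 : (2 : F) * u i = 2 * (((G' *ᵥ a') ⬝ᵥ u) / (a' ⬝ᵥ G' *ᵥ a') * a' i
      + ((G' *ᵥ b') ⬝ᵥ u) / (b' ⬝ᵥ G' *ᵥ b') * b' i) := by
    linear_combination h3
  have ha'i : a' i = ι (a i) := by rw [ha']
  have hb'i : b' i = ι (b i) := by rw [hb']
  rw [ha'i, hb'i] at h4
  exact mul_left_cancel₀ h2 h4

theorem iota_tau_single (ι : F₀ →+* F) (τ : F ≃+* F) (i : κ) :
    (fun m => τ (ι ((Pi.single i (1 : F₀) : κ → F₀) m))) = Pi.single i 1 := by
  funext m
  by_cases hm : m = i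
  · subst hm; simp
  · simp [hm]

theorem iota_single (ι : F₀ →+* F) (i : κ) :
    (fun m => ι ((Pi.single i (1 : F₀) : κ → F₀) m)) = Pi.single i 1 := by
  funext m
  by_cases hm : m = i
  · subst hm; simp
  · simp [hm]

end rel

section diag

variable {F : Type u} [Field F] {F₀ : Type v} [Field F₀]

open Cfsg.Agent.Lib.helper48.S2686 (dotG_single exists_third)

/-- the diagonal case -/
theorem lin_orth_diag {N : ℕ} (ι : F₀ →+* F) (h2 : (2 : F₀) ≠ 0) (hN : 2 ≤ N) (δ : F₀)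
    (hδ : δ ≠ 0) (w : Matrix (Fin (N + 1)) (Fin (N + 1)) F) (hw : w.det ≠ 0) (τ : F ≃+* F)
    (h : ∀ S : Matrix (Fin (N + 1)) (Fin (N + 1)) F₀, S * S = 1 → S.det = 1 →
      Sᵀ * Dlast N δ * S = Dlast N δ → w * (S.map ι).map τ = S.map ι * w) :
    (∃ c : F, w = c • (1 : Matrix (Fin (N + 1)) (Fin (N + 1)) F)) ∧ ∀ y : F₀, τ (ι y) = ι y := by
  have h2F : (2 : F) ≠ 0 := by
    intro h0
    apply h2
    apply ι.injective
    rw [map_ofNat, map_zero]
    exact h0
  obtain ⟨g, hg⟩ : ∃ g : Fin (N + 1) → F₀, g = fun i => if i = Fin.last N then δ else 1 :=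
    ⟨_, rfl⟩
  have hGdef : Dlast N δ = Matrix.diagonal g := by rw [hg]; rfl
  rw [hGdef] at h
  have hgL : g (Fin.last N) = δ := by rw [hg]; simp
  have hgne : ∀ i, i ≠ Fin.last N → g i = 1 := by
    intro i hi
    rw [hg]; simp [hi]
  have hg0 : ∀ i, g i ≠ 0 := by
    intro i
    by_cases hi : i = Fin.last N
    · rw [hi, hgL]; exact hδ
    · rw [hgne i hi]; exact one_ne_zero
  have key := key_plane_rel h2F ι (Matrix.diagonal g) (Matrix.diagonal_transpose g) w τ h
  -- (i) `w` is diagonal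
  have hdiag : ∀ l i, l ≠ i → w l i = 0 := by
    intro l i hli
    obtain ⟨j, hji, hjl⟩ := exists_third hN i l
    obtain ⟨x, y, hxy⟩ := key (Pi.single i 1) (Pi.single j 1)
      (by rw [dotG_single]; simp [hg0 i])
      (by rw [dotG_single]; simp [hg0 j])
      (by rw [dotG_single]; simp [hji.symm])
    have h1 := congrFun hxy l
    rw [iota_tau_single, iota_single, iota_single, Matrix.mulVec_single_one] at h1
    simp [hli, hjl.symm] at h1
    exact h1
  obtain ⟨c, hc⟩ : ∃ c : Fin (N + 1) → F, c = fun i => w i i := ⟨_, rfl⟩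
  have hh : w = Matrix.diagonal c := by
    ext l i
    by_cases hli : l = i
    · subst hli; rw [Matrix.diagonal_apply_eq, hc]
    · rw [Matrix.diagonal_apply_ne _ hli, hdiag l i hli]
  have hc0 : ∀ i, c i ≠ 0 := by
    intro i
    rw [hh, Matrix.det_diagonal] at hw
    exact Finset.prod_ne_zero_iff.mp hw i (Finset.mem_univ i)
  have rel : ∀ a b : Fin (N + 1) → F₀, a ⬝ᵥ Matrix.diagonal g *ᵥ a ≠ 0 →
      b ⬝ᵥ Matrix.diagonal g *ᵥ b ≠ 0 → a ⬝ᵥ Matrix.diagonal g *ᵥ b = 0 →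
      ∃ x y : F, ∀ l, c l * τ (ι (a l)) = x * ι (a l) + y * ι (b l) := by
    intro a b ha hb hab
    obtain ⟨x, y, hxy⟩ := key a b ha hb hab
    refine ⟨x, y, fun l => ?_⟩
    have h1 := congrFun hxy l
    rw [hh, Matrix.mulVec_diagonal] at h1
    simpa using h1
  -- (ii) the two-vector relation
  have rel2 : ∀ i j k : Fin (N + 1), i ≠ j → k ≠ i → k ≠ j → ∀ t : F₀, g i + t ^ 2 * g j ≠ 0 →
      c j * τ (ι t) = c i * ι t := by
    intro i j k hij hki hkj t ht
    obtain ⟨x, y, hxy⟩ := rel (Pi.single i 1 + t • Pi.single j 1) (Pi.single k 1)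
      (by
        rw [add_dotProduct, smul_dotProduct, dotG_single, dotG_single]
        simp only [Pi.add_apply, Pi.smul_apply, smul_eq_mul, Pi.single_apply, if_true, hij,
          hij.symm, if_false]
        intro h0
        apply ht
        linear_combination h0)
      (by rw [dotG_single]; simp [hg0 k])
      (by
        rw [add_dotProduct, smul_dotProduct, dotG_single, dotG_single]
        simp [hki.symm, hkj.symm])
    have hi := hxy i
    have hj := hxy j
    simp only [Pi.add_apply, Pi.smul_apply, smul_eq_mul, Pi.single_apply, if_true, hij,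
      hij.symm, hki.symm, hkj.symm, if_false, mul_zero, add_zero, zero_add, mul_one, map_one,
      map_zero] at hi hj
    rw [hj, hi]
  obtain ⟨i0, hi0⟩ : ∃ i0 : Fin (N + 1), i0 = ⟨0, by omega⟩ := ⟨_, rfl⟩
  obtain ⟨i1, hi1⟩ : ∃ i1 : Fin (N + 1), i1 = ⟨1, by omega⟩ := ⟨_, rfl⟩
  have h01 : i0 ≠ i1 := by rw [hi0, hi1]; simp [Fin.ext_iff]
  have h0L : i0 ≠ Fin.last N := by rw [hi0]; simp [Fin.ext_iff]; omega
  have h1L : i1 ≠ Fin.last N := by rw [hi1]; simp [Fin.ext_iff]; omega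
  -- (iii) equal entries away from the last index
  have hA : ∀ i j : Fin (N + 1), i ≠ j → i ≠ Fin.last N → j ≠ Fin.last N → c j = c i := by
    intro i j hij hi hj
    obtain ⟨k, hki, hkj⟩ := exists_third hN i j
    have h1 := rel2 i j k hij hki hkj 1 (by
      rw [hgne i hi, hgne j hj]
      intro h0
      apply h2
      linear_combination h0)
    rw [map_one, map_one, mul_one, mul_one] at h1
    exact h1
  -- (iv) `τ` fixes `ι t` for every `t` with `1 + t² ≠ 0`
  have hB : ∀ t : F₀, 1 + t ^ 2 ≠ 0 → τ (ι t) = ι t := by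
    intro t ht
    obtain ⟨k, hk0, hk1⟩ := exists_third hN i0 i1
    have h1 := rel2 i0 i1 k h01 hk0 hk1 t (by
      rw [hgne i0 h0L, hgne i1 h1L, mul_one]
      exact ht)
    rw [hA i0 i1 h01 h0L h1L] at h1
    exact mul_left_cancel₀ (hc0 i0) h1
  have hC : ∀ b : F₀, τ (ι b) = ι b := by
    intro b
    by_cases hb : 1 + b ^ 2 = 0
    · by_cases hb' : 1 + (b + 1) ^ 2 = 0
      · have h3 : (2 : F₀) * b = -1 := by linear_combination hb' - hb
        have h4 : τ (ι (2 * b)) = τ (ι (-1)) := by rw [h3]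
        have h5 : ι (2 * b) = ι (-1) := by rw [h3]
        rw [map_mul, map_neg, map_one, map_ofNat, map_mul, map_neg, map_one, map_ofNat] at h4
        rw [map_mul, map_neg, map_one, map_ofNat] at h5
        rw [← h5] at h4
        exact mul_left_cancel₀ h2F h4
      · have h3 := hB (b + 1) hb'
        rw [map_add, map_one, map_add, map_one] at h3
        exact add_right_cancel h3
    · exact hB b hb
  -- (v) the last index
  have hD : c (Fin.last N) = c i0 := by
    by_cases hd : 1 + δ = 0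
    · obtain ⟨x, y, hxy⟩ := rel (Pi.single i0 1 + Pi.single i1 1 + Pi.single (Fin.last N) 1)
        (Pi.single i0 1 + (-1 : F₀) • Pi.single i1 1)
        (by
          rw [add_dotProduct, add_dotProduct, dotG_single, dotG_single, dotG_single]
          simp only [Pi.add_apply, Pi.single_apply, if_true, h01, h01.symm, h0L, h0L.symm, h1L,
            h1L.symm, if_false, hgne i0 h0L, hgne i1 h1L, hgL]
          intro h0
          apply one_ne_zero (α := F₀)
          linear_combination h0 - hd)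
        (by
          rw [add_dotProduct, smul_dotProduct, dotG_single, dotG_single]
          simp only [Pi.add_apply, Pi.smul_apply, smul_eq_mul, Pi.single_apply, if_true, h01,
            h01.symm, if_false, hgne i0 h0L, hgne i1 h1L]
          intro h0
          apply h2
          linear_combination h0)
        (by
          rw [add_dotProduct, add_dotProduct, dotG_single, dotG_single, dotG_single]
          simp only [Pi.add_apply, Pi.smul_apply, smul_eq_mul, Pi.single_apply, if_true, h01,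
            h01.symm, h0L, h0L.symm, h1L, h1L.symm, if_false, hgne i0 h0L, hgne i1 h1L]
          ring)
      have e0 := hxy i0
      have e1 := hxy i1
      have eL := hxy (Fin.last N)
      simp only [Pi.add_apply, Pi.smul_apply, smul_eq_mul, Pi.single_apply, if_true, h01,
        h01.symm, h0L, h0L.symm, h1L, h1L.symm, if_false, mul_zero, add_zero, zero_add, mul_one,
        map_one, map_zero, map_neg] at e0 e1 eL
      rw [hA i0 i1 h01 h0L h1L] at e1
      have hy : (2 : F) * y = 0 := by linear_combination e1 - e0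
      have hy0 : y = 0 := by
        rcases mul_eq_zero.mp hy with h | h
        · exact absurd h h2F
        · exact h
      rw [eL, e0, hy0, add_zero]
    · have h1 := rel2 i0 (Fin.last N) i1 h0L h01.symm h1L 1 (by
        rw [hgne i0 h0L, hgL, one_pow, one_mul]
        exact hd)
      rw [map_one, map_one, mul_one, mul_one] at h1
      exact h1
  have hall : ∀ i, c i = c i0 := by
    intro i
    by_cases hi : i = Fin.last N
    · rw [hi, hD]
    · by_cases hi0' : i = i0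
      · rw [hi0']
      · exact hA i0 i (Ne.symm hi0') h0L hi
  refine ⟨⟨c i0, ?_⟩, hC⟩
  rw [hh]
  ext l i
  by_cases hli : l = i
  · subst hli
    simp [hall l]
  · simp [Matrix.diagonal_apply_ne _ hli, Matrix.one_apply_ne hli]

end diag

section main

theorem conj_comm_aux {κ : Type} [Fintype κ] [DecidableEq κ] {R : Type*} [CommRing R]
    (w P Pt P' Pt' X Xt : Matrix κ κ R) (h1 : P' * P = 1) (h2 : Pt' * Pt = 1)
    (h : w * (Pt * Xt * Pt') = (P * X * P') * w) :
    (P' * w * Pt) * Xt = X * (P' * w * Pt) := by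
  calc (P' * w * Pt) * Xt = P' * (w * (Pt * Xt * Pt')) * Pt := by
        simp only [Matrix.mul_assoc, h2, Matrix.mul_one]
    _ = P' * ((P * X * P') * w) * Pt := by rw [h]
    _ = X * (P' * w * Pt) := by
        simp only [← Matrix.mul_assoc, h1, Matrix.one_mul]

variable {n : ℕ} {F : Type u} [Field F] [Fintype F]

/-- G-LIN-O -/
theorem lin_orth {F₀ : Type v} [Field F₀] [Fintype F₀] (ι : F₀ →+* F) (h2 : (2 : F₀) ≠ 0)
    (hn : 3 ≤ n) (M₀ : Matrix (Fin n) (Fin n) F₀) (hM₀ : M₀ᵀ = M₀) (hdet : M₀.det ≠ 0)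
    (w : Matrix (Fin n) (Fin n) F) (hw : w.det ≠ 0) (τ : F ≃+* F)
    (h : ∀ S : Matrix (Fin n) (Fin n) F₀, S * S = 1 → S.det = 1 → Sᵀ * M₀ * S = M₀ →
      w * (S.map ι).map τ = S.map ι * w) :
    (∃ c : F, w = c • (1 : Matrix (Fin n) (Fin n) F)) ∧ ∀ y : F₀, τ (ι y) = ι y := by
  obtain ⟨N, rfl⟩ : ∃ N, n = N + 1 := ⟨n - 1, by omega⟩
  have hN : 2 ≤ N := by omega
  have hch : ringChar F₀ ≠ 2 := by
    intro h0
    apply h2
    have h3 : ((2 : ℕ) : F₀) = 0 := by
      rw [← h0]; exact ringChar.Nat.cast_ringChar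
    exact_mod_cast h3
  obtain ⟨α, hα⟩ := FiniteField.exists_nonsquare hch
  obtain ⟨g, δ, hδ, hg⟩ := Cfsg.Agent.Lib.helper50.exists_cong_diag h2 α hα
    (Matrix.GeneralLinearGroup.mkOfDetNeZero M₀ hdet) hM₀
  have hδ0 : δ ≠ 0 := by
    rcases hδ with rfl | rfl
    · exact one_ne_zero
    · rintro rfl
      exact hα ⟨0, by simp⟩
  obtain ⟨gM, hgM⟩ : ∃ gM : Matrix (Fin (N + 1)) (Fin (N + 1)) F₀, gM = g.1 := ⟨_, rfl⟩
  obtain ⟨gi, hgi⟩ : ∃ gi : Matrix (Fin (N + 1)) (Fin (N + 1)) F₀, gi = g⁻¹.1 := ⟨_, rfl⟩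
  have hgg : gM * gi = 1 := by rw [hgM, hgi]; exact g.val_inv
  have hgg' : gi * gM = 1 := by rw [hgM, hgi]; exact g.inv_val
  have hg' : gM * M₀ * gMᵀ = Dlast N δ := by rw [hgM]; exact hg
  have hT1 : giᵀ * gMᵀ = 1 := by rw [← Matrix.transpose_mul, hgg, Matrix.transpose_one]
  have hT2 : gMᵀ * giᵀ = 1 := by rw [← Matrix.transpose_mul, hgg', Matrix.transpose_one]
  have hM₀' : gi * Dlast N δ * giᵀ = M₀ := by
    rw [← hg']
    calc gi * (gM * M₀ * gMᵀ) * giᵀ = (gi * gM) * M₀ * (gMᵀ * giᵀ) := by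
          simp only [Matrix.mul_assoc]
      _ = M₀ := by rw [hgg', hT2, Matrix.one_mul, Matrix.mul_one]
  obtain ⟨P, hP⟩ : ∃ P : Matrix (Fin (N + 1)) (Fin (N + 1)) F, P = gMᵀ.map ι := ⟨_, rfl⟩
  obtain ⟨P', hP'⟩ : ∃ P' : Matrix (Fin (N + 1)) (Fin (N + 1)) F, P' = giᵀ.map ι := ⟨_, rfl⟩
  have hPP' : P * P' = 1 := by
    rw [hP, hP', ← Matrix.map_mul, hT2, Matrix.map_one _ (map_zero ι) (map_one ι)]
  have hP'P : P' * P = 1 := by
    rw [hP, hP', ← Matrix.map_mul, hT1, Matrix.map_one _ (map_zero ι) (map_one ι)]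
  have hτP : P'.map τ * P.map τ = 1 := by
    rw [← Matrix.map_mul, hP'P, Matrix.map_one _ (map_zero τ) (map_one τ)]
  have hdet1 : (P' * w * P.map τ).det ≠ 0 := by
    rw [Matrix.det_mul, Matrix.det_mul]
    have e1 : P'.det * P.det = 1 := by rw [← Matrix.det_mul, hP'P, Matrix.det_one]
    have e2 : (P'.map τ).det * (P.map τ).det = 1 := by rw [← Matrix.det_mul, hτP, Matrix.det_one]
    exact mul_ne_zero (mul_ne_zero (left_ne_zero_of_mul_eq_one e1) hw)
      (right_ne_zero_of_mul_eq_one e2)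
  obtain ⟨⟨c, hc⟩, hτ⟩ := lin_orth_diag ι h2 hN δ hδ0 (P' * w * P.map τ) hdet1 τ (by
    intro S₁ hS1 hS1det hS1D
    have hS := h (gMᵀ * S₁ * giᵀ) (by
        calc gMᵀ * S₁ * giᵀ * (gMᵀ * S₁ * giᵀ) = gMᵀ * (S₁ * (giᵀ * gMᵀ) * S₁) * giᵀ := by
              simp only [Matrix.mul_assoc]
          _ = 1 := by rw [hT1, Matrix.mul_one, hS1, Matrix.mul_one, hT2])
      (by
        rw [Matrix.det_mul, Matrix.det_mul, hS1det, mul_one, ← Matrix.det_mul, hT2,
          Matrix.det_one])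
      (by
        rw [Matrix.transpose_mul, Matrix.transpose_mul, Matrix.transpose_transpose,
          Matrix.transpose_transpose]
        calc gi * (S₁ᵀ * gM) * M₀ * (gMᵀ * S₁ * giᵀ)
            = gi * (S₁ᵀ * (gM * M₀ * gMᵀ) * S₁) * giᵀ := by simp only [Matrix.mul_assoc]
          _ = M₀ := by rw [hg', hS1D, hM₀'])
    rw [Matrix.map_mul, Matrix.map_mul, Matrix.map_mul, Matrix.map_mul, ← hP, ← hP'] at hS
    exact conj_comm_aux w P (P.map τ) P' (P'.map τ) (S₁.map ι) ((S₁.map ι).map τ) hP'P hτP hS)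
  refine ⟨⟨c, ?_⟩, hτ⟩
  have hPτ : P.map τ = P := by
    rw [hP]
    ext i j
    exact hτ _
  rw [hPτ] at hc
  calc w = (P * P') * w * (P * P') := by rw [hPP', Matrix.one_mul, Matrix.mul_one]
    _ = P * (P' * w * P) * P' := by simp only [Matrix.mul_assoc]
    _ = c • (1 : Matrix (Fin (N + 1)) (Fin (N + 1)) F) := by
        rw [hc, Matrix.mul_smul, Matrix.mul_one, Matrix.smul_mul, hPP']

end main

end Cfsg.Agent.Lib.helper48.S2687
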