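import Cfsg.Agent.Lib.helper48.LBGlue
import Cfsg.Agent.Lib.helper47.PSLnConj

/-!
# S2687, piece T1: the `2'`-core of the centralizer of a symmetric / skew graph automorphism of
`PSL_n(F₀)` in the inner-diagonal group is trivial (consumes the S2686 pieces)
-/

set_option autoImplicit false

namespace Cfsg.Agent.Lib.helper48.S2687

open Matrix Cfsg
open Cfsg.Agent.Lib.helper47
open Cfsg.Agent.Lib.helper47.PSLn (pr cAut pr_surj)
open Cfsg.Agent.Lib.helper48.LB
open Cfsg.Agent.Lib.helper48.LBGlue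
open Cfsg.Agent.Lib.helper50 (graphAut)

universe v

variable {n : ℕ}

/-- `NoCore 2` and `NoCent 2` for the graph automorphism of a symmetric or skew matrix -/
theorem graph_good {F₀ : Type v} [Field F₀] [Fintype F₀] (h2 : (2 : F₀) ≠ 0) (hn : 3 ≤ n)
    (A₀ : GL (Fin n) F₀)
    (hA₀ : (A₀ : Matrix (Fin n) (Fin n) F₀)ᵀ = (A₀ : Matrix (Fin n) (Fin n) F₀) ∨
      (A₀ : Matrix (Fin n) (Fin n) F₀)ᵀ = -(A₀ : Matrix (Fin n) (Fin n) F₀)) :
    NoCore 2 (graphAut A₀) ∧ NoCent 2 (graphAut A₀) := by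
  haveI : Fact (ringChar F₀).Prime := ⟨CharP.char_is_prime F₀ _⟩
  obtain ⟨f, hF⟩ : ∃ f : ℕ, Fintype.card F₀ = ringChar F₀ ^ f := by
    obtain ⟨k, -, hk⟩ := FiniteField.card F₀ (ringChar F₀)
    exact ⟨k, hk⟩
  rcases hA₀ with hsym | hskew
  · -- orthogonal type
    obtain ⟨N, rfl⟩ : ∃ N, n = N + 1 := ⟨n - 1, by omega⟩
    have hN : 2 ≤ N := by omega
    have hex : ∃ δ : F₀ˣ, ((δ : F₀) = 1 ∨ 3 ≤ N) ∧
        IsConjUnder (inndiagPSL (N + 1) F₀) (Cfsg.Agent.Lib.helper50.graphAut A₀)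
          (Cfsg.Agent.Lib.helper50.graphAut (dlast N δ)) := by
      by_cases hN3 : 3 ≤ N
      · have hch : ringChar F₀ ≠ 2 := by
          intro h
          apply h2
          have h3 : ((2 : ℕ) : F₀) = 0 := by
            rw [← h]; exact ringChar.Nat.cast_ringChar
          exact_mod_cast h3
        obtain ⟨α, hα⟩ := FiniteField.exists_nonsquare hch
        obtain ⟨g', δ, hδ, hg'⟩ := Cfsg.Agent.Lib.helper50.exists_cong_diag h2 α hα A₀ hsym
        have hδ0 : δ ≠ 0 := by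
          rcases hδ with rfl | rfl
          · exact one_ne_zero
          · rintro rfl
            exact hα ⟨0, by simp⟩
        exact ⟨Units.mk0 δ hδ0, Or.inr hN3,
          Cfsg.Agent.Lib.helper50.conj_of_cong A₀ (dlast N (Units.mk0 δ hδ0)) g' (by
            rw [hg']; rfl)⟩
      · have hN2 : N = 2 := by omega
        subst hN2
        refine ⟨1, Or.inl (by simp), ?_⟩
        exact Cfsg.Agent.Lib.helper50.conj_all_odd h2 (m := 1) (by norm_num) A₀ (dlast 2 1) hsym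
          (by rw [dlast_coe]; exact Dlast_transpose _ _)
    obtain ⟨δ, hδN, hconj⟩ := hex
    rw [← cAut_mul_gAut, ← cAut_mul_gAut] at hconj
    rw [← cAut_mul_gAut]
    exact good_of_conj hconj (Cfsg.Agent.Lib.helper50.S2686.orth_noCore hF hN h2 δ hδN)
      (orth_noCent hF hN h2 δ hδN)
  · -- symplectic type
    rcases Nat.even_or_odd' n with ⟨m, hm | hm⟩
    · have e : Fin n ≃ Fin m ⊕ Fin m :=
        (finCongr (by omega : n = m + m)).trans finSumFinEquiv.symm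
      obtain ⟨g', hg'⟩ := Cfsg.Agent.Lib.helper50.exists_cong_alt A₀
        (fun v => Cfsg.Agent.Lib.helper50.skew_alt h2 _ hskew v) e
      have hconj := Cfsg.Agent.Lib.helper50.conj_of_cong A₀
        (Cfsg.Agent.Lib.helper50.Aalt (F := F₀) e) g' (by rw [hg']; rfl)
      rw [← cAut_mul_gAut, ← cAut_mul_gAut] at hconj
      rw [← cAut_mul_gAut]
      exact good_of_conj hconj (symp_noCore hF hn h2 e) (symp_noCent hF hn h2 e)
    · exact (Cfsg.Agent.Lib.helper50.not_skew_of_odd h2 hm A₀ hskew).elim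

/-- T1 (PSL side, from the S2686 pieces) -/
theorem graph_core_bot {F₀ : Type v} [Field F₀] [Fintype F₀] (h2 : (2 : F₀) ≠ 0) (hn : 3 ≤ n)
    (A₀ : GL (Fin n) F₀)
    (hA₀ : (A₀ : Matrix (Fin n) (Fin n) F₀)ᵀ = (A₀ : Matrix (Fin n) (Fin n) F₀) ∨
      (A₀ : Matrix (Fin n) (Fin n) F₀)ᵀ = -(A₀ : Matrix (Fin n) (Fin n) F₀)) :
    Cfsg.pPrimeCore 2 ↥(inndiagPSL n F₀ ⊓ Subgroup.centralizer {graphAut A₀}) = ⊥ := by
  haveI : Fact (Nat.Prime 2) := ⟨Nat.prime_two⟩
  have key := graph_good h2 hn A₀ hA₀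
  have hinn : ∀ k : ProjectiveSpecialLinearGroup (Fin n) F₀, MulAut.conj k ∈ inndiagPSL n F₀ := by
    intro k
    obtain ⟨s, rfl⟩ := pr_surj k
    rw [PSLn.conj_pr_eq, PSLn.inndiag_eq_range]
    exact ⟨_, rfl⟩
  exact core_eq_bot (conj_inj_psl (by omega)) (inndiagPSL n F₀) hinn _ key.1 key.2

end Cfsg.Agent.Lib.helper48.S2687
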