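import Mathlib
import Cfsg.Agent.Lib.helper60.S3806_CA

/-! S3806 split project, piece C (helper48, insurance copy): `(s c)^p = s^p c^p` in an abelian
normal section. -/

set_option autoImplicit false

namespace Cfsg.Agent.Lib.helper12.MC

open Subgroup

/-- C: `(s c)^p = s^p c^p` for `c` in an abelian `s`-invariant subgroup `A`, when `[c, s]` lies in an
`s`-invariant subgroup `B ≤ A` of exponent `p` and `[c, s, …, s] = 1` (`p - 1` times). -/
theorem h48_mul_pow_eq_of_abelian (p : ℕ) [Fact p.Prime] {T : Type*} [Group T] (A B : Subgroup T)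
    (hA : ∀ x ∈ A, ∀ y ∈ A, x * y = y * x) (s : T) (hsA : ∀ a ∈ A, s⁻¹ * a * s ∈ A)
    (hBA : B ≤ A) (hsB : ∀ b ∈ B, s⁻¹ * b * s ∈ B) (hBp : ∀ b ∈ B, b ^ p = 1)
    (c : T) (hc : c ∈ A) (hcB : c⁻¹ * (s⁻¹ * c * s) ∈ B)
    (hnil : (fun v : T => v⁻¹ * (s⁻¹ * v * s))^[p - 1] c = 1) :
    (s * c) ^ p = s ^ p * c ^ p := by
  classical
  have hp : p.Prime := Fact.out
  let hAc : CommGroup A :=
    { (inferInstance : Group A) with mul_comm := fun a b => Subtype.ext (hA a a.2 b b.2) }
  let σ₀ : A →* A :=
    { toFun := fun a => ⟨s⁻¹ * a * s, hsA a a.2⟩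
      map_one' := by ext; simp
      map_mul' := by intro x y; ext; simp [mul_assoc] }
  let σ : AddMonoid.End (Additive A) := MonoidHom.toAdditive σ₀
  let c' : Additive A := Additive.ofMul ⟨c, hc⟩
  let f : T → T := fun v : T => v⁻¹ * (s⁻¹ * v * s)
  -- Step 1: `(s c)^n = s^n * ∏_{i<n} σ^i c`
  have hstep : ∀ n : ℕ, (s * c) ^ n =
      s ^ n * ((Additive.toMul ((∑ i ∈ Finset.range n, σ ^ i) c') : A) : T) := by
    intro n
    induction n with
    | zero => simp
    | succ n ih =>
      have h1 : (∑ i ∈ Finset.range (n + 1), σ ^ i) c' =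
          σ ((∑ i ∈ Finset.range n, σ ^ i) c') + c' := by
        rw [Finset.sum_range_succ', pow_zero]
        have h2 : ∑ i ∈ Finset.range n, σ ^ (i + 1) = σ * ∑ i ∈ Finset.range n, σ ^ i := by
          rw [Finset.mul_sum]
          exact Finset.sum_congr rfl (fun i _ => pow_succ' σ i)
        rw [h2]
        rfl
      have h3 : ((Additive.toMul (σ ((∑ i ∈ Finset.range n, σ ^ i) c') + c') : A) : T) =
          s⁻¹ * ((Additive.toMul ((∑ i ∈ Finset.range n, σ ^ i) c') : A) : T) * s * c := rfl
      rw [pow_succ, ih, h1, h3, pow_succ]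
      group
  -- Step 2: iterates of `D = σ - 1`
  have hiter : ∀ (m : ℕ) (a : A),
      ((Additive.toMul (((σ - 1) ^ m) (Additive.ofMul a)) : A) : T) = f^[m] (a : T) := by
    intro m
    induction m with
    | zero => intro a; rfl
    | succ m ih =>
      intro a
      have h1 : ((σ - 1) ^ (m + 1)) (Additive.ofMul a) =
          ((σ - 1) ^ m) (Additive.ofMul (a⁻¹ * σ₀ a)) := by
        rw [pow_succ]
        have h2 : (σ - 1) (Additive.ofMul a) = Additive.ofMul (a⁻¹ * σ₀ a) := by
          have h3 : (σ - 1) (Additive.ofMul a) = Additive.ofMul (σ₀ a / a) := rfl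
          rw [h3, div_eq_mul_inv, mul_comm]
        rw [← h2]
        rfl
      rw [h1, ih, Function.iterate_succ_apply]
      rfl
  have hfB : ∀ m : ℕ, 1 ≤ m → f^[m] c ∈ B := by
    intro m hm
    induction m with
    | zero => omega
    | succ m ih =>
      rcases Nat.eq_zero_or_pos m with h0 | hpos
      · subst h0
        exact hcB
      · rw [Function.iterate_succ_apply']
        have hb := ih hpos
        exact B.mul_mem (B.inv_mem hb) (hsB _ hb)
  -- Step 3: the binomial identity
  have hCA := sum_pow_eq_choose (σ - 1) p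
  rw [add_sub_cancel] at hCA
  have hsum : (∑ i ∈ Finset.range p, σ ^ i) c' = p • c' := by
    rw [hCA]
    have h1 : (∑ m ∈ Finset.range p, (p.choose (m + 1)) • (σ - 1) ^ m) c' =
        ∑ m ∈ Finset.range p, (p.choose (m + 1)) • (((σ - 1) ^ m) c') := by
      let ev : AddMonoid.End (Additive A) →+ Additive A :=
        { toFun := fun g => g c', map_zero' := rfl, map_add' := fun _ _ => rfl }
      have h := map_sum ev (fun m => (p.choose (m + 1)) • (σ - 1) ^ m) (Finset.range p)
      simp only [map_nsmul] at h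
      exact h
    rw [h1, Finset.sum_eq_single_of_mem 0 (Finset.mem_range.mpr hp.pos)]
    · rw [zero_add, Nat.choose_one_right, pow_zero]
      rfl
    · intro m hm hm0
      have hmp : m < p := Finset.mem_range.mp hm
      have hval := hiter m ⟨c, hc⟩
      rcases Nat.lt_or_ge m (p - 1) with hlt | hge
      · -- `p ∣ choose p (m+1)` and the element lies in `B`
        obtain ⟨t, ht⟩ := hp.dvd_choose_self (Nat.succ_ne_zero m) (by omega : m + 1 < p)
        have hB := hfB m (Nat.pos_of_ne_zero hm0)
        have hpow : p • (((σ - 1) ^ m) c') = 0 := by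
          have h2 : ((Additive.toMul (((σ - 1) ^ m) c') : A) : T) ^ p = 1 := by
            rw [hval]
            exact hBp _ hB
          have h3 : (Additive.toMul (((σ - 1) ^ m) c') : A) ^ p = 1 := by
            apply Subtype.ext
            rw [SubmonoidClass.coe_pow]
            exact h2
          have h4 : p • (((σ - 1) ^ m) c') = Additive.ofMul ((Additive.toMul (((σ - 1) ^ m) c') : A) ^ p) := rfl
          rw [h4, h3]
          rfl
        rw [ht, mul_nsmul, hpow, nsmul_zero]
      · have hm1 : m = p - 1 := by omega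
        have h2 : ((σ - 1) ^ m) c' = 0 := by
          have h3 : (Additive.toMul (((σ - 1) ^ m) c') : A) = 1 := by
            apply Subtype.ext
            rw [hval, hm1]
            exact hnil
          have h4 : ((σ - 1) ^ m) c' = Additive.ofMul (Additive.toMul (((σ - 1) ^ m) c') : A) := rfl
          rw [h4, h3]
          rfl
        rw [h2, nsmul_zero]
  rw [hstep p, hsum]
  rfl

end Cfsg.Agent.Lib.helper12.MC
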