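import Mathlib
import Cfsg.Agent.Lib.helper44.SL3Defs
import Cfsg.Agent.Lib.helper48.SL3C4b
import Cfsg.Agent.Lib.helper48.SL3T1

/-!
# S2287 piece C4a (helper48 racing copy, prefixed name): `h48_core4_central`
-/

set_option autoImplicit false

namespace Cfsg.Agent.Lib.helper44.SL3

/-- `g` commutes with all `x a'`, `y a'` -/
def h48_Cen {G : Type*} [Group G] {F : Type*} (x y : F → G) (g : G) : Prop :=
  ∀ a', Commute (x a') g ∧ Commute (y a') g

section

variable {G : Type*} [Group G] {F : Type*}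

theorem h48_Cen_one (x y : F → G) : h48_Cen x y 1 :=
  fun a' => ⟨Commute.one_right _, Commute.one_right _⟩

theorem h48_Cen_mul {x y : F → G} {g g' : G} (hg : h48_Cen x y g) (hg' : h48_Cen x y g') :
    h48_Cen x y (g * g') :=
  fun a' => ⟨(hg a').1.mul_right (hg' a').1, (hg a').2.mul_right (hg' a').2⟩

theorem h48_Cen_inv {x y : F → G} {g : G} (hg : h48_Cen x y g) : h48_Cen x y g⁻¹ :=
  fun a' => ⟨(hg a').1.inv_right, (hg a').2.inv_right⟩

theorem h48_map_zero [AddMonoid F] (x : F → G) (x_add : ∀ a b, x (a + b) = x a * x b) :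
    x 0 = 1 := by
  have h1 := x_add 0 0
  rw [add_zero] at h1
  have h2 : x 0 * x 0 = x 0 * 1 := by rw [mul_one]; exact h1.symm
  exact mul_left_cancel h2

theorem h48_comm_of_invol_left (s t : G) (hs : s * s = 1) (hz : cm s t * cm s t = 1) :
    Commute s (cm s t) := by
  have hsi : s⁻¹ = s := inv_eq_of_mul_eq_one_right hs
  have hzi : (cm s t)⁻¹ = cm s t := inv_eq_of_mul_eq_one_right hz
  have e1 : s * cm s t * s⁻¹ = (s * s) * t * s⁻¹ * t⁻¹ * s⁻¹ := by unfold cm; group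
  have e2 : (cm s t)⁻¹ = t * s * t⁻¹ * s⁻¹ := by unfold cm; group
  have e3 : s * cm s t * s⁻¹ = (cm s t)⁻¹ := by rw [e1, e2, hs, one_mul, hsi]
  rw [hzi] at e3
  show s * cm s t = cm s t * s
  calc s * cm s t = (s * cm s t * s⁻¹) * s := by group
    _ = cm s t * s := by rw [e3]

theorem h48_comm_of_invol_right (s t : G) (ht : t * t = 1) (hz : cm s t * cm s t = 1) :
    Commute t (cm s t) := by
  have hti : t⁻¹ = t := inv_eq_of_mul_eq_one_right ht
  have hzi : (cm s t)⁻¹ = cm s t := inv_eq_of_mul_eq_one_right hz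
  have e1 : t * cm s t * t⁻¹ = t * s * t * s⁻¹ * (t * t)⁻¹ := by unfold cm; group
  have e2 : (cm s t)⁻¹ = t * s * t⁻¹ * s⁻¹ := by unfold cm; group
  have e3 : t * cm s t * t⁻¹ = (cm s t)⁻¹ := by rw [e1, e2, ht, inv_one, mul_one, hti]
  rw [hzi] at e3
  show t * cm s t = cm s t * t
  calc t * cm s t = (t * cm s t * t⁻¹) * t := by group
    _ = cm s t * t := by rw [e3]

theorem h48_Cen_conj [Field F] {x y : F → G} {h : G} {ω : F} (hω0 : ω ≠ 0)
    (h_x : ∀ a, h * x a * h⁻¹ = x (ω * a)) (h_y : ∀ a, h * y a * h⁻¹ = y (ω * a)) {g : G}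
    (hg : h48_Cen x y g) : h48_Cen x y (h * g * h⁻¹) := by
  intro a'
  have ex : x a' = h * x (ω⁻¹ * a') * h⁻¹ := by
    rw [h_x, ← mul_assoc, mul_inv_cancel₀ hω0, one_mul]
  have ey : y a' = h * y (ω⁻¹ * a') * h⁻¹ := by
    rw [h_y, ← mul_assoc, mul_inv_cancel₀ hω0, one_mul]
  constructor
  · rw [ex]; exact h48_commute_conj h _ _ (hg _).1
  · rw [ey]; exact h48_commute_conj h _ _ (hg _).2

theorem h48_Cen_of_basis [Field F] [Fintype F] [CharP F 2] (hcard : Fintype.card F = 4)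
    {x y : F → G} {ω : F} (hω : ω ^ 2 = ω + 1)
    (x_add : ∀ a b, x (a + b) = x a * x b) (y_add : ∀ a b, y (a + b) = y a * y b) {g : G}
    (h1 : Commute (x 1) g) (h2 : Commute (x ω) g) (h3 : Commute (y 1) g)
    (h4 : Commute (y ω) g) : h48_Cen x y g := by
  have hx0 := h48_map_zero x x_add
  have hy0 := h48_map_zero y y_add
  intro a'
  rcases h48_four_cases hcard ω hω a' with h | h | h | h
  · rw [h, hx0, hy0]; exact ⟨Commute.one_left _, Commute.one_left _⟩
  · rw [h]; exact ⟨h1, h3⟩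
  · rw [h]; exact ⟨h2, h4⟩
  · rw [h, x_add, y_add]; exact ⟨h2.mul_left h1, h4.mul_left h3⟩

end

/-- C4a (racing copy, prefixed name) -/
theorem h48_core4_central {G : Type*} [Group G] {F : Type*} [Field F] [Fintype F] [CharP F 2]
    (hcard : Fintype.card F = 4) (x y : F → G) (h : G) (ω : F) (hω : ω ^ 2 = ω + 1)
    (x_add : ∀ a b, x (a + b) = x a * x b) (y_add : ∀ a b, y (a + b) = y a * y b)
    (h_x : ∀ a, h * x a * h⁻¹ = x (ω * a)) (h_y : ∀ a, h * y a * h⁻¹ = y (ω * a))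
    (qa : cm (x ω) (y 1) = cm (x 1) (y ω)) (qb : cm (x ω) (y 1) * cm (x ω) (y 1) = 1) :
    ∀ a b a', Commute (x a') (cm (x a) (y b)) ∧ Commute (y a') (cm (x a) (y b)) := by
  have hx0 := h48_map_zero x x_add
  have hy0 := h48_map_zero y y_add
  have hω0 : ω ≠ 0 := by
    intro h0
    rw [h0] at hω
    simp at hω
  have h2 : ∀ a : F, a + a = 0 := CharTwo.add_self_eq_zero
  have hxx : ∀ a, x a * x a = 1 := by intro a; rw [← x_add, h2, hx0]
  have hyy : ∀ a, y a * y a = 1 := by intro a; rw [← y_add, h2, hy0]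
  have hωω : ω * ω = ω + 1 := by rw [← hω, sq]
  have hω3 : ω * (ω + 1) = 1 := by
    rw [mul_add, mul_one, hωω, add_assoc, add_comm 1 ω, ← add_assoc, h2, zero_add]
  have Bh : ∀ a b, h * cm (x a) (y b) * h⁻¹ = cm (x (ω * a)) (y (ω * b)) := by
    intro a b
    rw [← h_x a, ← h_y b]; unfold cm; group
  have hconj : ∀ a b, h48_Cen x y (cm (x a) (y b)) →
      h48_Cen x y (cm (x (ω * a)) (y (ω * b))) := by
    intro a b hc
    rw [← Bh]; exact h48_Cen_conj hω0 h_x h_y hc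
  have qb' : cm (x 1) (y ω) * cm (x 1) (y ω) = 1 := by rw [← qa]; exact qb
  have c1 : h48_Cen x y (cm (x ω) (y 1)) := by
    apply h48_Cen_of_basis hcard hω x_add y_add
    · rw [qa]; exact h48_comm_of_invol_left _ _ (hxx 1) qb'
    · exact h48_comm_of_invol_left _ _ (hxx ω) qb
    · exact h48_comm_of_invol_right _ _ (hyy 1) qb
    · rw [qa]; exact h48_comm_of_invol_right _ _ (hyy ω) qb'
  have c2 : h48_Cen x y (cm (x 1) (y ω)) := by rw [← qa]; exact c1
  have c3 : h48_Cen x y (cm (x (ω + 1)) (y ω)) := by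
    have h1 := hconj _ _ c1
    rwa [hωω, mul_one] at h1
  have c4 : h48_Cen x y (cm (x 1) (y (ω + 1))) := by
    have h1 := hconj _ _ c3
    rwa [hω3, hωω] at h1
  have c5 : h48_Cen x y (cm (x ω) (y (ω + 1))) := by
    have h1 := hconj _ _ c2
    rwa [mul_one, hωω] at h1
  have c6 : h48_Cen x y (cm (x (ω + 1)) (y 1)) := by
    have h1 := hconj _ _ c5
    rwa [hωω, hω3] at h1
  have c7 : h48_Cen x y (cm (x 1) (y 1)) := by
    have e : cm (x (ω + 1)) (y 1) = x ω * cm (x 1) (y 1) * (x ω)⁻¹ * cm (x ω) (y 1) := by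
      rw [x_add]; unfold cm; group
    have hw : h48_Cen x y (x ω * cm (x 1) (y 1) * (x ω)⁻¹) := by
      have e' : x ω * cm (x 1) (y 1) * (x ω)⁻¹ =
          cm (x (ω + 1)) (y 1) * (cm (x ω) (y 1))⁻¹ := by
        rw [e]; group
      rw [e']; exact h48_Cen_mul c6 (h48_Cen_inv c1)
    have e2 : cm (x 1) (y 1) = x ω * cm (x 1) (y 1) * (x ω)⁻¹ := by
      have hcomm := (hw ω).1.eq
      calc cm (x 1) (y 1) = (x ω)⁻¹ * (x ω * cm (x 1) (y 1) * (x ω)⁻¹ * x ω) := by group
        _ = (x ω)⁻¹ * (x ω * (x ω * cm (x 1) (y 1) * (x ω)⁻¹)) := by rw [← hcomm]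
        _ = x ω * cm (x 1) (y 1) * (x ω)⁻¹ := by group
    rw [e2]; exact hw
  have c8 : h48_Cen x y (cm (x ω) (y ω)) := by
    have h1 := hconj _ _ c7
    rwa [mul_one] at h1
  have c9 : h48_Cen x y (cm (x (ω + 1)) (y (ω + 1))) := by
    have h1 := hconj _ _ c8
    rwa [hωω] at h1
  have B0l : ∀ b, cm (x 0) (y b) = 1 := by intro b; rw [hx0]; unfold cm; group
  have B0r : ∀ a, cm (x a) (y 0) = 1 := by intro a; rw [hy0]; unfold cm; group
  have hall : ∀ a b, h48_Cen x y (cm (x a) (y b)) := by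
    intro a b
    rcases h48_four_cases hcard ω hω a with ha | ha | ha | ha <;>
    rcases h48_four_cases hcard ω hω b with hb | hb | hb | hb <;>
    rw [ha, hb]
    all_goals first
      | (rw [B0l]; exact h48_Cen_one x y)
      | (rw [B0r]; exact h48_Cen_one x y)
      | assumption
  exact fun a b a' => hall a b a'

end Cfsg.Agent.Lib.helper44.SL3

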