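import Mathlib
import Cfsg.Agent.Lib.helper69.SNDefs
import Cfsg.Agent.Lib.helper69.SNStruct
import Cfsg.Agent.S0117

/-!
# S4073 piece ODD-SYL (helper48 racing copy): `sn_odd_sylow_comm`
-/

set_option autoImplicit false

namespace Cfsg.Agent.Lib.helper48.SNG

open Cfsg.Agent.Lib.helper69.SNG

universe u

/-- In a finite group with a normal subgroup `A`, an element killed by a power coprime to the
index of `A` lies in `A`. -/
theorem helper48_mem_of_pow_coprime_index {K : Type u} [Group K] [Finite K] (A : Subgroup K)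
    [A.Normal] (x : K) (n : ℕ) (hx : x ^ n = 1) (hn : Nat.Coprime n A.index) : x ∈ A := by
  have h1 : (QuotientGroup.mk x : K ⧸ A) ^ n = 1 := by
    rw [← QuotientGroup.mk_pow, hx]; rfl
  have h2 : (QuotientGroup.mk x : K ⧸ A) ^ A.index = 1 := by
    have : Nat.card (K ⧸ A) = A.index := rfl
    rw [← this]
    exact pow_card_eq_one'
  have h3 : orderOf (QuotientGroup.mk x : K ⧸ A) ∣ Nat.gcd n A.index :=
    Nat.dvd_gcd (orderOf_dvd_of_pow_eq_one h1) (orderOf_dvd_of_pow_eq_one h2)
  rw [hn.gcd_eq_one, Nat.dvd_one, orderOf_eq_one_iff] at h3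
  exact (QuotientGroup.eq_one_iff x).mp h3

/-- **[ODD-SYL]** -/
theorem sn_odd_sylow_comm {G : Type u} [Group G] [Finite G] [IsSimpleGroup G]
    (hna : ¬ IsMulCommutative G) (h : SN G) (hodd : Odd (Nat.card G))
    (hsub : ∀ K : Subgroup G, K ≠ ⊤ → Group.IsSolvable K)
    (p : ℕ) [Fact p.Prime] (P : Sylow p G) : IsMulCommutative P := by
  by_contra hP
  have hpp : p.Prime := Fact.out
  -- `G` is not a `p`-group
  have hnotp : ∀ k : ℕ, Nat.card G ≠ p ^ k := by
    intro k hk
    have hpg : IsPGroup p G := IsPGroup.of_card hk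
    have hnil : Group.IsNilpotent G := hpg.isNilpotent
    have hs : Group.IsSolvable G := inferInstance
    exact hna (comm_iff_top.mpr (IsSimpleGroup.comm_iff_isSolvable.mpr hs))
  -- `P` is nontrivial
  have hPnt : Nontrivial (P : Subgroup G) := by
    by_contra hc
    rw [not_nontrivial_iff_subsingleton] at hc
    exact hP ⟨⟨fun a b => Subsingleton.elim _ _⟩⟩
  have hp2 : p ≠ 2 := by
    intro hp2
    obtain ⟨k, hk⟩ := (IsPGroup.iff_card).mp P.isPGroup'
    have hk0 : k ≠ 0 := by
      rintro rfl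
      rw [pow_zero] at hk
      have := Finite.one_lt_card_iff_nontrivial.mpr hPnt
      omega
    have hdvd : Nat.card (P : Subgroup G) ∣ Nat.card G := Subgroup.card_subgroup_dvd_card _
    have h2 : 2 ∣ Nat.card G := by
      refine dvd_trans ?_ hdvd
      rw [hk, hp2]; exact dvd_pow_self 2 hk0
    exact (Nat.not_even_iff_odd.mpr hodd) (even_iff_two_dvd.mpr h2)
  have hWle : Cfsg.centerThompsonOf p (P : Subgroup G) ≤ (P : Subgroup G) := by
    rw [Cfsg.Agent.Lib.helper67.centerThompsonOf_eq_zJ]
    exact Cfsg.Agent.Lib.helper67.zJ_le p _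
  have hPK : (P : Subgroup G) ≤
      Subgroup.normalizer (Cfsg.centerThompsonOf p (P : Subgroup G) : Set G) := by
    rw [Cfsg.Agent.Lib.helper67.centerThompsonOf_eq_zJ]
    exact le_trans Subgroup.le_normalizer
      (Cfsg.Agent.Lib.helper67.normalizer_le_normalizer_zJ p _)
  have hWne : Cfsg.centerThompsonOf p (P : Subgroup G) ≠ ⊥ := by
    have h1 := Cfsg.Agent.Lib.helper67.zjeFunctor_ne_bot p (P : Subgroup G) P.isPGroup'
    rw [← Cfsg.Agent.Lib.helper67.inducedFunctor_zjeFunctor]
    unfold Cfsg.inducedFunctor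
    intro h2
    exact h1 ((Subgroup.map_eq_bot_iff_of_injective _ (Subgroup.subtype_injective _)).mp h2)
  have hKtop : Subgroup.normalizer (Cfsg.centerThompsonOf p (P : Subgroup G) : Set G) ≠ ⊤ := by
    intro hK
    have hWn : (Cfsg.centerThompsonOf p (P : Subgroup G)).Normal :=
      Subgroup.normalizer_eq_top_iff.mp hK
    rcases hWn.eq_bot_or_eq_top with hb | ht
    · exact hWne hb
    · have hPtop : (P : Subgroup G) = ⊤ := top_le_iff.mp (ht ▸ hWle)
      obtain ⟨k, hk⟩ := (IsPGroup.iff_card).mp P.isPGroup'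
      apply hnotp k
      rw [← hk]
      exact ((Subgroup.card_eq_iff_eq_top _).mpr hPtop).symm
  have hKs := hsub _ hKtop
  have hKSN := h.subgroup (Subgroup.normalizer (Cfsg.centerThompsonOf p (P : Subgroup G) : Set G))
  have hKna : ¬ IsMulCommutative
      (Subgroup.normalizer (Cfsg.centerThompsonOf p (P : Subgroup G) : Set G)) := by
    intro hc
    apply hP
    rw [comm_iff] at hc ⊢
    intro a ha b hb
    exact hc a (hPK ha) b (hPK hb)
  obtain ⟨A, hAn, hAc, hAi⟩ := sn_solvable_index hKSN hKs hKna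
  have hAn' : A.Normal := hAn
  have hAip : A.index = p := by
    by_contra hne
    apply hP
    rw [comm_iff]
    intro a ha b hb
    obtain ⟨k, hk⟩ := (IsPGroup.iff_card).mp P.isPGroup'
    have hcop : Nat.Coprime (p ^ k) A.index := by
      apply Nat.Coprime.pow_left
      exact (Nat.coprime_primes hpp hAi).mpr (fun hh => hne hh.symm)
    have hmem : ∀ x : G, ∀ hx : x ∈ (P : Subgroup G),
        (⟨x, hPK hx⟩ : Subgroup.normalizer
          (Cfsg.centerThompsonOf p (P : Subgroup G) : Set G)) ∈ A := by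
      intro x hx
      apply helper48_mem_of_pow_coprime_index A _ (p ^ k) _ hcop
      apply Subtype.ext
      have h1 : (⟨x, hx⟩ : (P : Subgroup G)) ^ (p ^ k) = 1 := by
        rw [← hk]; exact pow_card_eq_one'
      have h2 := congrArg Subtype.val h1
      simpa using h2
    have := (comm_iff A).mp hAc _ (hmem a ha) _ (hmem b hb)
    exact congrArg Subtype.val this
  have hPN : Cfsg.Agent.Lib.lead.PN p
      (Subgroup.normalizer (Cfsg.centerThompsonOf p (P : Subgroup G) : Set G)) := by
    intro x hx y hy hox hoy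
    have hmem : ∀ z : G, ∀ hz : z ∈ Subgroup.normalizer
        (Cfsg.centerThompsonOf p (P : Subgroup G) : Set G), (orderOf z).Coprime p →
        (⟨z, hz⟩ : Subgroup.normalizer
          (Cfsg.centerThompsonOf p (P : Subgroup G) : Set G)) ∈ A := by
      intro z hz hoz
      apply helper48_mem_of_pow_coprime_index A _ (orderOf z) _ (by rw [hAip]; exact hoz)
      apply Subtype.ext
      simp [pow_orderOf_eq_one]
    have hc := (comm_iff A).mp hAc _ (hmem x hx hox) _ (hmem y hy hoy)
    have hc' : Commute x y := congrArg Subtype.val hc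
    exact Nat.Coprime.coprime_dvd_left
      (dvd_trans hc'.orderOf_mul_dvd_lcm (Nat.lcm_dvd_mul _ _)) (Nat.Coprime.mul_left hox hoy)
  have hNK : Cfsg.HasNormalPComplement p
      (Subgroup.normalizer (Cfsg.centerThompsonOf p (P : Subgroup G) : Set G)) :=
    (Cfsg.Agent.Lib.lead.hasNormalPComplement_subgroup_iff _).mpr hPN
  have hNG : Cfsg.HasNormalPComplement p G := (Cfsg.Agent.S0117.result hp2 P).mpr hNK
  obtain ⟨Q, N, hN, hc⟩ := hNG
  have hcard := hc.card_mul_card
  rcases hN.eq_bot_or_eq_top with hb | ht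
  · obtain ⟨k, hk⟩ := (IsPGroup.iff_card).mp Q.isPGroup'
    apply hnotp k
    rw [hb, Subgroup.card_bot, one_mul] at hcard
    rw [← hcard]; exact hk
  · rw [ht, Subgroup.card_top] at hcard
    have hG0 : 0 < Nat.card G := Nat.card_pos
    have hQ1 : Nat.card (Q : Subgroup G) = 1 := by
      have : Nat.card G * Nat.card (Q : Subgroup G) = Nat.card G * 1 := by rw [hcard, mul_one]
      exact Nat.eq_of_mul_eq_mul_left hG0 this
    have hP1 : Nat.card (P : Subgroup G) = 1 := by
      rw [Sylow.card_eq_multiplicity] at hQ1 ⊢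
      exact hQ1
    have := Finite.one_lt_card_iff_nontrivial.mpr hPnt
    omega

end Cfsg.Agent.Lib.helper48.SNG

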