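import Mathlib
import Cfsg.Agent.Lib.helper49.SPEDefs

set_option autoImplicit false

namespace Cfsg.Agent.Lib.helper49.SPE

/-- ECOUNT (racing copy) -/
theorem h48_card_indep {F : Type*} [Field F] [Fintype F] {n : ℕ} :
    (Fintype.card F ^ n - 1) * (Fintype.card F ^ n - Fintype.card F) ≤
      Nat.card {p : (Fin n → F) × (Fin n → F) // Indep p.1 p.2} := by
  classical
  rw [Nat.card_eq_fintype_card, Fintype.card_subtype]
  have hX : Fintype.card (Fin n → F) = Fintype.card F ^ n := by
    rw [Fintype.card_fun, Fintype.card_fin]
  have hA : (Finset.univ.filter (fun u : Fin n → F => u ≠ 0)).card = Fintype.card F ^ n - 1 := by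
    rw [Finset.filter_ne', Finset.card_erase_of_mem (Finset.mem_univ _), Finset.card_univ, hX]
  have hB : ∀ u ∈ Finset.univ.filter (fun u : Fin n → F => u ≠ 0),
      (Finset.univ.filter (fun v : Fin n → F => ∀ κ : F, v ≠ κ • u)).card =
        Fintype.card F ^ n - Fintype.card F := by
    intro u hu
    have hu0 : u ≠ 0 := (Finset.mem_filter.mp hu).2
    have h1 : Finset.univ.filter (fun v : Fin n → F => ∀ κ : F, v ≠ κ • u) =
        Finset.univ \ (Finset.univ.image (fun κ : F => κ • u)) := by
      ext v
      simp only [Finset.mem_filter, Finset.mem_univ, true_and, Finset.mem_sdiff, Finset.mem_image,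
        not_exists]
      constructor
      · intro h κ hκ
        exact h κ hκ.symm
      · intro h κ hκ
        exact h κ hκ.symm
    rw [h1, Finset.card_sdiff_of_subset (Finset.subset_univ _), Finset.card_univ, hX,
      Finset.card_image_of_injective _ (smul_left_injective F hu0), Finset.card_univ]
  have hinj : ((Finset.univ.filter (fun u : Fin n → F => u ≠ 0)).sigma
      (fun u => Finset.univ.filter (fun v : Fin n → F => ∀ κ : F, v ≠ κ • u))).card ≤
      (Finset.univ.filter (fun p : (Fin n → F) × (Fin n → F) => Indep p.1 p.2)).card := by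
    refine Finset.card_le_card_of_injOn (fun x => (x.1, x.2)) ?_ ?_
    · intro x hx
      have hx' := Finset.mem_coe.mp hx
      rw [Finset.mem_sigma, Finset.mem_filter, Finset.mem_filter] at hx'
      obtain ⟨⟨-, hu0⟩, -, hv⟩ := hx'
      rw [Finset.mem_coe, Finset.mem_filter]
      refine ⟨Finset.mem_univ _, ?_⟩
      intro s t hst
      have ht : t = 0 := by
        by_contra ht
        apply hv (-s / t)
        have h2 : t • x.2 = -(s • x.1) := by
          rw [eq_neg_iff_add_eq_zero, add_comm]
          exact hst
        have h3 : x.2 = t⁻¹ • (t • x.2) := by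
          rw [smul_smul, inv_mul_cancel₀ ht, one_smul]
        rw [h3, h2, smul_neg, smul_smul, ← neg_smul]
        congr 1
        field_simp
      refine ⟨?_, ht⟩
      rw [ht, zero_smul, add_zero] at hst
      rcases smul_eq_zero.mp hst with h | h
      · exact h
      · exact absurd h hu0
    · intro x _ y _ h
      have h1 := (Prod.mk.inj h).1
      have h2 := (Prod.mk.inj h).2
      exact Sigma.ext h1 (heq_of_eq h2)
  refine le_trans ?_ hinj
  rw [Finset.card_sigma, Finset.sum_congr rfl hB, Finset.sum_const, hA, smul_eq_mul]

end Cfsg.Agent.Lib.helper49.SPE
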