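import Mathlib
import Cfsg.Agent.Lib.helper49.SPEDefs

set_option autoImplicit false

namespace Cfsg.Agent.Lib.helper49.SPE

/-- THCARD (racing copy) -/
theorem h48_card_hyp_triples {F : Type*} [Field F] [Fintype F] (h2 : (2 : F) = 0) :
    Fintype.card F * (Fintype.card F - 1) * (Fintype.card F + 1) ≤
      2 * Nat.card {p : F × F × F //
        p.2.1 ≠ 0 ∧ (p.1 = 0 ∨ ∃ t : F, p.1 * t ^ 2 + p.2.1 * t + p.2.2 = 0)} := by
  classical
  rw [Nat.card_eq_fintype_card, Fintype.card_subtype]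
  have hnz : (Finset.univ.filter (fun x : F => x ≠ 0)).card = Fintype.card F - 1 := by
    rw [Finset.filter_ne', Finset.card_erase_of_mem (Finset.mem_univ _), Finset.card_univ]
  -- the two families
  let D₁ : Finset (F × F × F) := (Finset.univ.filter (fun x : F => x ≠ 0)) ×ˢ
    ((Finset.univ.filter (fun x : F => x ≠ 0)) ×ˢ (Finset.univ : Finset F))
  let Φ : F × F × F → F × F × F := fun p => (p.1, p.2.1, -(p.1 * p.2.2 ^ 2 + p.2.1 * p.2.2))
  let T₀ : Finset (F × F × F) := ({0} : Finset F) ×ˢ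
    ((Finset.univ.filter (fun x : F => x ≠ 0)) ×ˢ (Finset.univ : Finset F))
  have hD₁ : D₁.card = (Fintype.card F - 1) * ((Fintype.card F - 1) * Fintype.card F) := by
    rw [Finset.card_product, Finset.card_product, hnz, Finset.card_univ]
  have hT₀ : T₀.card = (Fintype.card F - 1) * Fintype.card F := by
    rw [Finset.card_product, Finset.card_product, hnz, Finset.card_univ, Finset.card_singleton,
      one_mul]
  have hfib : ∀ y ∈ D₁.image Φ, (D₁.filter (fun x => Φ x = y)).card ≤ 2 := by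
    intro y hy
    obtain ⟨x₀, hx₀, rfl⟩ := Finset.mem_image.mp hy
    rw [Finset.mem_product, Finset.mem_product, Finset.mem_filter] at hx₀
    have ha0 : x₀.1 ≠ 0 := hx₀.1.2
    refine le_trans (Finset.card_le_card (t := {x₀, (x₀.1, x₀.2.1, -x₀.2.1 / x₀.1 - x₀.2.2)}) ?_)
      Finset.card_le_two
    intro x hx
    rw [Finset.mem_filter] at hx
    have h1 : x.1 = x₀.1 := by
      have := congrArg Prod.fst hx.2
      exact this
    have h2' : x.2.1 = x₀.2.1 := by
      have := congrArg (fun p : F × F × F => p.2.1) hx.2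
      exact this
    have h3 : -(x.1 * x.2.2 ^ 2 + x.2.1 * x.2.2) = -(x₀.1 * x₀.2.2 ^ 2 + x₀.2.1 * x₀.2.2) := by
      have := congrArg (fun p : F × F × F => p.2.2) hx.2
      exact this
    rw [h1, h2'] at h3
    have h4 : (x.2.2 - x₀.2.2) * (x₀.1 * (x.2.2 + x₀.2.2) + x₀.2.1) = 0 := by
      linear_combination -h3
    rw [Finset.mem_insert, Finset.mem_singleton]
    rcases mul_eq_zero.mp h4 with h5 | h5
    · left
      exact Prod.ext h1 (Prod.ext h2' (sub_eq_zero.mp h5))
    · right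
      refine Prod.ext h1 (Prod.ext h2' ?_)
      show x.2.2 = -x₀.2.1 / x₀.1 - x₀.2.2
      field_simp
      linear_combination h5
  have hle := Finset.card_le_mul_card_image (f := Φ) D₁ 2 hfib
  have hdisj : Disjoint T₀ (D₁.image Φ) := by
    rw [Finset.disjoint_left]
    intro y hy₀ hy₁
    rw [Finset.mem_product, Finset.mem_singleton] at hy₀
    obtain ⟨x, hx, rfl⟩ := Finset.mem_image.mp hy₁
    rw [Finset.mem_product, Finset.mem_filter] at hx
    exact hx.1.2 hy₀.1
  have hsub : T₀ ∪ D₁.image Φ ⊆ Finset.univ.filter (fun p : F × F × F =>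
      p.2.1 ≠ 0 ∧ (p.1 = 0 ∨ ∃ t : F, p.1 * t ^ 2 + p.2.1 * t + p.2.2 = 0)) := by
    intro y hy
    rw [Finset.mem_filter]
    refine ⟨Finset.mem_univ _, ?_⟩
    rcases Finset.mem_union.mp hy with hy | hy
    · rw [Finset.mem_product, Finset.mem_singleton, Finset.mem_product, Finset.mem_filter] at hy
      exact ⟨hy.2.1.2, Or.inl hy.1⟩
    · obtain ⟨x, hx, rfl⟩ := Finset.mem_image.mp hy
      rw [Finset.mem_product, Finset.mem_product, Finset.mem_filter, Finset.mem_filter] at hx
      refine ⟨hx.2.1.2, Or.inr ⟨x.2.2, ?_⟩⟩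
      show x.1 * x.2.2 ^ 2 + x.2.1 * x.2.2 + -(x.1 * x.2.2 ^ 2 + x.2.1 * x.2.2) = 0
      ring
  have hcard := Finset.card_le_card hsub
  rw [Finset.card_union_of_disjoint hdisj, hT₀] at hcard
  rw [hD₁] at hle
  have hq : 1 ≤ Fintype.card F := Fintype.card_pos
  obtain ⟨k, hk⟩ : ∃ k, Fintype.card F = k + 1 := ⟨Fintype.card F - 1, by omega⟩
  rw [hk] at hle hcard ⊢
  simp only [Nat.add_sub_cancel] at hle hcard ⊢
  nlinarith

end Cfsg.Agent.Lib.helper49.SPE
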