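import Mathlib
import Cfsg.Prelude.Def_Classical
import Cfsg.Prelude.Def_GeometricClasses
import Cfsg.Agent.Lib.helper71.QfcQK
import Cfsg.Agent.Lib.helper17.SymmForm

/-! S5977/S5978 block [A], leaf KUNIQ (helper48, racing copy): two self-adjoint square roots of the
same nonsquare are conjugate under the isometry group. Route: `K'`-coordinates (block C, `qfc_phi`,
`helper71_qk_polar`), the normal form of symmetric forms over the finite field `K'`
(`helper17.exists_basis_symm`), Gram determinants and a norm argument. -/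

set_option autoImplicit false

namespace Cfsg.Agent.Lib.helper59.Sfk

open Matrix Cfsg.Geo

/-- If the norm `a² - δ b²` of `a + b√δ` is a square of `F`, then `a + b√δ` is a square. -/
theorem h48_norm_sq {F : Type*} [Field F] [Finite F] (h2 : (2 : F) ≠ 0) (δ : F) (hδ : ¬ IsSquare δ)
    (a b m : F) (h : a ^ 2 - δ * b ^ 2 = m ^ 2) :
    ∃ s t : F, s ^ 2 + δ * t ^ 2 = a ∧ 2 * s * t = b := by
  obtain ⟨T₁, hT₁⟩ : ∃ T₁ : F, 2 * T₁ = a + m := ⟨(a + m) / 2, by field_simp⟩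
  obtain ⟨T₂, hT₂⟩ : ∃ T₂ : F, 2 * T₂ = a - m := ⟨(a - m) / 2, by field_simp⟩
  have hsum : T₁ + T₂ = a := mul_left_cancel₀ h2 (by linear_combination hT₁ + hT₂)
  have hprod : 4 * (T₁ * T₂) = δ * b ^ 2 := by
    linear_combination (2 * T₂) * hT₁ + (a + m) * hT₂ + h
  have h4 : (4 : F) ≠ 0 := by
    have h44 : (4 : F) = 2 * 2 := by norm_num
    rw [h44]; exact mul_ne_zero h2 h2
  have hδ0 : δ ≠ 0 := by rintro rfl; exact hδ ⟨0, by simp⟩
  have hkey : ∀ w : F, T₁ * T₂ = w * w → b = 0 := by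
    intro w hw
    by_contra hb
    apply hδ
    refine ⟨2 * w / b, ?_⟩
    rw [div_mul_div_comm, eq_div_iff (mul_ne_zero hb hb)]
    linear_combination (-1 : F) * hprod + 4 * hw
  have hzero : b = 0 → T₁ * T₂ = 0 := by
    intro hb
    have h0 : 4 * (T₁ * T₂) = 0 := by rw [hprod, hb]; ring
    exact (mul_eq_zero.mp h0).resolve_left h4
  have hfin : ∀ s c : F, s ^ 2 + δ * c ^ 2 = a → (2 * s * c) ^ 2 = b ^ 2 →
      ∃ s t : F, s ^ 2 + δ * t ^ 2 = a ∧ 2 * s * t = b := by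
    intro s c h1 h3
    rcases eq_or_eq_neg_of_sq_eq_sq _ _ h3 with h5 | h5
    · exact ⟨s, c, h1, h5⟩
    · exact ⟨s, -c, by rw [neg_sq]; exact h1, by linear_combination (-1 : F) * h5⟩
  by_cases hS1 : IsSquare T₁
  · obtain ⟨s, hs⟩ := hS1
    by_cases hS2 : IsSquare T₂
    · obtain ⟨s', hs'⟩ := hS2
      have hb : b = 0 := hkey (s * s') (by rw [hs, hs']; ring)
      rcases mul_eq_zero.mp (hzero hb) with h0 | h0
      · exact ⟨s', 0, by rw [← hsum, h0, hs']; ring, by rw [hb]; ring⟩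
      · exact ⟨s, 0, by rw [← hsum, h0, hs]; ring, by rw [hb]; ring⟩
    · obtain ⟨c, -, hc⟩ := Cfsg.Agent.Lib.helper17.exists_eq_mul_sq_of_not_isSquare h2 δ T₂ hδ hS2
      apply hfin s c
      · rw [← hsum, hs, hc]; ring
      · apply mul_left_cancel₀ hδ0
        rw [← hprod, hs, hc]; ring
  · by_cases hS2 : IsSquare T₂
    · obtain ⟨s, hs⟩ := hS2
      obtain ⟨c, -, hc⟩ := Cfsg.Agent.Lib.helper17.exists_eq_mul_sq_of_not_isSquare h2 δ T₁ hδ hS1
      apply hfin s c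
      · rw [← hsum, hs, hc]; ring
      · apply mul_left_cancel₀ hδ0
        rw [← hprod, hs, hc]; ring
    · exfalso
      obtain ⟨c, -, hc⟩ := Cfsg.Agent.Lib.helper17.exists_eq_mul_sq_of_not_isSquare h2 T₁ T₂ hS1 hS2
      have hb : b = 0 := hkey (T₁ * c) (by rw [hc]; ring)
      rcases mul_eq_zero.mp (hzero hb) with h0 | h0
      · exact hS1 ⟨0, by rw [h0]; ring⟩
      · exact hS2 ⟨0, by rw [h0]; ring⟩

/-- A `κ`-orthogonal frame with norm data `1, …, 1, ε`, `ε ∈ {1, α}`. -/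
theorem h48_frame {F : Type*} [Field F] [Fintype F] {ι : Type} [Fintype ι] [DecidableEq ι]
    (h2 : (2 : F) ≠ 0) (Q : (ι → F) → F) (hQ : IsNondegenerateQuadraticForm Q)
    (δ : F) [Fact (∀ r : F, r ^ 2 ≠ δ + 0 * r)] (α : QuadraticAlgebra F δ 0) (hα : ¬ IsSquare α)
    (κ : Matrix ι ι F) (hκ : κ * κ = δ • (1 : Matrix ι ι F))
    (hsa : ∀ u v : ι → F, QuadraticMap.polar Q (κ *ᵥ u) v = QuadraticMap.polar Q u (κ *ᵥ v))
    (n : ℕ) (hcard : Fintype.card ι = 2 * (n + 1)) :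
    ∃ (u : Fin (n + 1) → (ι → F)) (ε : QuadraticAlgebra F δ 0), (ε = 1 ∨ ε = α) ∧
      (∀ i j, i ≠ j → QuadraticMap.polar Q (u i) (u j) = 0 ∧
        QuadraticMap.polar Q (κ *ᵥ u i) (u j) = 0) ∧
      (∀ i, QuadraticMap.polar Q (u i) (u i) = (if i = Fin.last n then ε else 1).re ∧
        QuadraticMap.polar Q (κ *ᵥ u i) (u i) = δ * (if i = Fin.last n then ε else 1).im) := by
  classical
  have hδ0 : δ ≠ 0 := by
    intro h
    have h0 := Fact.out (p := ∀ r : F, r ^ 2 ≠ δ + 0 * r) 0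
    apply h0; rw [h]; ring
  obtain ⟨Φ, hΦ⟩ := Cfsg.Agent.Lib.helper2.qfc_phi δ κ hκ (n + 1) hcard
  have hQK : IsNondegenerateQuadraticForm (Cfsg.Agent.Lib.helper2.helper71_qk Q δ κ (n + 1) Φ) :=
    Cfsg.Agent.Lib.helper2.helper71_qfc_qk_nondeg h2 Q hQ δ κ hκ hsa (n + 1) Φ hΦ
  have hpol := Cfsg.Agent.Lib.helper2.helper71_qk_polar h2 Q hQ δ hδ0 κ hsa (n + 1) Φ
  have h2K : (2 : QuadraticAlgebra F δ 0) ≠ 0 := by
    intro h
    apply h2
    have h3 : (1 + 1 : QuadraticAlgebra F δ 0) = 0 := by rw [one_add_one_eq_two]; exact h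
    have h3' := congrArg QuadraticAlgebra.re h3
    rw [QuadraticAlgebra.re_add, QuadraticAlgebra.re_one, QuadraticAlgebra.re_zero,
      one_add_one_eq_two] at h3'
    exact h3'
  have : Finite (QuadraticAlgebra F δ 0) :=
    Finite.of_injective (fun z : QuadraticAlgebra F δ 0 => (z.re, z.im))
      (fun z w h => QuadraticAlgebra.ext (congrArg Prod.fst h) (congrArg Prod.snd h))
  have hB := hQK.polar_bilinear
  obtain ⟨β, hβ⟩ : ∃ β : LinearMap.BilinForm (QuadraticAlgebra F δ 0)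
      (Fin (n + 1) → QuadraticAlgebra F δ 0), ∀ k k', β k k' =
        QuadraticMap.polar (Cfsg.Agent.Lib.helper2.helper71_qk Q δ κ (n + 1) Φ) k k' :=
    ⟨LinearMap.mk₂ (QuadraticAlgebra F δ 0)
      (QuadraticMap.polar (Cfsg.Agent.Lib.helper2.helper71_qk Q δ κ (n + 1) Φ))
      hB.add_left hB.smul_left hB.add_right hB.smul_right, fun k k' => rfl⟩
  have hS : β.IsSymm := ⟨fun x y => by rw [hβ, hβ, QuadraticMap.polar_comm]⟩
  have hN : β.Nondegenerate := by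
    refine ⟨?_, ?_⟩
    · intro k hk
      by_contra hk0
      obtain ⟨-, x, hx⟩ := hQK.nondegenerate k hk0
      apply hx
      rw [← hβ]
      exact hk x
    · intro k hk
      by_contra hk0
      obtain ⟨⟨x, hx⟩, -⟩ := hQK.nondegenerate k hk0
      apply hx
      rw [← hβ]
      exact hk x
  obtain ⟨b, hb1, hb2, hb3⟩ := Cfsg.Agent.Lib.helper17.exists_basis_symm h2K β hS hN
    (Module.finrank_fin_fun _) α hα
  have hproj : ∀ x y : F, (⟨x, y⟩ : QuadraticAlgebra F δ 0).im = y := fun _ _ => rfl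
  have hprojr : ∀ x y : F, (⟨x, y⟩ : QuadraticAlgebra F δ 0).re = x := fun _ _ => rfl
  refine ⟨fun i => Φ (b i), β (b (Fin.last n)) (b (Fin.last n)), hb3, ?_, ?_⟩
  · intro i j hij
    have h := hb1 i j hij
    rw [hβ, hpol] at h
    have hre := congrArg QuadraticAlgebra.re h
    have him := congrArg QuadraticAlgebra.im h
    rw [hprojr, QuadraticAlgebra.re_zero] at hre
    rw [hproj, QuadraticAlgebra.im_zero] at him
    refine ⟨hre, ?_⟩
    rcases div_eq_zero_iff.mp him with h' | h'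
    · exact h'
    · exact absurd h' hδ0
  · intro i
    have hη : β (b i) (b i)
        = (if i = Fin.last n then β (b (Fin.last n)) (b (Fin.last n)) else 1) := by
      by_cases hi : i = Fin.last n
      · rw [if_pos hi, hi]
      · rw [if_neg hi]; exact hb2 i hi
    rw [← hη, hβ, hpol, hprojr, hproj]
    refine ⟨rfl, ?_⟩
    field_simp

/-- The frame vectors `u_j, κ u_j`. -/
def h48Fr {F : Type*} [Field F] {ι : Type} [Fintype ι] {n : ℕ} (κ : Matrix ι ι F)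
    (u : Fin (n + 1) → (ι → F)) (c : Fin 2 × Fin (n + 1)) : ι → F :=
  if c.1 = 0 then u c.2 else κ *ᵥ u c.2

/-- The Gram block of a frame vector pair. -/
def h48Blk {F : Type*} [Field F] (δ : F) (ε : QuadraticAlgebra F δ 0) : Matrix (Fin 2) (Fin 2) F :=
  !![ε.re, δ * ε.im; δ * ε.im, δ * ε.re]

/-- The Gram matrix of a normalised frame. -/
def h48Dm {F : Type*} [Field F] (δ : F) (n : ℕ) (ε : QuadraticAlgebra F δ 0) :
    Matrix (Fin 2 × Fin (n + 1)) (Fin 2 × Fin (n + 1)) F :=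
  Matrix.blockDiagonal (fun j : Fin (n + 1) => h48Blk δ (if j = Fin.last n then ε else 1))

theorem h48_det_Dm {F : Type*} [Field F] (δ : F) (n : ℕ) (ε : QuadraticAlgebra F δ 0) :
    (h48Dm δ n ε).det = δ ^ n * (δ * (ε.re ^ 2 - δ * ε.im ^ 2)) := by
  unfold h48Dm
  rw [Matrix.det_blockDiagonal, Fin.prod_univ_castSucc]
  rw [if_pos rfl]
  have h1 : ∀ i : Fin n, (h48Blk δ (if i.castSucc = Fin.last n then ε else 1)).det = δ := by
    intro i
    rw [if_neg (Fin.castSucc_lt_last i).ne]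
    unfold h48Blk
    rw [Matrix.det_fin_two_of, QuadraticAlgebra.re_one, QuadraticAlgebra.im_one]
    ring
  rw [Finset.prod_congr rfl (fun i _ => h1 i), Finset.prod_const, Finset.card_univ,
    Fintype.card_fin]
  unfold h48Blk
  rw [Matrix.det_fin_two_of]
  ring

theorem h48Fr_kappa {F : Type*} [Field F] {ι : Type} [Fintype ι] [DecidableEq ι] {n : ℕ} (δ : F)
    (κ : Matrix ι ι F) (hκ : κ * κ = δ • (1 : Matrix ι ι F)) (u : Fin (n + 1) → (ι → F))
    (c : Fin 2 × Fin (n + 1)) :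
    κ *ᵥ h48Fr κ u c = (if c.1 = 0 then (1 : F) else δ) •
      h48Fr κ u (if c.1 = 0 then (1, c.2) else (0, c.2)) := by
  by_cases hc : c.1 = 0
  · rw [if_pos hc, if_pos hc, one_smul]
    show κ *ᵥ (if c.1 = 0 then u c.2 else κ *ᵥ u c.2) = κ *ᵥ u c.2
    rw [if_pos hc]
  · rw [if_neg hc, if_neg hc]
    show κ *ᵥ (if c.1 = 0 then u c.2 else κ *ᵥ u c.2) = δ • u c.2
    rw [if_neg hc, Matrix.mulVec_mulVec, hκ, Matrix.smul_mulVec, Matrix.one_mulVec]

theorem h48_gram {F : Type*} [Field F] {ι : Type} [Fintype ι] [DecidableEq ι]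
    (Q : QuadraticForm F (ι → F)) (δ : F) (κ : Matrix ι ι F)
    (hκ : κ * κ = δ • (1 : Matrix ι ι F))
    (hsa : ∀ u v : ι → F, QuadraticMap.polar (⇑Q) (κ *ᵥ u) v = QuadraticMap.polar (⇑Q) u (κ *ᵥ v))
    (n : ℕ) (u : Fin (n + 1) → (ι → F)) (ε : QuadraticAlgebra F δ 0)
    (ho : ∀ i j, i ≠ j → QuadraticMap.polar (⇑Q) (u i) (u j) = 0 ∧
        QuadraticMap.polar (⇑Q) (κ *ᵥ u i) (u j) = 0)
    (hd : ∀ i, QuadraticMap.polar (⇑Q) (u i) (u i) = (if i = Fin.last n then ε else 1).re ∧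
        QuadraticMap.polar (⇑Q) (κ *ᵥ u i) (u i) = δ * (if i = Fin.last n then ε else 1).im)
    (s t : Fin 2) (j l : Fin (n + 1)) :
    QuadraticMap.polar (⇑Q) (h48Fr κ u (s, j)) (h48Fr κ u (t, l)) = h48Dm δ n ε (s, j) (t, l) := by
  have hkk : ∀ v w : ι → F, QuadraticMap.polar (⇑Q) (κ *ᵥ v) (κ *ᵥ w)
      = δ * QuadraticMap.polar (⇑Q) v w := by
    intro v w
    rw [← hsa, Matrix.mulVec_mulVec, hκ, Matrix.smul_mulVec, Matrix.one_mulVec,
      QuadraticMap.polar_smul_left, smul_eq_mul]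
  unfold h48Dm
  rw [Matrix.blockDiagonal_apply]
  by_cases hjl : j = l
  · subst hjl
    rw [if_pos rfl]
    obtain ⟨h1, h3⟩ := hd j
    fin_cases s <;> fin_cases t
    · show QuadraticMap.polar (⇑Q) (u j) (u j) = (if j = Fin.last n then ε else 1).re
      exact h1
    · show QuadraticMap.polar (⇑Q) (u j) (κ *ᵥ u j) = δ * (if j = Fin.last n then ε else 1).im
      rw [QuadraticMap.polar_comm]; exact h3
    · show QuadraticMap.polar (⇑Q) (κ *ᵥ u j) (u j) = δ * (if j = Fin.last n then ε else 1).im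
      exact h3
    · show QuadraticMap.polar (⇑Q) (κ *ᵥ u j) (κ *ᵥ u j) = δ * (if j = Fin.last n then ε else 1).re
      rw [hkk, h1]
  · rw [if_neg hjl]
    obtain ⟨h1, h3⟩ := ho j l hjl
    obtain ⟨h5, h6⟩ := ho l j (Ne.symm hjl)
    fin_cases s <;> fin_cases t
    · show QuadraticMap.polar (⇑Q) (u j) (u l) = 0
      exact h1
    · show QuadraticMap.polar (⇑Q) (u j) (κ *ᵥ u l) = 0
      rw [QuadraticMap.polar_comm]; exact h6
    · show QuadraticMap.polar (⇑Q) (κ *ᵥ u j) (u l) = 0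
      exact h3
    · show QuadraticMap.polar (⇑Q) (κ *ᵥ u j) (κ *ᵥ u l) = 0
      rw [hkk, h1, mul_zero]

/-- The matrix whose columns are the frame vectors, with its Gram identity. -/
theorem h48_N {F : Type*} [Field F] {ι : Type} [Fintype ι] [DecidableEq ι]
    (Q : QuadraticForm F (ι → F)) (δ : F) (κ : Matrix ι ι F)
    (hκ : κ * κ = δ • (1 : Matrix ι ι F))
    (hsa : ∀ u v : ι → F, QuadraticMap.polar (⇑Q) (κ *ᵥ u) v = QuadraticMap.polar (⇑Q) u (κ *ᵥ v))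
    (n : ℕ) (u : Fin (n + 1) → (ι → F)) (ε : QuadraticAlgebra F δ 0)
    (ho : ∀ i j, i ≠ j → QuadraticMap.polar (⇑Q) (u i) (u j) = 0 ∧
        QuadraticMap.polar (⇑Q) (κ *ᵥ u i) (u j) = 0)
    (hd : ∀ i, QuadraticMap.polar (⇑Q) (u i) (u i) = (if i = Fin.last n then ε else 1).re ∧
        QuadraticMap.polar (⇑Q) (κ *ᵥ u i) (u i) = δ * (if i = Fin.last n then ε else 1).im)
    (e : ι ≃ Fin 2 × Fin (n + 1)) :
    ∃ N : Matrix ι ι F, (∀ a : ι, N *ᵥ Pi.single a 1 = h48Fr κ u (e a)) ∧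
      Nᵀ * LinearMap.BilinForm.toMatrix' (QuadraticMap.polarBilin Q) * N
        = (h48Dm δ n ε).submatrix e e := by
  obtain ⟨N, hN⟩ : ∃ N : Matrix ι ι F, N = Matrix.of (fun a c => h48Fr κ u (e c) a) := ⟨_, rfl⟩
  have hcol : ∀ a : ι, N *ᵥ Pi.single a 1 = h48Fr κ u (e a) := by
    intro a
    rw [Matrix.mulVec_single_one, hN]
    ext b
    rfl
  refine ⟨N, hcol, ?_⟩
  have hcomp := LinearMap.BilinForm.toMatrix'_comp (QuadraticMap.polarBilin Q) (Matrix.toLin' N)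
    (Matrix.toLin' N)
  rw [LinearMap.toMatrix'_toLin'] at hcomp
  rw [← hcomp]
  ext a b
  rw [LinearMap.BilinForm.toMatrix'_apply, LinearMap.BilinForm.comp_apply, Matrix.toLin'_apply,
    Matrix.toLin'_apply, hcol, hcol, QuadraticMap.polarBilin_apply_apply]
  exact h48_gram Q δ κ hκ hsa n u ε ho hd (e a).1 (e b).1 (e a).2 (e b).2

/-- KUNIQ (XL), racing copy of `sfk_uniq` (verbatim statement). -/
theorem h48_sfk_uniq {F : Type*} [Field F] [Fintype F] {ι : Type} [Fintype ι] [DecidableEq ι]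
    (h2 : (2 : F) ≠ 0) (Q : QuadraticForm F (ι → F))
    (hQ : (QuadraticMap.polarBilin Q).Nondegenerate)
    (hQ' : IsNondegenerateQuadraticForm (⇑Q : (ι → F) → F))
    (δ : F) (hδ : ∀ r : F, r ^ 2 ≠ δ + 0 * r) (κ₁ κ₂ : Matrix ι ι F)
    (h1 : κ₁ * κ₁ = δ • (1 : Matrix ι ι F)) (h2' : κ₂ * κ₂ = δ • (1 : Matrix ι ι F))
    (hs1 : ∀ u v : ι → F, QuadraticMap.polar (⇑Q) (κ₁ *ᵥ u) v = QuadraticMap.polar (⇑Q) u (κ₁ *ᵥ v))
    (hs2 : ∀ u v : ι → F, QuadraticMap.polar (⇑Q) (κ₂ *ᵥ u) v = QuadraticMap.polar (⇑Q) u (κ₂ *ᵥ v)) :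
    ∃ h : GL ι F, h ∈ Cfsg.isometryGroup F (⇑Q) ∧
      (h : Matrix ι ι F) * κ₁ = κ₂ * (h : Matrix ι ι F) := by
  classical
  have : Fact (∀ r : F, r ^ 2 ≠ δ + 0 * r) := ⟨hδ⟩
  have hδsq : ¬ IsSquare δ := by
    rintro ⟨r, hr⟩
    apply hδ r; rw [hr]; ring
  have hδ0 : δ ≠ 0 := by rintro rfl; exact hδsq ⟨0, by simp⟩
  obtain ⟨d, hd⟩ : ∃ d, Fintype.card ι = 2 * d := by
    by_contra hne
    have hodd : Odd (Fintype.card ι) := by
      rcases Nat.even_or_odd (Fintype.card ι) with he | ho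
      · exfalso; obtain ⟨k, hk⟩ := he; exact hne ⟨k, by omega⟩
      · exact ho
    obtain ⟨m, hm⟩ := hodd
    have hdet : κ₁.det * κ₁.det = δ ^ Fintype.card ι := by
      rw [← Matrix.det_mul, h1, Matrix.det_smul, Matrix.det_one, mul_one]
    rw [hm] at hdet
    apply hδsq
    refine ⟨κ₁.det / δ ^ m, ?_⟩
    have hpow : δ ^ m ≠ 0 := pow_ne_zero _ hδ0
    rw [div_mul_div_comm, eq_div_iff (mul_ne_zero hpow hpow), hdet]
    ring
  rcases Nat.eq_zero_or_pos d with hd0 | hdpos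
  · have hι : IsEmpty ι := Fintype.card_eq_zero_iff.mp (by rw [hd, hd0])
    refine ⟨1, Subgroup.one_mem _, ?_⟩
    ext a b
    exact (hι.false a).elim
  obtain ⟨n, rfl⟩ : ∃ n, d = n + 1 := ⟨d - 1, by omega⟩
  have h2K : (2 : QuadraticAlgebra F δ 0) ≠ 0 := by
    intro h
    apply h2
    have h3 : (1 + 1 : QuadraticAlgebra F δ 0) = 0 := by rw [one_add_one_eq_two]; exact h
    have h3' := congrArg QuadraticAlgebra.re h3
    rw [QuadraticAlgebra.re_add, QuadraticAlgebra.re_one, QuadraticAlgebra.re_zero,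
      one_add_one_eq_two] at h3'
    exact h3'
  have : Finite (QuadraticAlgebra F δ 0) :=
    Finite.of_injective (fun z : QuadraticAlgebra F δ 0 => (z.re, z.im))
      (fun z w h => QuadraticAlgebra.ext (congrArg Prod.fst h) (congrArg Prod.snd h))
  obtain ⟨α, hα⟩ := FiniteField.exists_nonsquare (F := QuadraticAlgebra F δ 0)
    (Cfsg.Agent.Lib.helper17.ringChar_ne_two_of_two_ne_zero h2K)
  have hα0 : α ≠ 0 := by rintro rfl; exact hα ⟨0, by simp⟩
  obtain ⟨u₁, ε₁, hε₁, ho1, hd1⟩ := h48_frame h2 (⇑Q) hQ' δ α hα κ₁ h1 hs1 n hd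
  obtain ⟨u₂, ε₂, hε₂, ho2, hd2⟩ := h48_frame h2 (⇑Q) hQ' δ α hα κ₂ h2' hs2 n hd
  obtain ⟨e⟩ : Nonempty (ι ≃ Fin 2 × Fin (n + 1)) :=
    ⟨Fintype.equivOfCardEq (by rw [hd, Fintype.card_prod, Fintype.card_fin, Fintype.card_fin])⟩
  obtain ⟨N₁, hc1, hg1⟩ := h48_N Q δ κ₁ h1 hs1 n u₁ ε₁ ho1 hd1 e
  obtain ⟨N₂, hc2, hg2⟩ := h48_N Q δ κ₂ h2' hs2 n u₂ ε₂ ho2 hd2 e
  obtain ⟨G, hG⟩ : ∃ G : Matrix ι ι F,
      G = LinearMap.BilinForm.toMatrix' (QuadraticMap.polarBilin Q) := ⟨_, rfl⟩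
  rw [← hG] at hg1 hg2
  have hdet1 : N₁.det ^ 2 * G.det = δ ^ n * (δ * (ε₁.re ^ 2 - δ * ε₁.im ^ 2)) := by
    have h3 := congrArg Matrix.det hg1
    rw [Matrix.det_mul, Matrix.det_mul, Matrix.det_transpose, Matrix.det_submatrix_equiv_self,
      h48_det_Dm] at h3
    rw [← h3]; ring
  have hdet2 : N₂.det ^ 2 * G.det = δ ^ n * (δ * (ε₂.re ^ 2 - δ * ε₂.im ^ 2)) := by
    have h3 := congrArg Matrix.det hg2
    rw [Matrix.det_mul, Matrix.det_mul, Matrix.det_transpose, Matrix.det_submatrix_equiv_self,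
      h48_det_Dm] at h3
    rw [← h3]; ring
  have hnorm : ∀ ε : QuadraticAlgebra F δ 0, ε ≠ 0 → ε.re ^ 2 - δ * ε.im ^ 2 ≠ 0 := by
    intro ε hε h0
    by_cases him : ε.im = 0
    · apply hε
      apply QuadraticAlgebra.ext
      · rw [him] at h0
        have h3 : ε.re ^ 2 = 0 := by linear_combination h0
        rw [QuadraticAlgebra.re_zero]
        exact pow_eq_zero_iff (two_ne_zero) |>.mp h3
      · rw [QuadraticAlgebra.im_zero]; exact him
    · apply hδsq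
      refine ⟨ε.re / ε.im, ?_⟩
      rw [div_mul_div_comm, eq_div_iff (mul_ne_zero him him)]
      linear_combination (-1 : F) * h0
  have hε1 : ε₁ ≠ 0 := by
    rcases hε₁ with e1 | e1
    · rw [e1]; exact one_ne_zero
    · rw [e1]; exact hα0
  have hε2 : ε₂ ≠ 0 := by
    rcases hε₂ with e1 | e1
    · rw [e1]; exact one_ne_zero
    · rw [e1]; exact hα0
  have hR1 : δ ^ n * (δ * (ε₁.re ^ 2 - δ * ε₁.im ^ 2)) ≠ 0 :=
    mul_ne_zero (pow_ne_zero _ hδ0) (mul_ne_zero hδ0 (hnorm ε₁ hε1))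
  have hR2 : δ ^ n * (δ * (ε₂.re ^ 2 - δ * ε₂.im ^ 2)) ≠ 0 :=
    mul_ne_zero (pow_ne_zero _ hδ0) (mul_ne_zero hδ0 (hnorm ε₂ hε2))
  have hN1 : N₁.det ≠ 0 := by
    intro h0; apply hR1; rw [← hdet1, h0]; ring
  have hN2 : N₂.det ≠ 0 := by
    intro h0; apply hR2; rw [← hdet2, h0]; ring
  have hG0 : G.det ≠ 0 := by
    intro h0; apply hR1; rw [← hdet1, h0]; ring
  have hrel : (ε₁.re ^ 2 - δ * ε₁.im ^ 2) * N₂.det ^ 2
      = (ε₂.re ^ 2 - δ * ε₂.im ^ 2) * N₁.det ^ 2 := by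
    have hc : δ ^ n * δ * G.det ≠ 0 := mul_ne_zero (mul_ne_zero (pow_ne_zero _ hδ0) hδ0) hG0
    apply mul_left_cancel₀ hc
    linear_combination (-(G.det * N₂.det ^ 2)) * hdet1 + (G.det * N₁.det ^ 2) * hdet2
  have hsqα : ∀ m : F, α.re ^ 2 - δ * α.im ^ 2 = m ^ 2 → False := by
    intro m hm
    obtain ⟨s, t, hs, ht⟩ := h48_norm_sq h2 δ hδsq α.re α.im m hm
    apply hα
    refine ⟨⟨s, t⟩, ?_⟩
    apply QuadraticAlgebra.ext
    · rw [QuadraticAlgebra.re_mul]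
      show α.re = s * s + δ * t * t
      rw [← hs]; ring
    · rw [QuadraticAlgebra.im_mul]
      show α.im = s * t + t * s + 0 * t * t
      rw [← ht]; ring
  have hεeq : ε₁ = ε₂ := by
    rcases hε₁ with e1 | e1 <;> rcases hε₂ with e2 | e2
    · rw [e1, e2]
    · exfalso
      rw [e1, e2, QuadraticAlgebra.re_one, QuadraticAlgebra.im_one] at hrel
      apply hsqα (N₂.det / N₁.det)
      rw [div_pow, eq_div_iff (pow_ne_zero _ hN1)]
      linear_combination (-1 : F) * hrel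
    · exfalso
      rw [e1, e2, QuadraticAlgebra.re_one, QuadraticAlgebra.im_one] at hrel
      apply hsqα (N₁.det / N₂.det)
      rw [div_pow, eq_div_iff (pow_ne_zero _ hN2)]
      linear_combination hrel
    · rw [e1, e2]
  have hN1u : IsUnit N₁.det := isUnit_iff_ne_zero.mpr hN1
  have hU1 : IsUnit N₁ := (Matrix.isUnit_iff_isUnit_det _).mpr hN1u
  have hU1t : IsUnit N₁ᵀ :=
    (Matrix.isUnit_iff_isUnit_det _).mpr (by rw [Matrix.det_transpose]; exact hN1u)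
  obtain ⟨hm, hhm⟩ : ∃ hm : Matrix ι ι F, hm = N₂ * N₁⁻¹ := ⟨_, rfl⟩
  have hmN : hm * N₁ = N₂ := by
    rw [hhm, Matrix.mul_assoc, Matrix.nonsing_inv_mul _ hN1u, Matrix.mul_one]
  have hmdet : hm.det ≠ 0 := by
    intro h0
    have h3 := congrArg Matrix.det hmN
    rw [Matrix.det_mul, h0, zero_mul] at h3
    exact hN2 h3.symm
  have hgram : hmᵀ * G * hm = G := by
    apply hU1t.mul_right_inj.mp
    apply hU1.mul_left_inj.mp
    have h3 : N₁ᵀ * (hmᵀ * G * hm) * N₁ = (hm * N₁)ᵀ * G * (hm * N₁) := by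
      rw [Matrix.transpose_mul]; simp only [Matrix.mul_assoc]
    rw [h3, hmN, hg2, hg1, hεeq]
  have hiso : ∀ v : ι → F, Q (hm *ᵥ v) = Q v := by
    intro v
    have hB : LinearMap.BilinForm.comp (QuadraticMap.polarBilin Q) (Matrix.toLin' hm)
        (Matrix.toLin' hm) = QuadraticMap.polarBilin Q := by
      apply LinearMap.BilinForm.toMatrix'.injective
      rw [LinearMap.BilinForm.toMatrix'_comp, LinearMap.toMatrix'_toLin', ← hG]
      exact hgram
    have h5 := congrArg (fun B : LinearMap.BilinForm F (ι → F) => B v v) hB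
    simp only [LinearMap.BilinForm.comp_apply, Matrix.toLin'_apply,
      QuadraticMap.polarBilin_apply_apply, QuadraticMap.polar_self] at h5
    have h6 : Q (hm *ᵥ v) + Q (hm *ᵥ v) = Q v + Q v := by
      simpa [two_smul, two_nsmul] using h5
    have h7 : (2 : F) * Q (hm *ᵥ v) = 2 * Q v := by linear_combination h6
    exact mul_left_cancel₀ h2 h7
  have hfr : ∀ c, hm *ᵥ h48Fr κ₁ u₁ c = h48Fr κ₂ u₂ c := by
    intro c
    have h5 := hc1 (e.symm c)
    have h6 := hc2 (e.symm c)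
    rw [Equiv.apply_symm_apply] at h5 h6
    rw [← h5, Matrix.mulVec_mulVec, hmN, h6]
  have hext : ∀ A B : Matrix ι ι F, (∀ a, A *ᵥ Pi.single a 1 = B *ᵥ Pi.single a 1) → A = B := by
    intro A B hAB
    ext i a
    have h5 := congrFun (hAB a) i
    rwa [Matrix.mulVec_single_one, Matrix.mulVec_single_one] at h5
  have hcomm : hm * κ₁ = κ₂ * hm := by
    apply hU1.mul_left_inj.mp
    apply hext
    intro a
    rw [← Matrix.mulVec_mulVec, ← Matrix.mulVec_mulVec, ← Matrix.mulVec_mulVec,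
      ← Matrix.mulVec_mulVec, hc1 a, h48Fr_kappa δ κ₁ h1, Matrix.mulVec_smul, hfr, hfr,
      h48Fr_kappa δ κ₂ h2']
  refine ⟨Matrix.GeneralLinearGroup.mkOfDetNeZero hm hmdet, ?_, hcomm⟩
  intro v w
  exact hiso v

end Cfsg.Agent.Lib.helper59.Sfk
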