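import Mathlib
import Cfsg.Agent.Lib.helper24.SfoDefs

set_option autoImplicit false

namespace Cfsg.Agent.Lib.helper24

open Module Matrix Cfsg.Geo

theorem h48_sfo_add {F : Type*} [Field F] {n : ℕ} (Q : (Fin n → F) → F) (u v : Fin n → F) :
    Q (u + v) = Q u + Q v + QuadraticMap.polar Q u v := by
  unfold QuadraticMap.polar
  ring

theorem h48_sfo_polar_self {F : Type*} [Field F] {n : ℕ} (Q : (Fin n → F) → F)
    (hQ : IsNondegenerateQuadraticForm Q) (u : Fin n → F) :
    QuadraticMap.polar Q u u = 2 * Q u := by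
  have h1 : Q (u + u) = 4 * Q u := by
    have : u + u = (2 : F) • u := by rw [two_smul]
    rw [this, hQ.smul]
    ring
  unfold QuadraticMap.polar
  rw [h1]
  ring

theorem h48_sfo_sub_smul {F : Type*} [Field F] {n : ℕ} (Q : (Fin n → F) → F)
    (hQ : IsNondegenerateQuadraticForm Q) (x u : Fin n → F) (t : F) :
    Q (x - t • u) = Q x + t ^ 2 * Q u - t * QuadraticMap.polar Q x u := by
  have : x - t • u = x + (-t) • u := by rw [neg_smul, sub_eq_add_neg]
  rw [this, h48_sfo_add Q, hQ.smul, hQ.polar_bilinear.smul_right]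
  ring

/-- The reflection in an anisotropic vector is an isometry. -/
theorem h48_sfo_refl {F : Type*} [Field F] {n : ℕ}
    (Q : (Fin n → F) → F) (hQ : IsNondegenerateQuadraticForm Q) (u : Fin n → F)
    (hu : Q u ≠ 0) :
    ∃ g ∈ sfoIsom Q, ∀ x, (g : Matrix (Fin n) (Fin n) F) *ᵥ x =
      x - (QuadraticMap.polar Q x u / Q u) • u := by
  classical
  have hB := hQ.polar_bilinear
  let φ : (Fin n → F) →ₗ[F] F :=
    { toFun := fun x => QuadraticMap.polar Q x u
      map_add' := fun x y => hB.add_left x y u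
      map_smul' := fun c x => by
        simp only [RingHom.id_apply, smul_eq_mul]
        exact hB.smul_left c x u }
  let f : (Fin n → F) →ₗ[F] (Fin n → F) := LinearMap.id - (Q u)⁻¹ • (φ.smulRight u)
  have hf : ∀ x, f x = x - (QuadraticMap.polar Q x u / Q u) • u := by
    intro x
    simp only [f, φ, LinearMap.sub_apply, LinearMap.id_apply, LinearMap.smul_apply,
      LinearMap.smulRight_apply, LinearMap.coe_mk, AddHom.coe_mk]
    rw [smul_smul, div_eq_inv_mul]
  have hff : ∀ x, f (f x) = x := by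
    intro x
    rw [hf (f x), hf x]
    have h1 : QuadraticMap.polar Q (x - (QuadraticMap.polar Q x u / Q u) • u) u =
        - QuadraticMap.polar Q x u := by
      have : x - (QuadraticMap.polar Q x u / Q u) • u =
          x + (-(QuadraticMap.polar Q x u / Q u)) • u := by rw [neg_smul, sub_eq_add_neg]
      rw [this, hB.add_left, hB.smul_left, h48_sfo_polar_self Q hQ]
      field_simp
      ring
    rw [h1, neg_div, neg_smul]
    abel
  have hQf : ∀ x, Q (f x) = Q x := by
    intro x
    rw [hf, h48_sfo_sub_smul Q hQ]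
    field_simp
    ring
  have hM : ∀ x, (LinearMap.toMatrix' f) *ᵥ x = f x := by
    intro x
    rw [← Matrix.toLin'_apply, Matrix.toLin'_toMatrix']
  have hMM : LinearMap.toMatrix' f * LinearMap.toMatrix' f = 1 := by
    rw [← LinearMap.toMatrix'_comp]
    have : f ∘ₗ f = LinearMap.id := by
      apply LinearMap.ext
      intro x
      rw [LinearMap.comp_apply, LinearMap.id_apply]
      exact hff x
    rw [this, LinearMap.toMatrix'_id]
  refine ⟨⟨LinearMap.toMatrix' f, LinearMap.toMatrix' f, hMM, hMM⟩, ?_, ?_⟩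
  · intro x
    show Q ((LinearMap.toMatrix' f) *ᵥ x) = Q x
    rw [hM, hQf]
  · intro x
    show (LinearMap.toMatrix' f) *ᵥ x = _
    rw [hM, hf]

/-- OTRANS (racing copy): the isometry group is transitive on the anisotropic vectors of a
given norm. -/
theorem h48_sfo_isom_transitive {F : Type*} [Field F] {n : ℕ} (h2 : (2 : F) ≠ 0)
    (Q : (Fin n → F) → F) (hQ : IsNondegenerateQuadraticForm Q) (v w : Fin n → F)
    (hvw : Q v = Q w) (hv : Q v ≠ 0) :
    ∃ g ∈ sfoIsom Q, (g : Matrix (Fin n) (Fin n) F) *ᵥ v = w := by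
  have hB := hQ.polar_bilinear
  have hsub : Q (v - w) = 2 * Q v - QuadraticMap.polar Q v w := by
    have := h48_sfo_sub_smul Q hQ v w 1
    rw [one_smul] at this
    rw [this, ← hvw]
    ring
  by_cases h0 : Q (v - w) = 0
  · have hBvw : QuadraticMap.polar Q v w = 2 * Q v := by
      rw [hsub] at h0
      linear_combination -h0
    have hadd : Q (v + w) = 4 * Q v := by
      rw [h48_sfo_add Q, hBvw, ← hvw]
      ring
    have h4 : (4 : F) ≠ 0 := by
      have : (4 : F) = 2 * 2 := by norm_num
      rw [this]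
      exact mul_ne_zero h2 h2
    have hadd0 : Q (v + w) ≠ 0 := by
      rw [hadd]
      exact mul_ne_zero h4 hv
    obtain ⟨g₁, hg₁, hg₁x⟩ := h48_sfo_refl Q hQ (v + w) hadd0
    obtain ⟨g₂, hg₂, hg₂x⟩ := h48_sfo_refl Q hQ w (by rw [← hvw]; exact hv)
    refine ⟨g₂ * g₁, (sfoIsom Q).mul_mem hg₂ hg₁, ?_⟩
    rw [Units.val_mul, ← Matrix.mulVec_mulVec, hg₁x]
    have e1 : QuadraticMap.polar Q v (v + w) / Q (v + w) = 1 := by
      rw [hB.add_right, h48_sfo_polar_self Q hQ, hBvw, hadd]
      have : 2 * Q v + 2 * Q v = 4 * Q v := by ring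
      rw [this]
      exact div_self (mul_ne_zero h4 hv)
    rw [e1, one_smul]
    have e2 : v - (v + w) = (-1 : F) • w := by
      rw [neg_smul, one_smul]
      abel
    rw [e2, hg₂x, hB.smul_left, h48_sfo_polar_self Q hQ]
    have e3 : (-1 : F) * (2 * Q w) / Q w = -2 := by
      have hw0 : Q w ≠ 0 := by rw [← hvw]; exact hv
      field_simp
    rw [e3]
    ext i
    simp only [Pi.sub_apply, Pi.smul_apply, smul_eq_mul]
    ring
  · obtain ⟨g, hg, hgx⟩ := h48_sfo_refl Q hQ (v - w) h0
    refine ⟨g, hg, ?_⟩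
    rw [hgx]
    have e1 : QuadraticMap.polar Q v (v - w) / Q (v - w) = 1 := by
      have : v - w = v + (-1 : F) • w := by rw [neg_smul, one_smul, sub_eq_add_neg]
      have hp : QuadraticMap.polar Q v (v - w) = Q (v - w) := by
        rw [hsub, this, hB.add_right, hB.smul_right, h48_sfo_polar_self Q hQ]
        ring
      rw [hp]
      exact div_self h0
    rw [e1, one_smul]
    abel

end Cfsg.Agent.Lib.helper24
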