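import Mathlib
import Cfsg.Agent.Lib.helper24.SfoDefs
import Cfsg.Agent.Lib.helper48.SfoOTRANS

set_option autoImplicit false

namespace Cfsg.Agent.Lib.helper24

open Module Matrix Cfsg.Geo

theorem h48_sfo_polar_zero_right {F : Type*} [Field F] {n : ℕ} (Q : (Fin n → F) → F)
    (hQ : IsNondegenerateQuadraticForm Q) (x : Fin n → F) : QuadraticMap.polar Q x 0 = 0 := by
  have h := hQ.polar_bilinear.smul_right 0 x 0
  rw [zero_smul, zero_mul] at h
  exact h

theorem h48_sfo_zero {F : Type*} [Field F] {n : ℕ} (Q : (Fin n → F) → F)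
    (hQ : IsNondegenerateQuadraticForm Q) : Q 0 = 0 := by
  have h := hQ.smul 0 0
  rw [zero_smul] at h
  rw [h]
  ring

/-- A linear map preserving a nondegenerate quadratic form preserves its polar form. -/
theorem h48_sfo_polar_map {F : Type*} [Field F] {n k : ℕ} (Q : (Fin n → F) → F)
    (Q' : (Fin k → F) → F)
    (φ : (Fin k → F) →ₗ[F] (Fin n → F)) (hφ : ∀ x, Q (φ x) = Q' x) (x y : Fin k → F) :
    QuadraticMap.polar Q (φ x) (φ y) = QuadraticMap.polar Q' x y := by
  unfold QuadraticMap.polar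
  rw [← map_add, hφ, hφ, hφ]

/-- The isometry group, counted through linear maps (no invertibility needed). -/
theorem h48_sfo_card_lin {F : Type*} [Field F] {n : ℕ} (Q : (Fin n → F) → F)
    (hQ : IsNondegenerateQuadraticForm Q) (P : ((Fin n → F) →ₗ[F] (Fin n → F)) → Prop) :
    Nat.card {g : GL (Fin n) F // g ∈ sfoIsom Q ∧
        P (Matrix.toLin' (g : Matrix (Fin n) (Fin n) F))} =
      Nat.card {φ : (Fin n → F) →ₗ[F] (Fin n → F) // (∀ x, Q (φ x) = Q x) ∧ P φ} := by
  classical
  refine Nat.card_congr (Equiv.ofBijective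
    (fun g => ⟨Matrix.toLin' (g.1 : Matrix (Fin n) (Fin n) F), ⟨fun x => by
      rw [Matrix.toLin'_apply]
      exact g.2.1 x, g.2.2⟩⟩) ⟨?_, ?_⟩)
  · intro g g' h
    have h1 := congrArg Subtype.val h
    simp only at h1
    apply Subtype.ext
    apply Units.ext
    exact Matrix.toLin'.injective h1
  · rintro ⟨φ, hφ, hP⟩
    have hdet : (LinearMap.toMatrix' φ).det ≠ 0 := by
      intro h0
      obtain ⟨x, hx0, hx⟩ := Matrix.exists_mulVec_eq_zero_iff.mpr h0
      have hφx : φ x = 0 := by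
        rw [← hx, ← Matrix.toLin'_apply, Matrix.toLin'_toMatrix']
      obtain ⟨⟨y, hy⟩, -⟩ := hQ.nondegenerate x hx0
      apply hy
      rw [← h48_sfo_polar_map Q Q φ hφ, hφx]
      exact h48_sfo_polar_zero_right Q hQ _
    refine ⟨⟨Matrix.GeneralLinearGroup.mkOfDetNeZero (LinearMap.toMatrix' φ) hdet, ?_, ?_⟩, ?_⟩
    · intro x
      show Q ((LinearMap.toMatrix' φ) *ᵥ x) = Q x
      rw [← Matrix.toLin'_apply, Matrix.toLin'_toMatrix']
      exact hφ x
    · show P (Matrix.toLin' (LinearMap.toMatrix' φ))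
      rw [Matrix.toLin'_toMatrix']
      exact hP
    · apply Subtype.ext
      show Matrix.toLin' (LinearMap.toMatrix' φ) = φ
      rw [Matrix.toLin'_toMatrix']

/-- Splitting `F^(m+1)` as the orthogonal complement of an anisotropic vector plus its span. -/
theorem h48_sfo_decomp {F : Type*} [Field F] {m : ℕ} (h2 : (2 : F) ≠ 0)
    (Q : (Fin (m + 1) → F) → F) (hQ : IsNondegenerateQuadraticForm Q) (v : Fin (m + 1) → F)
    (hv : Q v ≠ 0) :
    ∃ (ι : (Fin m → F) →ₗ[F] (Fin (m + 1) → F)) (π : (Fin (m + 1) → F) →ₗ[F] (Fin m → F))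
      (τ : (Fin (m + 1) → F) →ₗ[F] F),
      (∀ y, π (ι y) = y) ∧ (∀ y, τ (ι y) = 0) ∧ π v = 0 ∧ τ v = 1 ∧
      (∀ x, ι (π x) + τ x • v = x) ∧
      (∀ x, τ x = QuadraticMap.polar Q x v / (2 * Q v)) := by
  classical
  have hB := hQ.polar_bilinear
  have h2v : 2 * Q v ≠ 0 := mul_ne_zero h2 hv
  let φ : (Fin (m + 1) → F) →ₗ[F] F :=
    { toFun := fun x => QuadraticMap.polar Q x v
      map_add' := fun x y => hB.add_left x y v
      map_smul' := fun c x => by
        simp only [RingHom.id_apply, smul_eq_mul]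
        exact hB.smul_left c x v }
  let τ : (Fin (m + 1) → F) →ₗ[F] F := (2 * Q v)⁻¹ • φ
  have hτ : ∀ x, τ x = QuadraticMap.polar Q x v / (2 * Q v) := by
    intro x
    simp only [τ, φ, LinearMap.smul_apply, LinearMap.coe_mk, AddHom.coe_mk, smul_eq_mul]
    rw [div_eq_inv_mul]
  have hτv : τ v = 1 := by
    rw [hτ, h48_sfo_polar_self Q hQ]
    exact div_self h2v
  have hτ0 : τ ≠ 0 := by
    intro h
    rw [h] at hτv
    simp at hτv
  have hfin : finrank F (LinearMap.ker τ) = m := by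
    have h1 := Module.Dual.finrank_ker_add_one_of_ne_zero hτ0
    rw [Module.finrank_pi, Fintype.card_fin] at h1
    omega
  let bW : Basis (Fin m) F (LinearMap.ker τ) := Module.finBasisOfFinrankEq F _ hfin
  let ι : (Fin m → F) →ₗ[F] (Fin (m + 1) → F) :=
    (LinearMap.ker τ).subtype ∘ₗ bW.equivFun.symm.toLinearMap
  let p : (Fin (m + 1) → F) →ₗ[F] (LinearMap.ker τ) :=
    LinearMap.codRestrict (LinearMap.ker τ) (LinearMap.id - τ.smulRight v) (fun x => by
      rw [LinearMap.mem_ker]
      simp only [LinearMap.sub_apply, LinearMap.id_apply, LinearMap.smulRight_apply, map_sub,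
        map_smul, smul_eq_mul, hτv]
      ring)
  have hp : ∀ x, ((p x : LinearMap.ker τ) : Fin (m + 1) → F) = x - τ x • v := by
    intro x
    rfl
  let π : (Fin (m + 1) → F) →ₗ[F] (Fin m → F) := bW.equivFun.toLinearMap ∘ₗ p
  refine ⟨ι, π, τ, ?_, ?_, ?_, hτv, ?_, hτ⟩
  · intro y
    show bW.equivFun (p ((bW.equivFun.symm y : LinearMap.ker τ) : Fin (m + 1) → F)) = y
    have : p ((bW.equivFun.symm y : LinearMap.ker τ) : Fin (m + 1) → F) = bW.equivFun.symm y := by
      apply Subtype.ext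
      rw [hp]
      have := (bW.equivFun.symm y).2
      rw [LinearMap.mem_ker] at this
      rw [this, zero_smul, sub_zero]
    rw [this, LinearEquiv.apply_symm_apply]
  · intro y
    have := (bW.equivFun.symm y).2
    rw [LinearMap.mem_ker] at this
    exact this
  · show bW.equivFun (p v) = 0
    have : p v = 0 := by
      apply Subtype.ext
      rw [hp, hτv, one_smul, sub_self]
      rfl
    rw [this, map_zero]
  · intro x
    show ((bW.equivFun.symm (bW.equivFun (p x)) : LinearMap.ker τ) : Fin (m + 1) → F) +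
      τ x • v = x
    rw [LinearEquiv.symm_apply_apply, hp]
    abel

/-- OSTAB (racing copy): the stabiliser of an anisotropic vector in the isometry group is the
isometry group of a nondegenerate form in one dimension less. -/
theorem h48_sfo_isom_stab {F : Type*} [Field F] [Fintype F] {m : ℕ} (h2 : (2 : F) ≠ 0)
    (Q : (Fin (m + 1) → F) → F) (hQ : IsNondegenerateQuadraticForm Q) (v : Fin (m + 1) → F)
    (hv : Q v ≠ 0) :
    ∃ Q' : (Fin m → F) → F, IsNondegenerateQuadraticForm Q' ∧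
      Nat.card {g : GL (Fin (m + 1)) F // g ∈ sfoIsom Q ∧
        (g : Matrix (Fin (m + 1)) (Fin (m + 1)) F) *ᵥ v = v} = Nat.card (sfoIsom Q') := by
  classical
  have hB := hQ.polar_bilinear
  have h2v : 2 * Q v ≠ 0 := mul_ne_zero h2 hv
  obtain ⟨ι, π, τ, hπι, hτι, hπv, hτv, hdec, hτ⟩ := h48_sfo_decomp h2 Q hQ v hv
  have hιv : ∀ y, QuadraticMap.polar Q (ι y) v = 0 := by
    intro y
    have := hτι y
    rw [hτ, div_eq_zero_iff] at this
    rcases this with h | h
    · exact h
    · exact absurd h h2v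
  have hιπ : ∀ x, ι (π x) = x - τ x • v := by
    intro x
    have := hdec x
    rw [eq_sub_iff_add_eq]
    exact this
  -- the form on the complement
  have hQsum : ∀ (y : Fin m → F) (t : F), Q (ι y + t • v) = Q (ι y) + t ^ 2 * Q v := by
    intro y t
    rw [h48_sfo_add Q, hQ.smul, hB.smul_right, hιv]
    ring
  have hQ' : IsNondegenerateQuadraticForm (fun y : Fin m → F => Q (ι y)) := by
    have hpol : ∀ y y' : Fin m → F, QuadraticMap.polar (fun y : Fin m → F => Q (ι y)) y y' =
        QuadraticMap.polar Q (ι y) (ι y') := by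
      intro y y'
      unfold QuadraticMap.polar
      simp only [map_add]
    refine ⟨?_, ⟨?_, ?_, ?_, ?_⟩, ?_⟩
    · intro c y
      simp only [map_smul]
      exact hQ.smul c _
    · intro x y z
      rw [hpol, hpol, hpol, map_add]
      exact hB.add_left _ _ _
    · intro c x z
      rw [hpol, hpol, map_smul]
      exact hB.smul_left _ _ _
    · intro z x y
      rw [hpol, hpol, hpol, map_add]
      exact hB.add_right _ _ _
    · intro c z x
      rw [hpol, hpol, map_smul]
      exact hB.smul_right _ _ _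
    · intro y hy
      have hιy : ι y ≠ 0 := by
        intro h0
        apply hy
        have := hπι y
        rw [h0, map_zero] at this
        exact this.symm
      obtain ⟨⟨x, hx⟩, -⟩ := hQ.nondegenerate (ι y) hιy
      have hx' : QuadraticMap.polar Q (ι (π x)) (ι y) ≠ 0 := by
        intro h0
        apply hx
        have e : x = ι (π x) + τ x • v := (hdec x).symm
        rw [e, hB.add_left, hB.smul_left, h0, QuadraticMap.polar_comm, hιv]
        ring
      constructor
      · exact ⟨π x, by rw [hpol]; exact hx'⟩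
      · exact ⟨π x, by rw [hpol, QuadraticMap.polar_comm]; exact hx'⟩
  refine ⟨fun y => Q (ι y), hQ', ?_⟩
  -- both sides through linear maps
  have e1 := h48_sfo_card_lin Q hQ (fun φ => φ v = v)
  have e1' : Nat.card {g : GL (Fin (m + 1)) F // g ∈ sfoIsom Q ∧
        (g : Matrix (Fin (m + 1)) (Fin (m + 1)) F) *ᵥ v = v} =
      Nat.card {g : GL (Fin (m + 1)) F // g ∈ sfoIsom Q ∧
        (Matrix.toLin' (g : Matrix (Fin (m + 1)) (Fin (m + 1)) F)) v = v} := by
    refine Nat.card_congr (Equiv.subtypeEquivRight (fun g => ?_))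
    rw [Matrix.toLin'_apply]
  have e2 := h48_sfo_card_lin (fun y : Fin m → F => Q (ι y)) hQ' (fun _ => True)
  have e2' : Nat.card (sfoIsom (fun y : Fin m → F => Q (ι y))) =
      Nat.card {g : GL (Fin m) F // g ∈ sfoIsom (fun y : Fin m → F => Q (ι y)) ∧ True} := by
    refine Nat.card_congr (Equiv.subtypeEquivRight (fun g => ?_))
    simp
  rw [e1', e1, e2', e2]
  -- the bijection
  have hτφ : ∀ (φ : (Fin (m + 1) → F) →ₗ[F] (Fin (m + 1) → F)), (∀ x, Q (φ x) = Q x) →
      φ v = v → ∀ y, τ (φ (ι y)) = 0 := by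
    intro φ hφ hφv y
    rw [hτ]
    have := h48_sfo_polar_map Q Q φ hφ (ι y) v
    rw [hφv] at this
    rw [this, hιv, zero_div]
  refine Nat.card_congr
    { toFun := fun φ => ⟨π ∘ₗ φ.1 ∘ₗ ι, ⟨fun y => ?_, trivial⟩⟩
      invFun := fun ψ => ⟨ι ∘ₗ ψ.1 ∘ₗ π + τ.smulRight v, ⟨fun x => ?_, ?_⟩⟩
      left_inv := ?_
      right_inv := ?_ }
  · show Q (ι (π (φ.1 (ι y)))) = Q (ι y)
    rw [hιπ, hτφ φ.1 φ.2.1 φ.2.2, zero_smul, sub_zero]
    exact φ.2.1 _
  · show Q (ι (ψ.1 (π x)) + τ x • v) = Q x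
    rw [hQsum]
    have h1 : Q (ι (ψ.1 (π x))) = Q (ι (π x)) := ψ.2.1 (π x)
    rw [h1, ← hQsum, hdec]
  · show ι (ψ.1 (π v)) + τ v • v = v
    rw [hπv, map_zero, map_zero, hτv, one_smul, zero_add]
  · rintro ⟨φ, hφ, hφv⟩
    apply Subtype.ext
    apply LinearMap.ext
    intro x
    show ι (π (φ (ι (π x)))) + τ x • v = φ x
    rw [hιπ (φ (ι (π x))), hτφ φ hφ hφv, zero_smul, sub_zero, hιπ, map_sub, map_smul, hφv]
    abel
  · rintro ⟨ψ, hψ, -⟩
    apply Subtype.ext
    apply LinearMap.ext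
    intro y
    show π (ι (ψ (π (ι y))) + τ (ι y) • v) = ψ y
    rw [hτι, zero_smul, add_zero, hπι, hπι]

end Cfsg.Agent.Lib.helper24
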