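import Cfsg.Agent.Lib.helper7.SixDefs
import Cfsg.Agent.S0253
import Cfsg.Agent.S2119
import Cfsg.Agent.Lib.helper44.ClassicalEmb

/-!
# S4291 piece N1: the action of `G` on `S ⧸ Z(S) ≃* A5` for a normal `S ≃* SL(2,5)`

`sl25_aut_hom`: a hom `Φ : G →* Perm (Fin 5)` with kernel `C_G(S)` and `S.map Φ = A5` (60 elements).
-/

set_option autoImplicit false

namespace Cfsg.Agent.Lib.helper48

open Cfsg.Agent.Lib.helper7.Six

namespace SixN1

open scoped commutatorElement

/-- the automorphism of `S ⧸ center S` induced by an automorphism of `S` -/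
noncomputable def autQuot (S : Type*) [Group S] : MulAut S →* MulAut (S ⧸ Subgroup.center S) where
  toFun φ := QuotientGroup.congr (Subgroup.center S) (Subgroup.center S) φ
    (Subgroup.characteristic_iff_map_eq.mp inferInstance φ)
  map_one' := by
    ext x
    induction x using QuotientGroup.induction_on with
    | H x => rfl
  map_mul' φ ψ := by
    ext x
    induction x using QuotientGroup.induction_on with
    | H x => rfl

theorem autQuot_mk (S : Type*) [Group S] (φ : MulAut S) (x : S) :
    autQuot S φ (QuotientGroup.mk x) = QuotientGroup.mk (φ x) := rfl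

theorem autQuot_conj (S : Type*) [Group S] (s : S) :
    autQuot S (MulAut.conj s) = MulAut.conj (QuotientGroup.mk s) := by
  ext x
  induction x using QuotientGroup.induction_on with
  | H x => rw [autQuot_mk]; simp

/-- an automorphism of a perfect group that is trivial modulo the centre is trivial -/
theorem eq_one_of_autQuot_eq_one (S : Type*) [Group S] (hS : _root_.commutator S = ⊤)
    (φ : MulAut S) (h : autQuot S φ = 1) : φ = 1 := by
  have hz : ∀ s : S, s⁻¹ * φ s ∈ Subgroup.center S := by
    intro s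
    have h1 := autQuot_mk S φ s
    rw [h] at h1
    simp only [MulAut.one_apply] at h1
    exact QuotientGroup.eq.mp h1
  have hfix : ∀ s t : S, φ ⁅s, t⁆ = ⁅s, t⁆ := by
    intro s t
    have hs := hz s
    have ht := hz t
    rw [Subgroup.mem_center_iff] at hs ht
    have e1 : φ s = s * (s⁻¹ * φ s) := by group
    have e2 : φ t = t * (t⁻¹ * φ t) := by group
    set a := s⁻¹ * φ s with ha
    set b := t⁻¹ * φ t with hb
    rw [commutatorElement_def, map_mul, map_mul, map_mul, map_inv, map_inv, e1, e2]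
    calc s * a * (t * b) * (s * a)⁻¹ * (t * b)⁻¹
        = s * (a * (t * b)) * a⁻¹ * s⁻¹ * (b⁻¹ * t⁻¹) := by group
      _ = s * ((t * b) * a) * a⁻¹ * s⁻¹ * (b⁻¹ * t⁻¹) := by rw [hs (t * b)]
      _ = s * t * (b * s⁻¹) * b⁻¹ * t⁻¹ := by group
      _ = s * t * (s⁻¹ * b) * b⁻¹ * t⁻¹ := by rw [ht s⁻¹]
      _ = s * t * s⁻¹ * t⁻¹ := by group
  have hcl : Subgroup.closure (commutatorSet S) = ⊤ := by
    rw [← commutator_eq_closure]; exact hS
  have : φ.toMonoidHom = MonoidHom.id S := by
    apply MonoidHom.eq_of_eqOn_dense hcl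
    rintro _ ⟨s, t, rfl⟩
    simpa using hfix s t
  ext s
  have := DFunLike.congr_fun this s
  simpa using this

/-- `SL(2,5)` is perfect, transported along an isomorphism -/
theorem perfect_of_equiv {S : Type*} [Group S]
    (e : S ≃* Matrix.SpecialLinearGroup (Fin 2) (ZMod 5)) : _root_.commutator S = ⊤ := by
  have : Fact (Nat.Prime 5) := ⟨by norm_num⟩
  have h := Cfsg.Agent.Lib.helper44.SL2_perfect (F := ZMod 5) (by rw [ZMod.card]; norm_num)
  rw [commutator_def] at h ⊢
  have h2 := congrArg (Subgroup.map e.symm.toMonoidHom) h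
  rw [Subgroup.map_commutator, Subgroup.map_top_of_surjective _ e.symm.surjective] at h2
  exact h2

/-- the isomorphism `S ⧸ Z(S) ≃* A5` -/
theorem exists_iota {S : Type*} [Group S]
    (e : S ≃* Matrix.SpecialLinearGroup (Fin 2) (ZMod 5)) :
    Nonempty (S ⧸ Subgroup.center S ≃* alternatingGroup (Fin 5)) := by
  have : Fact (Nat.Prime 5) := ⟨by norm_num⟩
  obtain ⟨j⟩ := Cfsg.Agent.S0253.result (F := ZMod 5) (ZMod.card 5)
  have he : (Subgroup.center S).map e.toMonoidHom =
      Subgroup.center (Matrix.SpecialLinearGroup (Fin 2) (ZMod 5)) := by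
    ext x
    simp only [Subgroup.mem_map, Subgroup.mem_center_iff]
    constructor
    · rintro ⟨z, hz, rfl⟩ g
      obtain ⟨g', rfl⟩ := e.surjective g
      change e g' * e z = e z * e g'
      rw [← map_mul, ← map_mul, hz g']
    · intro hx
      refine ⟨e.symm x, fun g => ?_, by simp⟩
      apply e.injective
      rw [map_mul, map_mul, e.apply_symm_apply]
      exact hx (e g)
  exact ⟨(QuotientGroup.congr _ _ e he).trans j⟩

theorem congr_conj {A B : Type*} [Group A] [Group B] (ι : A ≃* B) (y : A) :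
    MulAut.congr ι (MulAut.conj y) = MulAut.conj (ι y) := by
  ext a
  simp [MulAut.congr]

theorem card_alt5 : Nat.card (alternatingGroup (Fin 5)) = 60 := by
  have h := two_mul_card_alternatingGroup (α := Fin 5)
  rw [Fintype.card_perm, Fintype.card_fin] at h
  rw [Nat.card_eq_fintype_card]
  have : Nat.factorial 5 = 120 := by decide
  omega

end SixN1

-- PIECE N1
theorem sl25_aut_hom {G : Type*} [Group G] [Finite G] (S : Subgroup G) (hSn : S.Normal)
    (e : S ≃* Matrix.SpecialLinearGroup (Fin 2) (ZMod 5)) :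
    ∃ Φ : G →* Equiv.Perm (Fin 5), Φ.ker = Subgroup.centralizer (S : Set G) ∧
      Nat.card (S.map Φ) = 60 := by
  obtain ⟨ι⟩ := SixN1.exists_iota e
  have hperf := SixN1.perfect_of_equiv e
  let τ : Equiv.Perm (Fin 5) ≃* MulAut (alternatingGroup (Fin 5)) :=
    MulEquiv.ofBijective MulAut.conjNormal (Cfsg.Agent.S2119.result 5 (by norm_num) (by norm_num))
  have hτ : ∀ a : alternatingGroup (Fin 5), τ.symm (MulAut.conj a) = (a : Equiv.Perm (Fin 5)) := by
    intro a
    rw [MulEquiv.symm_apply_eq]
    exact MulAut.conjNormal_val.symm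
  let Φ₀ : G →* MulAut (S ⧸ Subgroup.center S) := (SixN1.autQuot S).comp MulAut.conjNormal
  let Φ : G →* Equiv.Perm (Fin 5) :=
    τ.symm.toMonoidHom.comp ((MulAut.congr ι).toMonoidHom.comp Φ₀)
  have hΦS : ∀ s : S, Φ (s : G) = (ι (QuotientGroup.mk s) : Equiv.Perm (Fin 5)) := by
    intro s
    change τ.symm (MulAut.congr ι (SixN1.autQuot S (MulAut.conjNormal (s : G)))) = _
    rw [MulAut.conjNormal_val, SixN1.autQuot_conj, SixN1.congr_conj, hτ]
  refine ⟨Φ, ?_, ?_⟩
  · ext g
    rw [MonoidHom.mem_ker, Subgroup.mem_centralizer_iff]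
    have h1 : Φ g = 1 ↔ Φ₀ g = 1 := by
      change τ.symm (MulAut.congr ι (Φ₀ g)) = 1 ↔ _
      rw [MulEquiv.map_eq_one_iff, MulEquiv.map_eq_one_iff]
    rw [h1]
    constructor
    · intro h s hs
      have h2 := SixN1.eq_one_of_autQuot_eq_one S hperf (MulAut.conjNormal g) h
      have h3 := DFunLike.congr_fun h2 ⟨s, hs⟩
      have h4 := congrArg Subtype.val h3
      rw [MulAut.conjNormal_apply] at h4
      simp only [MulAut.one_apply] at h4
      calc s * g = (g * s * g⁻¹) * g := by rw [h4]
        _ = g * s := by group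
    · intro h
      have : (MulAut.conjNormal g : MulAut S) = 1 := by
        ext s
        rw [MulAut.conjNormal_apply]
        simp only [MulAut.one_apply]
        rw [← h s s.2]; group
      change SixN1.autQuot S (MulAut.conjNormal g) = 1
      rw [this, map_one]
  · have hS : S.map Φ = alternatingGroup (Fin 5) := by
      ext σ
      constructor
      · rintro ⟨s, hs, rfl⟩
        rw [hΦS ⟨s, hs⟩]
        exact (ι _).2
      · intro hσ
        obtain ⟨x, hx⟩ := ι.surjective ⟨σ, hσ⟩
        obtain ⟨s, rfl⟩ := QuotientGroup.mk_surjective x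
        refine ⟨s, s.2, ?_⟩
        rw [hΦS s, hx]
    rw [hS]
    exact SixN1.card_alt5

end Cfsg.Agent.Lib.helper48

namespace Cfsg.Agent.Lib.helper48
open Cfsg.Agent.Lib.helper7.Six
example {G : Type*} [Group G] [Finite G] (S : Subgroup G) (hSn : S.Normal)
    (e : S ≃* Matrix.SpecialLinearGroup (Fin 2) (ZMod 5)) :
    ∃ Φ : G →* Equiv.Perm (Fin 5), Φ.ker = Subgroup.centralizer (S : Set G) ∧
      Nat.card (S.map Φ) = 60 := sl25_aut_hom S hSn e
end Cfsg.Agent.Lib.helper48
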