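import Mathlib
import Cfsg.Prelude.Def_GeometricClasses
import Cfsg.Agent.Lib.helper17.SympBasis
import Cfsg.Agent.Lib.helper95.SpUnit6

/-!
Elements `x` of `Sp_{2m}(F)` (odd characteristic, `F` finite) with `x²` scalar are conjugate in `Sp`
into the normalizer of any subalgebra `K = F[κ]` of unitary type (`κ` skew-adjoint, `κ² = δ` a non-square).
Tools: adapted hyperbolic frames built by one induction inside `F^(2m)`, and Witt's lemma.
-/

set_option autoImplicit false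

namespace Cfsg.Agent.Lib.helper48.SpUnitInv

open Matrix Cfsg Cfsg.Geo Cfsg.Agent.Lib.helper17 Cfsg.Agent.Lib.helper95 Module

section
variable {F : Type*} [Field F] {m : ℕ}

/-- `k` hyperbolic pairs. -/
structure HypFam {k : ℕ} (e f : Fin k → (Fin m ⊕ Fin m → F)) : Prop where
  ee : ∀ a b, sympForm m F (e a) (e b) = 0
  ff : ∀ a b, sympForm m F (f a) (f b) = 0
  ef : ∀ a b, sympForm m F (e a) (f b) = if a = b then 1 else 0

theorem HypFam.fe {k : ℕ} {e f : Fin k → (Fin m ⊕ Fin m → F)} (h : HypFam e f) (a b : Fin k) :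
    sympForm m F (f a) (e b) = - (if b = a then 1 else 0) := by
  rw [sympForm_swap, h.ef]

/-- Membership in the orthogonal complement of a family of pairs. -/
def InC {k : ℕ} (e f : Fin k → (Fin m ⊕ Fin m → F)) (v : Fin m ⊕ Fin m → F) : Prop :=
  ∀ a, sympForm m F v (e a) = 0 ∧ sympForm m F v (f a) = 0

theorem InC.add {k : ℕ} {e f : Fin k → (Fin m ⊕ Fin m → F)} {v w : Fin m ⊕ Fin m → F}
    (hv : InC e f v) (hw : InC e f w) : InC e f (v + w) := by
  intro a
  rw [sympForm_add_left, sympForm_add_left, (hv a).1, (hv a).2, (hw a).1, (hw a).2, add_zero]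
  exact ⟨rfl, rfl⟩

theorem InC.smul {k : ℕ} {e f : Fin k → (Fin m ⊕ Fin m → F)} {v : Fin m ⊕ Fin m → F}
    (hv : InC e f v) (c : F) : InC e f (c • v) := by
  intro a
  rw [sympForm_smul_left, sympForm_smul_left, (hv a).1, (hv a).2, mul_zero]
  exact ⟨rfl, rfl⟩

theorem InC.sub {k : ℕ} {e f : Fin k → (Fin m ⊕ Fin m → F)} {v w : Fin m ⊕ Fin m → F}
    (hv : InC e f v) (hw : InC e f w) : InC e f (v - w) := by
  intro a
  rw [sympForm_sub_left, sympForm_sub_left, (hv a).1, (hv a).2, (hw a).1, (hw a).2, sub_zero]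
  exact ⟨rfl, rfl⟩

/-- Projection onto the orthogonal complement of a family of hyperbolic pairs. -/
noncomputable def proj {k : ℕ} (e f : Fin k → (Fin m ⊕ Fin m → F)) (v : Fin m ⊕ Fin m → F) :
    Fin m ⊕ Fin m → F :=
  v - ∑ a, (sympForm m F v (f a) • e a - sympForm m F v (e a) • f a)

theorem sympForm_sum_left {ι : Type*} (s : Finset ι) (g : ι → (Fin m ⊕ Fin m → F))
    (v : Fin m ⊕ Fin m → F) : sympForm m F (∑ a ∈ s, g a) v = ∑ a ∈ s, sympForm m F (g a) v := by
  have h := map_sum (sympBilin m (F := F)) g s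
  have h2 := congrArg (fun L => L v) h
  simp only [LinearMap.sum_apply, sympBilin_apply] at h2
  exact h2

theorem sympForm_sum_right {ι : Type*} (s : Finset ι) (g : ι → (Fin m ⊕ Fin m → F))
    (v : Fin m ⊕ Fin m → F) : sympForm m F v (∑ a ∈ s, g a) = ∑ a ∈ s, sympForm m F v (g a) := by
  have h := map_sum (sympBilin m (F := F) v) g s
  simp only [sympBilin_apply] at h
  exact h

theorem HypFam.proj_inC {k : ℕ} {e f : Fin k → (Fin m ⊕ Fin m → F)} (h : HypFam e f)
    (v : Fin m ⊕ Fin m → F) : InC e f (proj e f v) := by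
  intro b
  unfold proj
  constructor
  · rw [sympForm_sub_left, sympForm_sum_left]
    have : ∀ a, sympForm m F (sympForm m F v (f a) • e a - sympForm m F v (e a) • f a) (e b)
        = (if b = a then sympForm m F v (e a) else 0) := by
      intro a
      rw [sympForm_sub_left, sympForm_smul_left, sympForm_smul_left, h.ee, h.fe]
      split_ifs <;> ring
    simp only [this]
    rw [Finset.sum_ite_eq Finset.univ b]
    simp
  · rw [sympForm_sub_left, sympForm_sum_left]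
    have : ∀ a, sympForm m F (sympForm m F v (f a) • e a - sympForm m F v (e a) • f a) (f b)
        = (if b = a then sympForm m F v (f a) else 0) := by
      intro a
      rw [sympForm_sub_left, sympForm_smul_left, sympForm_smul_left, h.ff, h.ef]
      by_cases hab : a = b
      · subst hab; simp
      · rw [if_neg hab, if_neg (fun hh => hab hh.symm)]; ring
    simp only [this]
    rw [Finset.sum_ite_eq Finset.univ b]
    simp

/-- A vector orthogonal to the family pairs with `proj v` as with `v`. -/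
theorem HypFam.form_proj {k : ℕ} {e f : Fin k → (Fin m ⊕ Fin m → F)} (_h : HypFam e f)
    {w : Fin m ⊕ Fin m → F} (hw : InC e f w) (v : Fin m ⊕ Fin m → F) :
    sympForm m F w (proj e f v) = sympForm m F w v := by
  unfold proj
  rw [sympForm_sub_right, sympForm_sum_right]
  have : ∀ a, sympForm m F w (sympForm m F v (f a) • e a - sympForm m F v (e a) • f a) = 0 := by
    intro a
    rw [sympForm_sub_right, sympForm_smul_right, sympForm_smul_right, (hw a).1, (hw a).2]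
    ring
  simp only [this, Finset.sum_const_zero, sub_zero]

/-- P3: a non-zero vector of the complement has a partner in the complement. -/
theorem HypFam.exists_partner {k : ℕ} {e f : Fin k → (Fin m ⊕ Fin m → F)} (h : HypFam e f)
    {w : Fin m ⊕ Fin m → F} (hw : InC e f w) (hw0 : w ≠ 0) :
    ∃ v, InC e f v ∧ sympForm m F w v = 1 := by
  obtain ⟨v₀, hv₀⟩ := exists_sympForm_ne_zero m w hw0
  refine ⟨(sympForm m F w v₀)⁻¹ • proj e f v₀, (h.proj_inC v₀).smul _, ?_⟩
  rw [sympForm_smul_right, h.form_proj hw, inv_mul_cancel₀ hv₀]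

/-- P2: fewer than `m` pairs leave a non-zero vector in the complement. -/
theorem HypFam.exists_inC {k : ℕ} {e f : Fin k → (Fin m ⊕ Fin m → F)} (h : HypFam e f)
    (hk : k < m) : ∃ w, InC e f w ∧ w ≠ 0 := by
  have hlt : finrank F (Submodule.span F (Set.range (Sum.elim e f))) < finrank F (Fin m ⊕ Fin m → F) := by
    have h1 := finrank_range_le_card (R := F) (Sum.elim e f)
    rw [Fintype.card_sum, Fintype.card_fin] at h1
    have h7 : Module.finrank F (Fin m ⊕ Fin m → F) = m + m := by simp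
    unfold Set.finrank at h1
    omega
  have hne : Submodule.span F (Set.range (Sum.elim e f)) ≠ ⊤ := by
    intro htop
    rw [htop, finrank_top] at hlt
    exact lt_irrefl _ hlt
  obtain ⟨v, hv⟩ : ∃ v, v ∉ Submodule.span F (Set.range (Sum.elim e f)) := by
    by_contra hcon
    push Not at hcon
    exact hne (Submodule.eq_top_iff'.mpr hcon)
  refine ⟨proj e f v, h.proj_inC v, ?_⟩
  intro h0
  apply hv
  unfold proj at h0
  rw [sub_eq_zero] at h0
  rw [h0]
  refine Submodule.sum_mem _ (fun a _ => Submodule.sub_mem _ (Submodule.smul_mem _ _ ?_)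
    (Submodule.smul_mem _ _ ?_))
  · exact Submodule.subset_span ⟨Sum.inl a, rfl⟩
  · exact Submodule.subset_span ⟨Sum.inr a, rfl⟩

/-- The inductive construction of adapted frames. -/
theorem exists_adapted (G : (Fin m ⊕ Fin m → F) → (Fin m ⊕ Fin m → F) → Prop)
    (step : ∀ (k : ℕ) (e f : Fin k → (Fin m ⊕ Fin m → F)), HypFam e f → (∀ a, G (e a) (f a)) →
      k < m → ∃ e₀ f₀, G e₀ f₀ ∧ sympForm m F e₀ f₀ = 1 ∧ InC e f e₀ ∧ InC e f f₀) :
    ∃ e f : Fin m → (Fin m ⊕ Fin m → F), HypFam e f ∧ ∀ a, G (e a) (f a) := by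
  have key : ∀ k, k ≤ m → ∃ e f : Fin k → (Fin m ⊕ Fin m → F), HypFam e f ∧ ∀ a, G (e a) (f a) := by
    intro k
    induction k with
    | zero =>
      intro _
      exact ⟨fun i => i.elim0, fun i => i.elim0,
        ⟨fun i => i.elim0, fun i => i.elim0, fun i => i.elim0⟩, fun i => i.elim0⟩
    | succ k ih =>
      intro hk
      obtain ⟨e, f, hef, hG⟩ := ih (by omega)
      obtain ⟨e₀, f₀, hG₀, h1, hCe, hCf⟩ := step k e f hef hG (by omega)
      refine ⟨Fin.cons e₀ e, Fin.cons f₀ f, ⟨?_, ?_, ?_⟩, ?_⟩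
      · intro a b
        refine Fin.cases ?_ (fun a' => ?_) a <;> refine Fin.cases ?_ (fun b' => ?_) b
        · simp only [Fin.cons_zero, sympForm_self]
        · simp only [Fin.cons_zero, Fin.cons_succ]
          exact (hCe b').1
        · simp only [Fin.cons_zero, Fin.cons_succ]
          rw [sympForm_swap, (hCe a').1, neg_zero]
        · simp only [Fin.cons_succ]
          exact hef.ee a' b'
      · intro a b
        refine Fin.cases ?_ (fun a' => ?_) a <;> refine Fin.cases ?_ (fun b' => ?_) b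
        · simp only [Fin.cons_zero, sympForm_self]
        · simp only [Fin.cons_zero, Fin.cons_succ]
          exact (hCf b').2
        · simp only [Fin.cons_zero, Fin.cons_succ]
          rw [sympForm_swap, (hCf a').2, neg_zero]
        · simp only [Fin.cons_succ]
          exact hef.ff a' b'
      · intro a b
        refine Fin.cases ?_ (fun a' => ?_) a <;> refine Fin.cases ?_ (fun b' => ?_) b
        · simp only [Fin.cons_zero, h1, if_true]
        · simp only [Fin.cons_zero, Fin.cons_succ]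
          rw [(hCe b').2, if_neg (Fin.succ_ne_zero b').symm]
        · simp only [Fin.cons_zero, Fin.cons_succ]
          rw [sympForm_swap, (hCf a').1, neg_zero, if_neg (Fin.succ_ne_zero a')]
        · simp only [Fin.cons_succ]
          rw [hef.ef a' b']
          simp only [Fin.succ_inj]
      · intro a
        refine Fin.cases ?_ (fun a' => ?_) a
        · simpa only [Fin.cons_zero] using hG₀
        · simpa only [Fin.cons_succ] using hG a'
  exact key m le_rfl

end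

section
variable {F : Type*} [Field F] {m : ℕ}

/-- The Gram matrix of a full family of hyperbolic pairs is the standard one. -/
theorem HypFam.gram {k : ℕ} {e f e' f' : Fin k → (Fin m ⊕ Fin m → F)} (h : HypFam e f)
    (h' : HypFam e' f') (i j : Fin k ⊕ Fin k) :
    sympForm m F (Sum.elim e f i) (Sum.elim e f j)
      = sympForm m F (Sum.elim e' f' i) (Sum.elim e' f' j) := by
  rcases i with a | a <;> rcases j with b | b
  · simp only [Sum.elim_inl]; rw [h.ee, h'.ee]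
  · simp only [Sum.elim_inl, Sum.elim_inr]; rw [h.ef, h'.ef]
  · simp only [Sum.elim_inl, Sum.elim_inr]; rw [h.fe, h'.fe]
  · simp only [Sum.elim_inr]; rw [h.ff, h'.ff]

theorem HypFam.linInd {k : ℕ} {e f : Fin k → (Fin m ⊕ Fin m → F)} (h : HypFam e f) :
    LinearIndependent F (Sum.elim e f) := by
  classical
  refine linearIndependent_of_dual m (Sum.elim e f) Sum.swap ?_ ?_
  · intro a
    rcases a with a | a
    · simp only [Sum.elim_inl, Sum.swap_inl, Sum.elim_inr]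
      rw [h.ef, if_pos rfl]; exact one_ne_zero
    · simp only [Sum.elim_inl, Sum.swap_inr, Sum.elim_inr]
      rw [h.fe, if_pos rfl]; exact neg_ne_zero.mpr one_ne_zero
  · intro a b hab
    rcases a with a | a <;> rcases b with b | b
    · simp only [Sum.elim_inl, Sum.swap_inl, Sum.elim_inr]
      rw [h.ef, if_neg (fun hh => hab (by rw [hh]))]
    · simp only [Sum.swap_inl, Sum.elim_inr]
      rw [h.ff]
    · simp only [Sum.elim_inl, Sum.swap_inr]
      rw [h.ee]
    · simp only [Sum.elim_inl, Sum.swap_inr, Sum.elim_inr]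
      rw [h.fe, if_neg (fun hh => hab (by rw [hh])), neg_zero]

/-- Two matrices agreeing on a full family of hyperbolic pairs are equal. -/
theorem HypFam.mat_ext {e f : Fin m → (Fin m ⊕ Fin m → F)} (h : HypFam e f)
    {M N : Matrix (Fin m ⊕ Fin m) (Fin m ⊕ Fin m) F}
    (he : ∀ a, M *ᵥ e a = N *ᵥ e a) (hf : ∀ a, M *ᵥ f a = N *ᵥ f a) : M = N := by
  have hspan : Submodule.span F (Set.range (Sum.elim e f)) = ⊤ := by
    apply h.linInd.span_eq_top_of_card_eq_finrank'
    simp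
  apply mat_ext_mulVec
  intro x
  have hx : x ∈ Submodule.span F (Set.range (Sum.elim e f)) := by rw [hspan]; trivial
  induction hx using Submodule.span_induction with
  | mem x hx =>
    obtain ⟨j, rfl⟩ := hx
    rcases j with j | j
    · exact he j
    · exact hf j
  | zero => rw [Matrix.mulVec_zero, Matrix.mulVec_zero]
  | add x y _ _ hx hy => rw [Matrix.mulVec_add, Matrix.mulVec_add, hx, hy]
  | smul a x _ hx => rw [Matrix.mulVec_smul, Matrix.mulVec_smul, hx]

/-- Witt's lemma for two full families of hyperbolic pairs. -/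
theorem HypFam.witt {e f e' f' : Fin m → (Fin m ⊕ Fin m → F)} (h : HypFam e f)
    (h' : HypFam e' f') :
    ∃ A : Matrix.symplecticGroup (Fin m) F,
      (∀ a, (A : Matrix (Fin m ⊕ Fin m) (Fin m ⊕ Fin m) F) *ᵥ e a = e' a) ∧
      (∀ a, (A : Matrix (Fin m ⊕ Fin m) (Fin m ⊕ Fin m) F) *ᵥ f a = f' a) := by
  obtain ⟨A, hA⟩ := sp_witt_family' m (Sum.elim e f) (Sum.elim e' f') h.linInd h'.linInd
    (fun i j => h.gram h' i j)
  exact ⟨A, fun a => hA (Sum.inl a), fun a => hA (Sum.inr a)⟩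

variable {κ : Matrix (Fin m ⊕ Fin m) (Fin m ⊕ Fin m) F} {δ : F}

/-- An orthonormal `F[κ]`-frame, written as hyperbolic pairs `(κ u, u)`. -/
theorem skewK_exists_frame [Finite F] (h : SkewK m κ δ) :
    ∃ e f : Fin m → (Fin m ⊕ Fin m → F), HypFam e f ∧
      ∀ a, κ *ᵥ f a = e a ∧ κ *ᵥ e a = δ • f a := by
  apply exists_adapted (fun e f => κ *ᵥ f = e ∧ κ *ᵥ e = δ • f)
  intro k e f hef hG hk
  have hstab : ∀ v, InC e f v → InC e f (κ *ᵥ v) := by
    intro v hv a
    constructor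
    · rw [h.skew, (hG a).2, sympForm_smul_right, (hv a).2, mul_zero, neg_zero]
    · rw [h.skew, (hG a).1, (hv a).1, neg_zero]
  obtain ⟨w, hwC, hw0⟩ := hef.exists_inC hk
  obtain ⟨u, huC, hu⟩ : ∃ u, InC e f u ∧ kq m κ u ≠ 0 := by
    by_contra hcon
    push Not at hcon
    obtain ⟨v, hvC, hv⟩ := hef.exists_partner hwC hw0
    have h1 := h.kq_add (κ *ᵥ w) v
    rw [hcon _ ((hstab w hwC).add hvC), hcon _ (hstab w hwC), hcon _ hvC, h.kk,
      sympForm_smul_left, hv] at h1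
    have h2 : 2 * δ = 0 := by linear_combination -h1
    rcases mul_eq_zero.mp h2 with h3 | h3
    · exact h.two h3
    · exact h.delta_ne h3
  obtain ⟨a, b, hab⟩ := h.exists_norm (kq m κ u)⁻¹
  have hu' : kq m κ (a • u + b • κ *ᵥ u) = 1 := by
    rw [h.kq_comb, hab, inv_mul_cancel₀ hu]
  have hC' : InC e f (a • u + b • κ *ᵥ u) := (huC.smul a).add ((hstab u huC).smul b)
  refine ⟨κ *ᵥ (a • u + b • κ *ᵥ u), a • u + b • κ *ᵥ u, ⟨rfl, h.kk _⟩, hu', hstab _ hC', hC'⟩

/-- Two skew-adjoint square roots of the same non-square are conjugate under `Sp`. -/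
theorem skewK_conj [Finite F] {κ' : Matrix (Fin m ⊕ Fin m) (Fin m ⊕ Fin m) F}
    (h : SkewK m κ δ) (h' : SkewK m κ' δ) :
    ∃ A : Matrix.symplecticGroup (Fin m) F,
      (A : Matrix (Fin m ⊕ Fin m) (Fin m ⊕ Fin m) F) * κ
        = κ' * (A : Matrix (Fin m ⊕ Fin m) (Fin m ⊕ Fin m) F) := by
  obtain ⟨e, f, hef, hG⟩ := skewK_exists_frame h
  obtain ⟨e', f', hef', hG'⟩ := skewK_exists_frame h'
  obtain ⟨A, hAe, hAf⟩ := hef.witt hef'
  refine ⟨A, hef.mat_ext ?_ ?_⟩
  · intro a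
    rw [← Matrix.mulVec_mulVec, ← Matrix.mulVec_mulVec, (hG a).2, Matrix.mulVec_smul, hAf, hAe,
      (hG' a).2]
  · intro a
    rw [← Matrix.mulVec_mulVec, ← Matrix.mulVec_mulVec, (hG a).1, hAe, hAf, (hG' a).1]

end

section
variable {F : Type*} [Field F] {m : ℕ}

/-- Adapted frame for a symplectic matrix with scalar square `z = lam²`: pairs of eigenvectors
with eigenvalues `α`, `z α = α⁻¹`. -/
theorem exists_eigen_frame (X : Matrix (Fin m ⊕ Fin m) (Fin m ⊕ Fin m) F)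
    (hX : ∀ u v, sympForm m F (X *ᵥ u) (X *ᵥ v) = sympForm m F u v) (z lam : F)
    (hXX : X * X = z • (1 : Matrix (Fin m ⊕ Fin m) (Fin m ⊕ Fin m) F)) (hz : z * z = 1)
    (hl : lam * lam = z) (h2 : (2 : F) ≠ 0) :
    ∃ (e f : Fin m → (Fin m ⊕ Fin m → F)), HypFam e f ∧
      ∀ a, ∃ α : F, α * α = z ∧ X *ᵥ e a = α • e a ∧ X *ᵥ f a = (z * α) • f a := by
  have hXXv : ∀ v, X *ᵥ (X *ᵥ v) = z • v := by
    intro v
    rw [Matrix.mulVec_mulVec, hXX, Matrix.smul_mulVec, Matrix.one_mulVec]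
  have hz0 : z ≠ 0 := by
    intro h0
    rw [h0, mul_zero] at hz
    exact zero_ne_one hz
  have hl0 : lam ≠ 0 := by
    intro h0
    rw [h0, mul_zero] at hl
    exact hz0 hl.symm
  apply exists_adapted (fun e f => ∃ α : F, α * α = z ∧ X *ᵥ e = α • e ∧ X *ᵥ f = (z * α) • f)
  intro k e f hef hG hk
  have hstab : ∀ v, InC e f v → InC e f (X *ᵥ v) := by
    intro v hv a
    obtain ⟨α, hα, hαe, hαf⟩ := hG a
    have hα0 : α ≠ 0 := by
      intro h0
      rw [h0, mul_zero] at hα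
      exact hz0 hα.symm
    constructor
    · have h1 := hX v (e a)
      rw [hαe, sympForm_smul_right, (hv a).1] at h1
      exact (mul_eq_zero.mp h1).resolve_left hα0
    · have h1 := hX v (f a)
      rw [hαf, sympForm_smul_right, (hv a).2] at h1
      exact (mul_eq_zero.mp h1).resolve_left (mul_ne_zero hz0 hα0)
  obtain ⟨w, hwC, hw0⟩ := hef.exists_inC hk
  -- an eigenvector in the complement
  obtain ⟨u, α, huC, hu0, hα, hαu⟩ : ∃ (u : Fin m ⊕ Fin m → F) (α : F), InC e f u ∧ u ≠ 0 ∧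
      α * α = z ∧ X *ᵥ u = α • u := by
    by_cases hp : lam • w + X *ᵥ w = 0
    · refine ⟨lam • w - X *ᵥ w, -lam, (hwC.smul lam).sub (hstab w hwC), ?_, ?_, ?_⟩
      · intro hm
        have h3 : (2 * lam) • w = 0 := by
          have : (2 * lam) • w = (lam • w + X *ᵥ w) + (lam • w - X *ᵥ w) := by module
          rw [this, hp, hm, add_zero]
        rcases smul_eq_zero.mp h3 with h4 | h4
        · exact (mul_ne_zero h2 hl0) h4
        · exact hw0 h4
      · rw [← hl]; ring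
      · rw [Matrix.mulVec_sub, Matrix.mulVec_smul, hXXv, ← hl]
        module
    · refine ⟨lam • w + X *ᵥ w, lam, (hwC.smul lam).add (hstab w hwC), hp, hl, ?_⟩
      rw [Matrix.mulVec_add, Matrix.mulVec_smul, hXXv, ← hl]
      module
  have hα0 : α ≠ 0 := by
    intro h0
    rw [h0, mul_zero] at hα
    exact hz0 hα.symm
  obtain ⟨v, hvC, hv⟩ := hef.exists_partner huC hu0
  have hv' : X *ᵥ (v + α • X *ᵥ v) = (z * α) • (v + α • X *ᵥ v) := by
    rw [Matrix.mulVec_add, Matrix.mulVec_smul, hXXv]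
    have e1 : (z * α) • (v + α • X *ᵥ v) = (z * α) • v + (z * (α * α)) • X *ᵥ v := by module
    rw [e1, hα, hz]
    module
  have hpair : sympForm m F u (v + α • X *ᵥ v) = 2 := by
    have h1 := hX u v
    rw [hαu, sympForm_smul_left, hv] at h1
    rw [sympForm_add_right, sympForm_smul_right, hv, h1]
    norm_num
  refine ⟨u, (2 : F)⁻¹ • (v + α • X *ᵥ v), ⟨α, hα, hαu, ?_⟩, ?_, huC,
    (hvC.add ((hstab v hvC).smul α)).smul _⟩
  · rw [Matrix.mulVec_smul, hv', smul_comm]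
  · rw [sympForm_smul_right, hpair, inv_mul_cancel₀ h2]

/-- The GL element of a symplectic matrix. -/
noncomputable def toGLsp (A : Matrix.symplecticGroup (Fin m) F) : GL (Fin m ⊕ Fin m) F :=
  Matrix.GeneralLinearGroup.mkOfDetNeZero (A : Matrix (Fin m ⊕ Fin m) (Fin m ⊕ Fin m) F)
    (SymplecticGroup.symplectic_det A.2).ne_zero

theorem toGLsp_val (A : Matrix.symplecticGroup (Fin m) F) :
    ((toGLsp A : GL (Fin m ⊕ Fin m) F) : Matrix (Fin m ⊕ Fin m) (Fin m ⊕ Fin m) F) = A := rfl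

theorem toGLsp_mem (A : Matrix.symplecticGroup (Fin m) F) : toGLsp A ∈ spGL m F := by
  rw [mem_spGL_iff]
  intro u v
  rw [toGLsp_val]
  exact sympForm_mulVec_of_mem m A.2 u v

variable {κ : Matrix (Fin m ⊕ Fin m) (Fin m ⊕ Fin m) F} {δ : F}

/-- A symplectic `x` with `x² = z = lam²` is conjugate in `Sp` to an element `y` with `y κ = z κ y`. -/
theorem exists_conj_eigen [Finite F] (h : SkewK m κ δ) (x : GL (Fin m ⊕ Fin m) F)
    (hx : x ∈ spGL m F) (z lam : F)
    (hXX : (x : Matrix (Fin m ⊕ Fin m) (Fin m ⊕ Fin m) F) * (x : Matrix (Fin m ⊕ Fin m) (Fin m ⊕ Fin m) F)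
      = z • (1 : Matrix (Fin m ⊕ Fin m) (Fin m ⊕ Fin m) F)) (hz : z * z = 1)
    (hl : lam * lam = z) :
    ∃ g ∈ spGL m F, ((g⁻¹ * x * g : GL (Fin m ⊕ Fin m) F) : Matrix (Fin m ⊕ Fin m) (Fin m ⊕ Fin m) F) * κ
      = z • (κ * ((g⁻¹ * x * g : GL (Fin m ⊕ Fin m) F) : Matrix (Fin m ⊕ Fin m) (Fin m ⊕ Fin m) F)) := by
  obtain ⟨e, f, hef, hG⟩ := skewK_exists_frame h
  obtain ⟨e', f', hef', hG'⟩ := exists_eigen_frame (x : Matrix (Fin m ⊕ Fin m) (Fin m ⊕ Fin m) F)
    ((mem_spGL_iff m x).mp hx) z lam hXX hz hl h.two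
  obtain ⟨A, hAe, hAf⟩ := hef.witt hef'
  refine ⟨toGLsp A, toGLsp_mem A, ?_⟩
  have hinv : ∀ v, ((toGLsp A)⁻¹ : GL (Fin m ⊕ Fin m) F).1 *ᵥ
      ((A : Matrix (Fin m ⊕ Fin m) (Fin m ⊕ Fin m) F) *ᵥ v) = v := by
    intro v
    rw [Matrix.mulVec_mulVec]
    have : ((toGLsp A)⁻¹ : GL (Fin m ⊕ Fin m) F).1 * (A : Matrix (Fin m ⊕ Fin m) (Fin m ⊕ Fin m) F) = 1 := by
      rw [← toGLsp_val A]
      exact Units.inv_mul (toGLsp A)
    rw [this, Matrix.one_mulVec]
  have hval : ((((toGLsp A)⁻¹ * x * toGLsp A : GL (Fin m ⊕ Fin m) F)) : Matrix (Fin m ⊕ Fin m) (Fin m ⊕ Fin m) F)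
      = ((toGLsp A)⁻¹ : GL (Fin m ⊕ Fin m) F).1 * (x : Matrix (Fin m ⊕ Fin m) (Fin m ⊕ Fin m) F)
        * (A : Matrix (Fin m ⊕ Fin m) (Fin m ⊕ Fin m) F) := rfl
  rw [hval]
  have hYe : ∀ a, ∃ α : F, α * α = z ∧
      (((toGLsp A)⁻¹ : GL (Fin m ⊕ Fin m) F).1 * (x : Matrix (Fin m ⊕ Fin m) (Fin m ⊕ Fin m) F)
        * (A : Matrix (Fin m ⊕ Fin m) (Fin m ⊕ Fin m) F)) *ᵥ e a = α • e a ∧
      (((toGLsp A)⁻¹ : GL (Fin m ⊕ Fin m) F).1 * (x : Matrix (Fin m ⊕ Fin m) (Fin m ⊕ Fin m) F)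
        * (A : Matrix (Fin m ⊕ Fin m) (Fin m ⊕ Fin m) F)) *ᵥ f a = (z * α) • f a := by
    intro a
    obtain ⟨α, hα, hαe, hαf⟩ := hG' a
    refine ⟨α, hα, ?_, ?_⟩
    · rw [← Matrix.mulVec_mulVec, ← Matrix.mulVec_mulVec, hAe, hαe, Matrix.mulVec_smul, ← hAe, hinv]
    · rw [← Matrix.mulVec_mulVec, ← Matrix.mulVec_mulVec, hAf, hαf, Matrix.mulVec_smul, ← hAf, hinv]
  apply hef.mat_ext
  · intro a
    obtain ⟨α, hα, hαe, hαf⟩ := hYe a
    rw [← Matrix.mulVec_mulVec, (hG a).2, Matrix.mulVec_smul, hαf, Matrix.smul_mulVec,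
      ← Matrix.mulVec_mulVec, hαe, Matrix.mulVec_smul, (hG a).2]
    module
  · intro a
    obtain ⟨α, hα, hαe, hαf⟩ := hYe a
    rw [← Matrix.mulVec_mulVec, (hG a).1, hαe, Matrix.smul_mulVec,
      ← Matrix.mulVec_mulVec, hαf, Matrix.mulVec_smul, (hG a).1, smul_smul, ← mul_assoc, hz, one_mul]

end

section
variable {F : Type*} [Field F] {m : ℕ}
variable {κ : Matrix (Fin m ⊕ Fin m) (Fin m ⊕ Fin m) F}

theorem two_ne_zero_of_odd {F : Type*} [Field F] [Fintype F] (hq : Odd (Fintype.card F)) :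
    (2 : F) ≠ 0 := by
  apply Ring.two_ne_zero
  intro h
  rw [FiniteField.even_card_iff_char_two] at h
  rcases hq with ⟨k, hk⟩
  omega

/-- Membership in the normalizer of `K = F[κ]` from a commutation relation with `κ` up to sign. -/
theorem mem_normalizer_of_rel {K : Subalgebra F (Matrix (Fin m ⊕ Fin m) (Fin m ⊕ Fin m) F)}
    (hκK : κ ∈ K)
    (hgen : ∀ k ∈ K, ∃ a b : F, k = a • (1 : Matrix (Fin m ⊕ Fin m) (Fin m ⊕ Fin m) F) + b • κ)
    (Y : GL (Fin m ⊕ Fin m) F) (c : F) (hc : c * c = 1)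
    (hY : (Y : Matrix (Fin m ⊕ Fin m) (Fin m ⊕ Fin m) F) * κ
      = c • (κ * (Y : Matrix (Fin m ⊕ Fin m) (Fin m ⊕ Fin m) F))) :
    Y ∈ subalgebraNormalizer K := by
  have e1 : (Y : Matrix (Fin m ⊕ Fin m) (Fin m ⊕ Fin m) F) * κ
      * ((Y⁻¹ : GL (Fin m ⊕ Fin m) F) : Matrix (Fin m ⊕ Fin m) (Fin m ⊕ Fin m) F) = c • κ := by
    rw [hY, Matrix.smul_mul, Matrix.mul_assoc, Units.mul_inv, mul_one]
  have hY' : κ * (Y : Matrix (Fin m ⊕ Fin m) (Fin m ⊕ Fin m) F)
      = c • ((Y : Matrix (Fin m ⊕ Fin m) (Fin m ⊕ Fin m) F) * κ) := by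
    rw [hY, smul_smul, hc, one_smul]
  have e2 : ((Y⁻¹ : GL (Fin m ⊕ Fin m) F) : Matrix (Fin m ⊕ Fin m) (Fin m ⊕ Fin m) F) * κ
      * (Y : Matrix (Fin m ⊕ Fin m) (Fin m ⊕ Fin m) F) = c • κ := by
    rw [Matrix.mul_assoc, hY', Matrix.mul_smul, ← Matrix.mul_assoc, Units.inv_mul, one_mul]
  apply mem_subalgNormalizer_of_conj
  · intro k hk
    obtain ⟨a, b, rfl⟩ := hgen k hk
    have e3 : (Y : Matrix (Fin m ⊕ Fin m) (Fin m ⊕ Fin m) F) * (a • (1 : Matrix (Fin m ⊕ Fin m) (Fin m ⊕ Fin m) F) + b • κ)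
        * ((Y⁻¹ : GL (Fin m ⊕ Fin m) F) : Matrix (Fin m ⊕ Fin m) (Fin m ⊕ Fin m) F)
        = a • (1 : Matrix (Fin m ⊕ Fin m) (Fin m ⊕ Fin m) F) + (b * c) • κ := by
      rw [mul_add, add_mul, Matrix.mul_smul, Matrix.smul_mul, mul_one, Units.mul_inv,
        Matrix.mul_smul, Matrix.smul_mul, e1, smul_smul]
    rw [e3]
    exact K.add_mem (K.smul_mem K.one_mem a) (K.smul_mem hκK _)
  · intro k hk
    obtain ⟨a, b, rfl⟩ := hgen k hk
    have e3 : ((Y⁻¹ : GL (Fin m ⊕ Fin m) F) : Matrix (Fin m ⊕ Fin m) (Fin m ⊕ Fin m) F) * (a • (1 : Matrix (Fin m ⊕ Fin m) (Fin m ⊕ Fin m) F) + b • κ)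
        * (Y : Matrix (Fin m ⊕ Fin m) (Fin m ⊕ Fin m) F)
        = a • (1 : Matrix (Fin m ⊕ Fin m) (Fin m ⊕ Fin m) F) + (b * c) • κ := by
      rw [mul_add, add_mul, Matrix.mul_smul, Matrix.smul_mul, mul_one, Units.inv_mul,
        Matrix.mul_smul, Matrix.smul_mul, e2, smul_smul]
    rw [e3]
    exact K.add_mem (K.smul_mem K.one_mem a) (K.smul_mem hκK _)

end

/-- **The involution direction.** In `Sp_{2d}(F)`, `F` finite of odd order, every element whose square
is a scalar is `Sp`-conjugate into the normalizer of a subalgebra `K` of unitary type. -/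
theorem conj_into_normalizer_of_sq {F : Type*} [Field F] [Fintype F] (hodd : Odd (Fintype.card F))
    (d : ℕ) (K : Subalgebra F (Matrix (Fin d ⊕ Fin d) (Fin d ⊕ Fin d) F))
    (hK : Cfsg.Geo.IsFieldSubalgebra 2 K)
    (hKf : Cfsg.Geo.IsAdjointClosedFor (Cfsg.sympForm d F) K)
    (hKns : ¬ Cfsg.Geo.IsSelfAdjointFor (Cfsg.sympForm d F) K)
    (x : GL (Fin d ⊕ Fin d) F) (hx : x ∈ Cfsg.spGL d F) (z : F)
    (hz : ((x ^ 2 : GL (Fin d ⊕ Fin d) F) : Matrix (Fin d ⊕ Fin d) (Fin d ⊕ Fin d) F)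
      = z • (1 : Matrix (Fin d ⊕ Fin d) (Fin d ⊕ Fin d) F)) :
    ∃ g ∈ Cfsg.spGL d F, g⁻¹ * x * g ∈ Cfsg.Geo.subalgebraNormalizer K := by
  have h2 : (2 : F) ≠ 0 := two_ne_zero_of_odd hodd
  obtain ⟨κ, δ, hS, hκK, hgen⟩ := exists_skewK d K hK hKf hKns h2
  have hXX : (x : Matrix (Fin d ⊕ Fin d) (Fin d ⊕ Fin d) F) * (x : Matrix (Fin d ⊕ Fin d) (Fin d ⊕ Fin d) F)
      = z • (1 : Matrix (Fin d ⊕ Fin d) (Fin d ⊕ Fin d) F) := by
    rw [← hz, pow_two]; rfl
  have hXXv : ∀ v, (x : Matrix (Fin d ⊕ Fin d) (Fin d ⊕ Fin d) F) *ᵥ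
      ((x : Matrix (Fin d ⊕ Fin d) (Fin d ⊕ Fin d) F) *ᵥ v) = z • v := by
    intro v
    rw [Matrix.mulVec_mulVec, hXX, Matrix.smul_mulVec, Matrix.one_mulVec]
  have hxf := (mem_spGL_iff d x).mp hx
  -- `z² = 1`
  have hzz : z * z = 1 := by
    have hκ0 : κ ≠ 0 := by
      intro h0
      have := hS.sq
      rw [h0, mul_zero] at this
      have h3 := congrArg (fun M => M *ᵥ (0 : Fin d ⊕ Fin d → F)) this
      have hone : (1 : Matrix (Fin d ⊕ Fin d) (Fin d ⊕ Fin d) F) ≠ 0 := by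
        intro h1
        have h4 := hS.sq
        rw [h0, mul_zero, h1, smul_zero] at h4
        have hK2 := hK.finrank_eq
        have hsub : Subsingleton (Matrix (Fin d ⊕ Fin d) (Fin d ⊕ Fin d) F) :=
          ⟨fun a b => by rw [← mul_one a, ← mul_one b, h1, mul_zero, mul_zero]⟩
        have hKsub : Subsingleton K := ⟨fun a b => Subtype.ext (Subsingleton.elim _ _)⟩
        rw [Module.finrank_zero_of_subsingleton] at hK2
        exact absurd hK2 (by norm_num)
      apply hone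
      have h5 : δ • (1 : Matrix (Fin d ⊕ Fin d) (Fin d ⊕ Fin d) F) = 0 := by rw [← hS.sq, h0, mul_zero]
      exact (smul_eq_zero.mp h5).resolve_left hS.delta_ne
    obtain ⟨u, hu⟩ : ∃ u : Fin d ⊕ Fin d → F, u ≠ 0 := by
      by_contra hcon
      push Not at hcon
      apply hκ0
      apply mat_ext_mulVec
      intro v
      rw [hcon v, Matrix.mulVec_zero, Matrix.mulVec_zero]
    obtain ⟨w, hw⟩ := exists_sympForm_ne_zero d u hu
    have h3 := hxf ((x : Matrix (Fin d ⊕ Fin d) (Fin d ⊕ Fin d) F) *ᵥ u)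
      ((x : Matrix (Fin d ⊕ Fin d) (Fin d ⊕ Fin d) F) *ᵥ w)
    rw [hXXv, hXXv, hxf, sympForm_smul_left, sympForm_smul_right] at h3
    have h4 : (z * z - 1) * sympForm d F u w = 0 := by linear_combination h3
    rcases mul_eq_zero.mp h4 with h5 | h5
    · linear_combination h5
    · exact absurd h5 hw
  have hz1 : z = 1 ∨ z = -1 := by
    have : (z - 1) * (z + 1) = 0 := by linear_combination hzz
    rcases mul_eq_zero.mp this with h | h
    · left; linear_combination h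
    · right; linear_combination h
  have hfin : ∀ lam : F, lam * lam = z → ∃ g ∈ Cfsg.spGL d F, g⁻¹ * x * g ∈ Cfsg.Geo.subalgebraNormalizer K := by
    intro lam hl
    obtain ⟨g, hg, hrel⟩ := exists_conj_eigen hS x hx z lam hXX hzz hl
    exact ⟨g, hg, mem_normalizer_of_rel hκK hgen _ z hzz hrel⟩
  rcases hz1 with hz1 | hz1
  · exact hfin 1 (by rw [hz1]; ring)
  · by_cases hsq : ∃ i : F, i * i = -1
    · obtain ⟨i, hi⟩ := hsq
      exact hfin i (by rw [hz1]; exact hi)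
    · push Not at hsq
      subst hz1
      -- `x` itself is skew with square `-1`
      have hSX : SkewK d (x : Matrix (Fin d ⊕ Fin d) (Fin d ⊕ Fin d) F) (-1) := by
        refine ⟨hXX, ?_, hsq, h2⟩
        intro u v
        have h3 := hxf u ((x : Matrix (Fin d ⊕ Fin d) (Fin d ⊕ Fin d) F) *ᵥ v)
        rw [hXXv, sympForm_smul_right] at h3
        linear_combination -h3
      obtain ⟨s, hs0, hs⟩ := exists_eq_mul_sq_of_not_isSquare h2 (-1) δ
        (fun ⟨r, hr⟩ => hsq r hr.symm) (fun ⟨r, hr⟩ => hS.nsq r hr.symm)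
      have hS' : SkewK d (s • (x : Matrix (Fin d ⊕ Fin d) (Fin d ⊕ Fin d) F)) δ := by
        refine ⟨?_, ?_, hS.nsq, h2⟩
        · rw [Matrix.smul_mul, Matrix.mul_smul, hXX, smul_smul, smul_smul, hs]
          congr 1
          ring
        · intro u v
          rw [Matrix.smul_mulVec, Matrix.smul_mulVec, sympForm_smul_left, sympForm_smul_right,
            hSX.skew]
          ring
      obtain ⟨A, hA⟩ := skewK_conj hS hS'
      refine ⟨toGLsp A, toGLsp_mem A, ?_⟩
      apply mem_normalizer_of_rel hκK hgen _ 1 (by ring)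
      have hval : ((((toGLsp A)⁻¹ * x * toGLsp A : GL (Fin d ⊕ Fin d) F)) : Matrix (Fin d ⊕ Fin d) (Fin d ⊕ Fin d) F)
          = ((toGLsp A)⁻¹ : GL (Fin d ⊕ Fin d) F).1 * (x : Matrix (Fin d ⊕ Fin d) (Fin d ⊕ Fin d) F)
            * (A : Matrix (Fin d ⊕ Fin d) (Fin d ⊕ Fin d) F) := rfl
      have hinv : ((toGLsp A)⁻¹ : GL (Fin d ⊕ Fin d) F).1 * (A : Matrix (Fin d ⊕ Fin d) (Fin d ⊕ Fin d) F) = 1 := by
        rw [← toGLsp_val A]
        exact Units.inv_mul (toGLsp A)
      have hxA : (x : Matrix (Fin d ⊕ Fin d) (Fin d ⊕ Fin d) F) * (A : Matrix (Fin d ⊕ Fin d) (Fin d ⊕ Fin d) F)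
          = s⁻¹ • ((A : Matrix (Fin d ⊕ Fin d) (Fin d ⊕ Fin d) F) * κ) := by
        rw [hA, Matrix.smul_mul, smul_smul, inv_mul_cancel₀ hs0, one_smul]
      have hY : ((((toGLsp A)⁻¹ * x * toGLsp A : GL (Fin d ⊕ Fin d) F)) : Matrix (Fin d ⊕ Fin d) (Fin d ⊕ Fin d) F)
          = s⁻¹ • κ := by
        rw [hval, Matrix.mul_assoc, hxA, Matrix.mul_smul, ← Matrix.mul_assoc, hinv, one_mul]
      rw [hY, one_smul, Matrix.smul_mul, Matrix.mul_smul]

end Cfsg.Agent.Lib.helper48.SpUnitInv
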