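import Mathlib
import Cfsg.Prelude.Def_GeometricClasses
import Cfsg.Agent.Lib.helper17.SympBlock
import Cfsg.Agent.Lib.helper95.SpUnit6
import Cfsg.Agent.Lib.helper48.SpUnitInv
import Cfsg.Agent.S0245

/-!
The Cauchy-block element for the odd-order direction of the unitary-type subgroups of `Sp_{2m}(F)`:
an element of prime order `r` of `Sp_{2(o+c)}(F)` supported on the first `o` hyperbolic pairs, and the
geometry of `im(x - 1)` for a symplectic `x` with `x^r = 1`, `r` prime to the characteristic.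
-/

set_option autoImplicit false

namespace Cfsg.Agent.Lib.helper48.SpUnitBlock

open Matrix Cfsg Cfsg.Geo Cfsg.Agent.Lib.helper17 Cfsg.Agent.Lib.helper95 Module
open Cfsg.Agent.Lib.helper48.SpUnitInv

section
variable {F : Type*} [Field F] {m : ℕ}

/-- `toGLsp` as a monoid homomorphism. -/
noncomputable def toGLspHom : Matrix.symplecticGroup (Fin m) F →* GL (Fin m ⊕ Fin m) F where
  toFun := toGLsp
  map_one' := Units.ext rfl
  map_mul' _ _ := Units.ext rfl

theorem toGLspHom_apply (A : Matrix.symplecticGroup (Fin m) F) : toGLspHom A = toGLsp A := rfl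

theorem toGLspHom_injective : Function.Injective (toGLspHom (F := F) (m := m)) := by
  intro A B h
  apply Subtype.ext
  have := congrArg (fun g : GL (Fin m ⊕ Fin m) F => (g : Matrix (Fin m ⊕ Fin m) (Fin m ⊕ Fin m) F)) h
  exact this

/-- The image of `x - 1`. -/
def imSub (x : GL (Fin m ⊕ Fin m) F) : Submodule F (Fin m ⊕ Fin m → F) :=
  LinearMap.range (Matrix.toLin' ((x : Matrix (Fin m ⊕ Fin m) (Fin m ⊕ Fin m) F) - 1))

theorem mem_imSub (x : GL (Fin m ⊕ Fin m) F) (w : Fin m ⊕ Fin m → F) :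
    w ∈ imSub x ↔ ∃ u, (x : Matrix (Fin m ⊕ Fin m) (Fin m ⊕ Fin m) F) *ᵥ u - u = w := by
  unfold imSub
  rw [LinearMap.mem_range]
  constructor
  · rintro ⟨u, hu⟩
    refine ⟨u, ?_⟩
    rw [← hu, Matrix.toLin'_apply, Matrix.sub_mulVec, Matrix.one_mulVec]
  · rintro ⟨u, hu⟩
    refine ⟨u, ?_⟩
    rw [← hu, Matrix.toLin'_apply, Matrix.sub_mulVec, Matrix.one_mulVec]

theorem imSub_stable (x : GL (Fin m ⊕ Fin m) F) {w : Fin m ⊕ Fin m → F} (hw : w ∈ imSub x) :
    (x : Matrix (Fin m ⊕ Fin m) (Fin m ⊕ Fin m) F) *ᵥ w ∈ imSub x := by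
  rw [mem_imSub] at hw ⊢
  obtain ⟨u, rfl⟩ := hw
  exact ⟨(x : Matrix (Fin m ⊕ Fin m) (Fin m ⊕ Fin m) F) *ᵥ u, by rw [Matrix.mulVec_sub]⟩

theorem imSub_commute (x : GL (Fin m ⊕ Fin m) F) (κ : Matrix (Fin m ⊕ Fin m) (Fin m ⊕ Fin m) F)
    (hc : (x : Matrix (Fin m ⊕ Fin m) (Fin m ⊕ Fin m) F) * κ
      = κ * (x : Matrix (Fin m ⊕ Fin m) (Fin m ⊕ Fin m) F))
    {w : Fin m ⊕ Fin m → F} (hw : w ∈ imSub x) : κ *ᵥ w ∈ imSub x := by
  rw [mem_imSub] at hw ⊢
  obtain ⟨u, rfl⟩ := hw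
  refine ⟨κ *ᵥ u, ?_⟩
  rw [Matrix.mulVec_sub, Matrix.mulVec_mulVec, Matrix.mulVec_mulVec, hc]

/-- `im(x - 1)` contains no non-zero fixed vector when `x^r = 1` with `r` invertible in `F`. -/
theorem imSub_fixed (x : GL (Fin m ⊕ Fin m) F) (r : ℕ) (hxr : x ^ r = 1) (hr : (r : F) ≠ 0)
    {w : Fin m ⊕ Fin m → F} (hw : w ∈ imSub x)
    (hfix : (x : Matrix (Fin m ⊕ Fin m) (Fin m ⊕ Fin m) F) *ᵥ w = w) : w = 0 := by
  rw [mem_imSub] at hw
  obtain ⟨u, hu⟩ := hw
  have hX : (x : Matrix (Fin m ⊕ Fin m) (Fin m ⊕ Fin m) F) ^ r = 1 := by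
    rw [← Units.val_pow_eq_pow_val, hxr, Units.val_one]
  have hgeom := geom_sum_mul (x : Matrix (Fin m ⊕ Fin m) (Fin m ⊕ Fin m) F) r
  rw [hX, sub_self] at hgeom
  have h1 := congrArg (fun M => M *ᵥ u) hgeom
  simp only [← Matrix.mulVec_mulVec, Matrix.sub_mulVec, Matrix.one_mulVec, Matrix.zero_mulVec] at h1
  rw [hu] at h1
  have hpow : ∀ i : ℕ, ((x : Matrix (Fin m ⊕ Fin m) (Fin m ⊕ Fin m) F) ^ i) *ᵥ w = w := by
    intro i
    induction i with
    | zero => rw [pow_zero, Matrix.one_mulVec]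
    | succ i ih => rw [pow_succ, ← Matrix.mulVec_mulVec, hfix, ih]
  rw [Matrix.sum_mulVec] at h1
  simp only [hpow, Finset.sum_const, Finset.card_range] at h1
  rw [← Nat.cast_smul_eq_nsmul F] at h1
  exact (smul_eq_zero.mp h1).resolve_left hr

/-- `im(x - 1)` is non-degenerate for a symplectic `x` with `x^r = 1`, `r` invertible. -/
theorem imSub_nondeg (x : GL (Fin m ⊕ Fin m) F) (hx : x ∈ spGL m F) (r : ℕ) (hxr : x ^ r = 1)
    (hr : (r : F) ≠ 0) {w : Fin m ⊕ Fin m → F} (hw : w ∈ imSub x)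
    (hperp : ∀ w' ∈ imSub x, sympForm m F w w' = 0) : w = 0 := by
  apply imSub_fixed x r hxr hr hw
  have hxf := (mem_spGL_iff m x).mp hx
  by_contra hne
  have hne' : (x : Matrix (Fin m ⊕ Fin m) (Fin m ⊕ Fin m) F) *ᵥ w - w ≠ 0 := sub_ne_zero.mpr hne
  obtain ⟨y, hy⟩ := exists_sympForm_ne_zero m _ hne'
  apply hy
  obtain ⟨v, hv⟩ : ∃ v, (x : Matrix (Fin m ⊕ Fin m) (Fin m ⊕ Fin m) F) *ᵥ v = y :=
    ⟨((x⁻¹ : GL (Fin m ⊕ Fin m) F) : Matrix (Fin m ⊕ Fin m) (Fin m ⊕ Fin m) F) *ᵥ y,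
      gl_mulVec_inv_mulVec x y⟩
  have h1 := hperp _ ((mem_imSub x _).mpr ⟨v, rfl⟩)
  rw [sympForm_sub_right] at h1
  rw [← hv, sympForm_sub_left, hxf]
  linear_combination -h1

/-- A finite `x`-stable set of non-zero vectors of `im(x - 1)` has cardinality divisible by `r`. -/
theorem dvd_card_of_stable (x : GL (Fin m ⊕ Fin m) F) (r : ℕ) [Fact r.Prime] (hxr : x ^ r = 1)
    (hr : (r : F) ≠ 0) (S : Set (Fin m ⊕ Fin m → F)) [Finite S]
    (hS : ∀ s ∈ S, s ∈ imSub x ∧ s ≠ 0 ∧ (x : Matrix (Fin m ⊕ Fin m) (Fin m ⊕ Fin m) F) *ᵥ s ∈ S) :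
    r ∣ Nat.card S := by
  classical
  have := Fintype.ofFinite S
  obtain ⟨f, hf⟩ : ∃ f : Function.End S, ∀ s : S,
      ((f s : S) : Fin m ⊕ Fin m → F) = (x : Matrix (Fin m ⊕ Fin m) (Fin m ⊕ Fin m) F) *ᵥ (s : Fin m ⊕ Fin m → F) :=
    ⟨fun s => ⟨(x : Matrix (Fin m ⊕ Fin m) (Fin m ⊕ Fin m) F) *ᵥ (s : Fin m ⊕ Fin m → F), (hS s s.2).2.2⟩,
      fun s => rfl⟩
  have hpow : ∀ (n : ℕ) (s : S), (((f ^ n) s : S) : Fin m ⊕ Fin m → F)
      = ((x : Matrix (Fin m ⊕ Fin m) (Fin m ⊕ Fin m) F) ^ n) *ᵥ (s : Fin m ⊕ Fin m → F) := by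
    intro n
    induction n with
    | zero => intro s; rw [pow_zero, pow_zero, Matrix.one_mulVec]; rfl
    | succ n ih =>
      intro s
      rw [pow_succ', pow_succ', ← Matrix.mulVec_mulVec, ← ih s]
      exact hf _
  have hX : (x : Matrix (Fin m ⊕ Fin m) (Fin m ⊕ Fin m) F) ^ r = 1 := by
    rw [← Units.val_pow_eq_pow_val, hxr, Units.val_one]
  have hfr : f ^ r ^ 1 = 1 := by
    rw [pow_one]
    funext s
    apply Subtype.ext
    rw [hpow, hX, Matrix.one_mulVec]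
    rfl
  have h1 := Equiv.Perm.card_fixedPoints_modEq hfr
  have hfix : IsEmpty (Function.fixedPoints f) := by
    constructor
    rintro ⟨s, hs⟩
    have h2 : (x : Matrix (Fin m ⊕ Fin m) (Fin m ⊕ Fin m) F) *ᵥ (s : Fin m ⊕ Fin m → F) = s := by
      rw [← hf s]
      exact congrArg Subtype.val hs
    exact (hS s s.2).2.1 (imSub_fixed x r hxr hr (hS s s.2).1 h2)
  have h0 : ∀ (inst : Fintype (Function.fixedPoints f)), @Fintype.card _ inst = 0 :=
    fun inst => @Fintype.card_eq_zero _ inst hfix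
  rw [h0] at h1
  rw [Nat.card_eq_fintype_card]
  exact (Nat.modEq_zero_iff_dvd).mp h1

end

section
variable {F : Type*} [Field F]

theorem finrank_stdSub (o c : ℕ) : finrank F (stdSub F (o + c) o) = 2 * o := by
  obtain ⟨π, hπ⟩ : ∃ π : (Fin (o + c) ⊕ Fin (o + c) → F) →ₗ[F] (Fin c ⊕ Fin c → F),
      π = LinearMap.funLeft F F (fun j : Fin c ⊕ Fin c => rho o c (Sum.inr j)) := ⟨_, rfl⟩
  have hker : LinearMap.ker π = stdSub F (o + c) o := by
    ext u
    rw [LinearMap.mem_ker, mem_stdSub_iff_rho, hπ]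
    constructor
    · intro h j
      exact congrFun h j
    · intro h
      funext j
      exact h j
  have hsurj : Function.Surjective π := by
    rw [hπ]
    apply LinearMap.funLeft_surjective_of_injective
    intro a b hab
    exact Sum.inr_injective ((rho o c).injective hab)
  have h1 := LinearMap.finrank_range_add_finrank_ker π
  rw [LinearMap.range_eq_top.mpr hsurj, finrank_top, hker] at h1
  have h2 : finrank F (Fin c ⊕ Fin c → F) = c + c := by simp
  have h3 : finrank F (Fin (o + c) ⊕ Fin (o + c) → F) = (o + c) + (o + c) := by simp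
  omega

theorem blockSp_mulVec_inr (o c : ℕ) (A : Matrix.symplecticGroup (Fin o) F)
    (u : Fin (o + c) ⊕ Fin (o + c) → F) (j : Fin c ⊕ Fin c) :
    (((blockSp o c (A, 1) : Matrix.symplecticGroup (Fin (o + c)) F) :
      Matrix (Fin (o + c) ⊕ Fin (o + c)) (Fin (o + c) ⊕ Fin (o + c)) F) *ᵥ u) (rho o c (Sum.inr j))
      = u (rho o c (Sum.inr j)) := by
  rw [blockSp_coe]
  simp only [Matrix.mulVec, dotProduct, Matrix.submatrix_apply, Equiv.symm_apply_apply]
  rw [← (rho o c).sum_comp]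
  simp only [Equiv.symm_apply_apply, Fintype.sum_sum_type, Matrix.fromBlocks_apply₂₁,
    Matrix.fromBlocks_apply₂₂, Matrix.zero_apply, zero_mul, Finset.sum_const_zero, zero_add]
  have : ∀ b : Fin c ⊕ Fin c,
      ((1 : Matrix.symplecticGroup (Fin c) F) : Matrix (Fin c ⊕ Fin c) (Fin c ⊕ Fin c) F) j b
        * u (rho o c (Sum.inr b)) = if j = b then u (rho o c (Sum.inr b)) else 0 := by
    intro b
    have h1 : ((1 : Matrix.symplecticGroup (Fin c) F) : Matrix (Fin c ⊕ Fin c) (Fin c ⊕ Fin c) F) = 1 := rfl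
    rw [h1, Matrix.one_apply]
    split_ifs <;> simp
  rw [← Fintype.sum_sum_type (fun b : Fin c ⊕ Fin c =>
    ((1 : Matrix.symplecticGroup (Fin c) F) : Matrix (Fin c ⊕ Fin c) (Fin c ⊕ Fin c) F) j b
        * u (rho o c (Sum.inr b)))]
  simp only [this, Finset.sum_ite_eq, Finset.mem_univ, if_true]

/-- **The Cauchy block.** An element of prime order `r ∣ q^(2o) - 1` of `Sp_{2(o+c)}(q)` acting
trivially modulo the first `o` hyperbolic pairs. -/
theorem exists_block_element [Fintype F] {q : ℕ} (hF : Fintype.card F = q) (o c r : ℕ)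
    (ho : 1 ≤ o) [Fact r.Prime] (hr : r ∣ q ^ (2 * o) - 1) :
    ∃ x ∈ spGL (o + c) F, x ^ r = 1 ∧ x ≠ 1 ∧ imSub x ≤ stdSub F (o + c) o := by
  have hcard := Cfsg.Agent.S0245.result hF o
  have hdvd : r ∣ Nat.card (Matrix.symplecticGroup (Fin o) F) := by
    rw [hcard]
    apply Dvd.dvd.mul_left
    apply Dvd.dvd.trans _ (Finset.dvd_prod_of_mem _ (Finset.mem_range.mpr (by omega : o - 1 < o)))
    have : o - 1 + 1 = o := by omega
    rw [this]
    exact hr
  have : Finite (Matrix.symplecticGroup (Fin o) F) := Subtype.finite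
  obtain ⟨A, hA⟩ := exists_prime_orderOf_dvd_card' (G := Matrix.symplecticGroup (Fin o) F) r hdvd
  refine ⟨toGLspHom (blockSp o c (A, 1)), toGLsp_mem _, ?_, ?_, ?_⟩
  · rw [← map_pow, ← map_pow, Prod.pow_mk, one_pow, ← hA, pow_orderOf_eq_one]
    have : ((1 : Matrix.symplecticGroup (Fin o) F), (1 : Matrix.symplecticGroup (Fin c) F))
        = (1 : Matrix.symplecticGroup (Fin o) F × Matrix.symplecticGroup (Fin c) F) := rfl
    rw [this, map_one, map_one]
  · intro h1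
    have h2 : blockSp o c (A, 1) = 1 := toGLspHom_injective (by rw [h1, map_one])
    have h3 : (A, (1 : Matrix.symplecticGroup (Fin c) F))
        = (1 : Matrix.symplecticGroup (Fin o) F × Matrix.symplecticGroup (Fin c) F) :=
      blockSp_injective o c (by rw [h2, map_one])
    have h4 : A = 1 := congrArg Prod.fst h3
    rw [h4, orderOf_one] at hA
    exact (Fact.out : r.Prime).one_lt.ne hA
  · intro w hw
    rw [mem_imSub] at hw
    obtain ⟨u, rfl⟩ := hw
    rw [mem_stdSub_iff_rho]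
    intro j
    rw [Pi.sub_apply, toGLspHom_apply, toGLsp_val, blockSp_mulVec_inr, sub_self]

end

end Cfsg.Agent.Lib.helper48.SpUnitBlock
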