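import Mathlib
import Cfsg.Prelude.Def_GeometricClasses
import Cfsg.Agent.Lib.helper95.SpUnit6
import Cfsg.Agent.Lib.helper48.SpUnitInv

/-!
Pieces for the odd-order direction of the unitary-type subgroups `N(K)`, `K = F[κ]`, of `Sp_{2m}(F)`:
* an element of the normalizer of `K` commutes or anticommutes with `κ`; if a odd power of it is scalar
  it commutes with `κ`;
* the symplectic transvections (order `p`) have no `Sp`-conjugate in `N(K)`;
* the arithmetic selecting the degree of a derangement of odd prime order `r ≠ p`.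
-/

set_option autoImplicit false

namespace Cfsg.Agent.Lib.helper48.SpUnitOdd

open Matrix Cfsg Cfsg.Geo Cfsg.Agent.Lib.helper17 Cfsg.Agent.Lib.helper95 Module
open Cfsg.Agent.Lib.helper48.SpUnitInv

section
variable {F : Type*} [Field F] {m : ℕ}
variable {κ : Matrix (Fin m ⊕ Fin m) (Fin m ⊕ Fin m) F} {δ : F}

/-- Either all matrices coincide (`m = 0`) or there is a non-zero vector. -/
theorem trivial_or_exists_ne (F : Type*) [Field F] (m : ℕ) :
    (∀ M N : Matrix (Fin m ⊕ Fin m) (Fin m ⊕ Fin m) F, M = N) ∨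
      ∃ x : Fin m ⊕ Fin m → F, x ≠ 0 := by
  by_cases h : ∃ x : Fin m ⊕ Fin m → F, x ≠ 0
  · exact Or.inr h
  · left
    push Not at h
    intro M N
    apply mat_ext_mulVec
    intro x
    rw [h x, Matrix.mulVec_zero, Matrix.mulVec_zero]

/-- An element of the normalizer of `K = F[κ]` commutes or anticommutes with `κ`. -/
theorem normalizer_rel (h : SkewK m κ δ)
    {K : Subalgebra F (Matrix (Fin m ⊕ Fin m) (Fin m ⊕ Fin m) F)} (hκK : κ ∈ K)
    (hgen : ∀ k ∈ K, ∃ a b : F, k = a • (1 : Matrix (Fin m ⊕ Fin m) (Fin m ⊕ Fin m) F) + b • κ)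
    (Y : GL (Fin m ⊕ Fin m) F) (hY : Y ∈ subalgebraNormalizer K) :
    ∃ c : F, (c = 1 ∨ c = -1) ∧ (Y : Matrix (Fin m ⊕ Fin m) (Fin m ⊕ Fin m) F) * κ
      = c • (κ * (Y : Matrix (Fin m ⊕ Fin m) (Fin m ⊕ Fin m) F)) := by
  rcases trivial_or_exists_ne F m with htriv | ⟨x, hx⟩
  · exact ⟨1, Or.inl rfl, htriv _ _⟩
  obtain ⟨a, b, hab⟩ := hgen _ ((hY κ).mp hκK)
  -- square both sides
  have hsq : ((Y : Matrix (Fin m ⊕ Fin m) (Fin m ⊕ Fin m) F) * κ
      * ((Y⁻¹ : GL (Fin m ⊕ Fin m) F) : Matrix (Fin m ⊕ Fin m) (Fin m ⊕ Fin m) F))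
      * ((Y : Matrix (Fin m ⊕ Fin m) (Fin m ⊕ Fin m) F) * κ
      * ((Y⁻¹ : GL (Fin m ⊕ Fin m) F) : Matrix (Fin m ⊕ Fin m) (Fin m ⊕ Fin m) F))
      = δ • (1 : Matrix (Fin m ⊕ Fin m) (Fin m ⊕ Fin m) F) := by
    calc ((Y : Matrix (Fin m ⊕ Fin m) (Fin m ⊕ Fin m) F) * κ
      * ((Y⁻¹ : GL (Fin m ⊕ Fin m) F) : Matrix (Fin m ⊕ Fin m) (Fin m ⊕ Fin m) F))
      * ((Y : Matrix (Fin m ⊕ Fin m) (Fin m ⊕ Fin m) F) * κ
      * ((Y⁻¹ : GL (Fin m ⊕ Fin m) F) : Matrix (Fin m ⊕ Fin m) (Fin m ⊕ Fin m) F))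
        = (Y : Matrix (Fin m ⊕ Fin m) (Fin m ⊕ Fin m) F) * κ
          * (((Y⁻¹ : GL (Fin m ⊕ Fin m) F) : Matrix (Fin m ⊕ Fin m) (Fin m ⊕ Fin m) F)
            * (Y : Matrix (Fin m ⊕ Fin m) (Fin m ⊕ Fin m) F)) * κ
          * ((Y⁻¹ : GL (Fin m ⊕ Fin m) F) : Matrix (Fin m ⊕ Fin m) (Fin m ⊕ Fin m) F) := by
          simp only [mul_assoc]
      _ = (Y : Matrix (Fin m ⊕ Fin m) (Fin m ⊕ Fin m) F) * (κ * κ)
          * ((Y⁻¹ : GL (Fin m ⊕ Fin m) F) : Matrix (Fin m ⊕ Fin m) (Fin m ⊕ Fin m) F) := by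
          rw [Units.inv_mul, mul_one, mul_assoc (Y : Matrix (Fin m ⊕ Fin m) (Fin m ⊕ Fin m) F)]
      _ = δ • (1 : Matrix (Fin m ⊕ Fin m) (Fin m ⊕ Fin m) F) := by
          rw [h.sq, Matrix.mul_smul, Matrix.smul_mul, mul_one, Units.mul_inv]
  rw [hab] at hsq
  have hexp : (a • (1 : Matrix (Fin m ⊕ Fin m) (Fin m ⊕ Fin m) F) + b • κ)
      * (a • (1 : Matrix (Fin m ⊕ Fin m) (Fin m ⊕ Fin m) F) + b • κ)
      = (a * a + b * b * δ) • (1 : Matrix (Fin m ⊕ Fin m) (Fin m ⊕ Fin m) F) + (2 * a * b) • κ := by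
    rw [mul_add, add_mul, add_mul, Matrix.smul_mul, Matrix.mul_smul, Matrix.smul_mul, Matrix.mul_smul,
      Matrix.smul_mul, Matrix.mul_smul, Matrix.smul_mul, Matrix.mul_smul, one_mul, one_mul, mul_one,
      h.sq]
    simp only [smul_smul]
    module
  rw [hexp] at hsq
  have hv := congrArg (fun M => M *ᵥ x) hsq
  simp only [Matrix.add_mulVec, Matrix.smul_mulVec, Matrix.one_mulVec] at hv
  have hv2 : (a * a + b * b * δ - δ) • x + (2 * a * b) • κ *ᵥ x = 0 := by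
    rw [sub_smul, sub_add_eq_add_sub, hv, sub_self]
  obtain ⟨h1, h2⟩ := h.kappa_indep hx hv2
  have hb : b ≠ 0 := by
    intro hb
    rw [hb] at h1
    exact h.nsq a (by linear_combination h1)
  have ha : a = 0 := by
    rcases mul_eq_zero.mp h2 with h3 | h3
    · rcases mul_eq_zero.mp h3 with h4 | h4
      · exact absurd h4 h.two
      · exact h4
    · exact absurd h3 hb
  rw [ha] at h1
  have hb2 : (b - 1) * (b + 1) = 0 := by
    have : (b * b - 1) * δ = 0 := by linear_combination h1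
    rcases mul_eq_zero.mp this with h5 | h5
    · linear_combination h5
    · exact absurd h5 h.delta_ne
  refine ⟨b, ?_, ?_⟩
  · rcases mul_eq_zero.mp hb2 with h5 | h5
    · left; linear_combination h5
    · right; linear_combination h5
  · rw [ha, zero_smul, zero_add] at hab
    calc (Y : Matrix (Fin m ⊕ Fin m) (Fin m ⊕ Fin m) F) * κ
        = (Y : Matrix (Fin m ⊕ Fin m) (Fin m ⊕ Fin m) F) * κ
          * ((Y⁻¹ : GL (Fin m ⊕ Fin m) F) : Matrix (Fin m ⊕ Fin m) (Fin m ⊕ Fin m) F)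
          * (Y : Matrix (Fin m ⊕ Fin m) (Fin m ⊕ Fin m) F) := by
          rw [mul_assoc _ _ (Y : Matrix (Fin m ⊕ Fin m) (Fin m ⊕ Fin m) F), Units.inv_mul, mul_one]
      _ = b • (κ * (Y : Matrix (Fin m ⊕ Fin m) (Fin m ⊕ Fin m) F)) := by
          rw [hab, Matrix.smul_mul]

/-- If moreover an odd power of the element is a scalar, it commutes with `κ`. -/
theorem commute_of_odd_pow (h : SkewK m κ δ) (Y : GL (Fin m ⊕ Fin m) F) (c : F)
    (hc : c = 1 ∨ c = -1)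
    (hY : (Y : Matrix (Fin m ⊕ Fin m) (Fin m ⊕ Fin m) F) * κ
      = c • (κ * (Y : Matrix (Fin m ⊕ Fin m) (Fin m ⊕ Fin m) F)))
    (r : ℕ) (hr : Odd r) (z : F)
    (hz : ((Y ^ r : GL (Fin m ⊕ Fin m) F) : Matrix (Fin m ⊕ Fin m) (Fin m ⊕ Fin m) F)
      = z • (1 : Matrix (Fin m ⊕ Fin m) (Fin m ⊕ Fin m) F)) :
    (Y : Matrix (Fin m ⊕ Fin m) (Fin m ⊕ Fin m) F) * κ
      = κ * (Y : Matrix (Fin m ⊕ Fin m) (Fin m ⊕ Fin m) F) := by
  rcases hc with hc | hc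
  · rw [hY, hc, one_smul]
  rcases trivial_or_exists_ne F m with htriv | ⟨x, hx⟩
  · exact htriv _ _
  exfalso
  subst hc
  have hpow : ∀ n : ℕ, ((Y ^ n : GL (Fin m ⊕ Fin m) F) : Matrix (Fin m ⊕ Fin m) (Fin m ⊕ Fin m) F) * κ
      = ((-1 : F) ^ n) • (κ * ((Y ^ n : GL (Fin m ⊕ Fin m) F) : Matrix (Fin m ⊕ Fin m) (Fin m ⊕ Fin m) F)) := by
    intro n
    induction n with
    | zero => simp
    | succ n ih =>
      rw [pow_succ, Units.val_mul, mul_assoc, hY, Matrix.mul_smul, ← mul_assoc, ih, Matrix.smul_mul,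
        smul_smul, mul_assoc, pow_succ]
      congr 1
      ring
  have h1 := hpow r
  rw [hz, hr.neg_one_pow, Matrix.smul_mul, one_mul, Matrix.mul_smul, mul_one] at h1
  have h2 := congrArg (fun M => M *ᵥ x) h1
  simp only [Matrix.smul_mulVec] at h2
  have h3 : (2 * z) • κ *ᵥ x = 0 := by
    have : (2 * z) • κ *ᵥ x = z • κ *ᵥ x - (-1 : F) • z • κ *ᵥ x := by module
    rw [this, ← h2, sub_self]
  have hz0 : z ≠ 0 := by
    intro hz0
    have h4 : ((Y ^ r : GL (Fin m ⊕ Fin m) F) : Matrix (Fin m ⊕ Fin m) (Fin m ⊕ Fin m) F) *ᵥ x = 0 := by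
      rw [hz, hz0, zero_smul, Matrix.zero_mulVec]
    have h5 := congrArg (fun y => (((Y ^ r)⁻¹ : GL (Fin m ⊕ Fin m) F) : Matrix (Fin m ⊕ Fin m) (Fin m ⊕ Fin m) F) *ᵥ y) h4
    simp only [Matrix.mulVec_mulVec, Units.inv_mul, Matrix.one_mulVec, Matrix.mulVec_zero] at h5
    exact hx h5
  rcases smul_eq_zero.mp h3 with h4 | h4
  · exact (mul_ne_zero h.two hz0) h4
  · exact h.kappa_ne_zero hx h4

end

section
variable {F : Type*} [Field F] {m : ℕ}
variable {κ : Matrix (Fin m ⊕ Fin m) (Fin m ⊕ Fin m) F} {δ : F}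

theorem spT_mul (w : Fin m ⊕ Fin m → F) (a b : F) : spT m w a * spT m w b = spT m w (a + b) := by
  apply gl_ext_mulVec
  intro x
  rw [Units.val_mul, ← Matrix.mulVec_mulVec, spT_mulVec, spT_mulVec, spT_mulVec, sympForm_add_left,
    sympForm_smul_left, sympForm_self]
  module

theorem spT_zero (w : Fin m ⊕ Fin m → F) : spT m w (0 : F) = 1 := by
  apply gl_ext_mulVec
  intro x
  rw [spT_mulVec, zero_mul, zero_smul, add_zero, Units.val_one, Matrix.one_mulVec]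

theorem spT_one_pow (w : Fin m ⊕ Fin m → F) (n : ℕ) : spT m w (1 : F) ^ n = spT m w (n : F) := by
  induction n with
  | zero => rw [pow_zero, Nat.cast_zero, spT_zero]
  | succ n ih => rw [pow_succ, ih, spT_mul, Nat.cast_succ]

/-- A symplectic transvection is not a scalar. -/
theorem spT_ne_scalar {w : Fin m ⊕ Fin m → F} (hw : w ≠ 0) (z : F) :
    ((spT m w (1 : F) : GL (Fin m ⊕ Fin m) F) : Matrix (Fin m ⊕ Fin m) (Fin m ⊕ Fin m) F)
      ≠ z • (1 : Matrix (Fin m ⊕ Fin m) (Fin m ⊕ Fin m) F) := by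
  intro hz
  obtain ⟨v, hv⟩ := exists_sympForm_ne_zero m w hw
  have hv' : sympForm m F v w ≠ 0 := by
    rw [sympForm_swap]; exact neg_ne_zero.mpr hv
  have h1 := congrArg (fun M => M *ᵥ v) hz
  simp only [spT_mulVec, Matrix.smul_mulVec, Matrix.one_mulVec, one_mul] at h1
  -- `v + f(v,w) w = z v`
  have h2 := congrArg (fun y => sympForm m F y w) h1
  simp only [sympForm_add_left, sympForm_smul_left, sympForm_self, mul_zero, add_zero] at h2
  have hz1 : z = 1 := by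
    have : (z - 1) * sympForm m F v w = 0 := by linear_combination -h2
    rcases mul_eq_zero.mp this with h3 | h3
    · linear_combination h3
    · exact absurd h3 hv'
  rw [hz1, one_smul] at h1
  have h4 : sympForm m F v w • w = 0 := by
    have : sympForm m F v w • w = (v + sympForm m F v w • w) - v := by module
    rw [this, h1, sub_self]
  rcases smul_eq_zero.mp h4 with h5 | h5
  · exact hv' h5
  · exact hw h5

/-- No `Sp`-conjugate of a symplectic transvection normalizes `K = F[κ]` (odd characteristic `p`). -/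
theorem transvection_not_conj {p : ℕ} [Fact p.Prime] [CharP F p] (hp2 : p ≠ 2) (h : SkewK m κ δ)
    {K : Subalgebra F (Matrix (Fin m ⊕ Fin m) (Fin m ⊕ Fin m) F)} (hκK : κ ∈ K)
    (hgen : ∀ k ∈ K, ∃ a b : F, k = a • (1 : Matrix (Fin m ⊕ Fin m) (Fin m ⊕ Fin m) F) + b • κ)
    {w : Fin m ⊕ Fin m → F} (hw : w ≠ 0) (g : GL (Fin m ⊕ Fin m) F) (hg : g ∈ spGL m F) :
    g⁻¹ * spT m w (1 : F) * g ∉ subalgebraNormalizer K := by
  intro hmem
  have hg' : g⁻¹ ∈ spGL m F := (spGL m F).inv_mem hg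
  have e := spT_conj m g⁻¹ hg' w (1 : F)
  rw [inv_inv] at e
  rw [e] at hmem
  obtain ⟨w₁, hw₁⟩ : ∃ w₁ : Fin m ⊕ Fin m → F,
      w₁ = ((g⁻¹ : GL (Fin m ⊕ Fin m) F) : Matrix (Fin m ⊕ Fin m) (Fin m ⊕ Fin m) F) *ᵥ w := ⟨_, rfl⟩
  rw [← hw₁] at hmem
  have hw₁0 : w₁ ≠ 0 := by
    intro h0
    apply hw
    have h1 := congrArg (fun y => (g : Matrix (Fin m ⊕ Fin m) (Fin m ⊕ Fin m) F) *ᵥ y) hw₁
    simp only [Matrix.mulVec_mulVec, Units.mul_inv, Matrix.one_mulVec] at h1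
    rw [← h1, h0, Matrix.mulVec_zero]
  obtain ⟨c, hc, hrel⟩ := normalizer_rel h hκK hgen _ hmem
  have hodd : Odd p := (Fact.out : p.Prime).odd_of_ne_two hp2
  have hpow : ((spT m w₁ (1 : F) ^ p : GL (Fin m ⊕ Fin m) F) : Matrix (Fin m ⊕ Fin m) (Fin m ⊕ Fin m) F)
      = (1 : F) • (1 : Matrix (Fin m ⊕ Fin m) (Fin m ⊕ Fin m) F) := by
    rw [spT_one_pow, CharP.cast_eq_zero, spT_zero, one_smul, Units.val_one]
  have hcomm := commute_of_odd_pow h _ c hc hrel p hodd 1 hpow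
  obtain ⟨v, hv⟩ := exists_sympForm_ne_zero m w₁ hw₁0
  have hv' : sympForm m F v w₁ ≠ 0 := by
    rw [sympForm_swap]; exact neg_ne_zero.mpr hv
  have h1 := congrArg (fun M => M *ᵥ v) hcomm
  simp only [← Matrix.mulVec_mulVec, spT_mulVec, one_mul, Matrix.mulVec_add, Matrix.mulVec_smul] at h1
  have h2 : sympForm m F (κ *ᵥ v) w₁ • w₁ + (- sympForm m F v w₁) • κ *ᵥ w₁ = 0 := by
    have : sympForm m F (κ *ᵥ v) w₁ • w₁ + (- sympForm m F v w₁) • κ *ᵥ w₁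
        = (κ *ᵥ v + sympForm m F (κ *ᵥ v) w₁ • w₁) - (κ *ᵥ v + sympForm m F v w₁ • κ *ᵥ w₁) := by
      module
    rw [this, h1, sub_self]
  have h3 := (h.kappa_indep hw₁0 h2).2
  exact hv' (neg_eq_zero.mp h3)

/-- The transvection derangement of order `p`, packaged for the statement. -/
theorem exists_transvection_derangement {p : ℕ} [Fact p.Prime] [CharP F p] (hp2 : p ≠ 2)
    (h : SkewK m κ δ)
    {K : Subalgebra F (Matrix (Fin m ⊕ Fin m) (Fin m ⊕ Fin m) F)} (hκK : κ ∈ K)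
    (hgen : ∀ k ∈ K, ∃ a b : F, k = a • (1 : Matrix (Fin m ⊕ Fin m) (Fin m ⊕ Fin m) F) + b • κ)
    (hm : 1 ≤ m) :
    ∃ x ∈ spGL m F,
      (∃ z : F, ((x ^ p : GL (Fin m ⊕ Fin m) F) : Matrix (Fin m ⊕ Fin m) (Fin m ⊕ Fin m) F)
        = z • (1 : Matrix (Fin m ⊕ Fin m) (Fin m ⊕ Fin m) F)) ∧
      (∀ z : F, (x : Matrix (Fin m ⊕ Fin m) (Fin m ⊕ Fin m) F)
        ≠ z • (1 : Matrix (Fin m ⊕ Fin m) (Fin m ⊕ Fin m) F)) ∧
      ∀ g ∈ spGL m F, g⁻¹ * x * g ∉ subalgebraNormalizer K := by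
  obtain ⟨w, hw⟩ : ∃ w : Fin m ⊕ Fin m → F, w ≠ 0 := by
    refine ⟨Pi.single (Sum.inl ⟨0, hm⟩) 1, ?_⟩
    intro h0
    have := congrFun h0 (Sum.inl ⟨0, hm⟩)
    simp at this
  refine ⟨spT m w (1 : F), spT_mem m w 1, ⟨1, ?_⟩, spT_ne_scalar hw, fun g hg => transvection_not_conj hp2 h hκK hgen hw g hg⟩
  rw [spT_one_pow, CharP.cast_eq_zero, spT_zero, one_smul, Units.val_one]

end

section arith

/-- The `i`-th factor `q^(i+1) - (-1)^(i+1)` of `|GU_n(q)|`. -/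
def guF (q i : ℕ) : ℕ := if Even i then q ^ (i + 1) + 1 else q ^ (i + 1) - 1

/-- The complementary factor `q^(i+1) + (-1)^(i+1)`. -/
def coF (q i : ℕ) : ℕ := if Even i then q ^ (i + 1) - 1 else q ^ (i + 1) + 1

theorem guF_mul_coF (q i : ℕ) (hq : 1 ≤ q) : guF q i * coF q i = q ^ (2 * (i + 1)) - 1 := by
  have h1 : 1 ≤ q ^ (i + 1) := Nat.one_le_pow _ _ hq
  have h2 : q ^ (2 * (i + 1)) - 1 = (q ^ (i + 1) + 1) * (q ^ (i + 1) - 1) := by
    obtain ⟨y, hy⟩ : ∃ y, q ^ (i + 1) = y + 1 := ⟨q ^ (i + 1) - 1, by omega⟩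
    rw [pow_mul', hy]
    simp only [Nat.add_sub_cancel]
    have : (y + 1) ^ 2 = (y + 1 + 1) * y + 1 := by ring
    rw [this, Nat.add_sub_cancel]
  unfold guF coF
  split_ifs
  · rw [h2]
  · rw [h2, mul_comm]

/-- `|Sp_{2d}(q)| = |GU_d(q)| * q^(d(d+1)/2) * ∏ (q^i + (-1)^i)`. -/
theorem sp_eq_gu_mul (q d : ℕ) (hq : 1 ≤ q) :
    q ^ (d ^ 2) * ∏ i ∈ Finset.range d, (q ^ (2 * (i + 1)) - 1)
      = (q ^ (d * (d - 1) / 2) * ∏ i ∈ Finset.range d, guF q i)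
        * (q ^ (d * (d + 1) / 2) * ∏ i ∈ Finset.range d, coF q i) := by
  have h1 : ∏ i ∈ Finset.range d, (q ^ (2 * (i + 1)) - 1)
      = (∏ i ∈ Finset.range d, guF q i) * ∏ i ∈ Finset.range d, coF q i := by
    rw [← Finset.prod_mul_distrib]
    exact Finset.prod_congr rfl (fun i _ => (guF_mul_coF q i hq).symm)
  have h2 : d ^ 2 = d * (d - 1) / 2 + d * (d + 1) / 2 := by
    have e1 : 2 ∣ d * (d - 1) := by
      rcases Nat.even_or_odd d with he | ho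
      · exact Dvd.dvd.mul_right he.two_dvd _
      · rcases ho with ⟨k, rfl⟩
        exact Dvd.dvd.mul_left ⟨k, by omega⟩ _
    have e2 : 2 ∣ d * (d + 1) := by
      rcases Nat.even_or_odd d with he | ho
      · exact Dvd.dvd.mul_right he.two_dvd _
      · rcases ho with ⟨k, rfl⟩
        exact Dvd.dvd.mul_left ⟨k + 1, by omega⟩ _
    obtain ⟨a, ha⟩ := e1
    obtain ⟨b, hb⟩ := e2
    rw [ha, hb, Nat.mul_div_cancel_left _ (by norm_num : 0 < 2),
      Nat.mul_div_cancel_left _ (by norm_num : 0 < 2)]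
    have h3 : d * (d - 1) + d * (d + 1) = 2 * d ^ 2 := by
      rcases d with _ | d
      · rfl
      · simp only [Nat.add_sub_cancel]; ring
    omega
  rw [h1, h2, pow_add]
  ring

theorem cast_guF (q i r : ℕ) (hq : 1 ≤ q) :
    ((guF q i : ℕ) : ZMod r) = (q : ZMod r) ^ (i + 1) - (-1) ^ (i + 1) := by
  have h1 : 1 ≤ q ^ (i + 1) := Nat.one_le_pow _ _ hq
  unfold guF
  split_ifs with he
  · rw [Nat.cast_add, Nat.cast_pow, Nat.cast_one, he.add_one.neg_one_pow]; ring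
  · rw [Nat.cast_sub h1, Nat.cast_pow, Nat.cast_one,
      (Nat.not_even_iff_odd.mp he).add_one.neg_one_pow]

theorem cast_coF (q i r : ℕ) (hq : 1 ≤ q) :
    ((coF q i : ℕ) : ZMod r) = (q : ZMod r) ^ (i + 1) + (-1) ^ (i + 1) := by
  have h1 : 1 ≤ q ^ (i + 1) := Nat.one_le_pow _ _ hq
  unfold coF
  split_ifs with he
  · rw [Nat.cast_sub h1, Nat.cast_pow, Nat.cast_one, he.add_one.neg_one_pow]; ring
  · rw [Nat.cast_add, Nat.cast_pow, Nat.cast_one,
      (Nat.not_even_iff_odd.mp he).add_one.neg_one_pow]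

/-- The core selection: the least `o` with `a^o = -(-1)^o`. -/
theorem arith_core {r : ℕ} [Fact r.Prime] (hr2 : r ≠ 2) (a : ZMod r) (d : ℕ)
    (h : ∃ i, 1 ≤ i ∧ i ≤ d ∧ a ^ i + (-1) ^ i = 0) :
    ∃ o, 1 ≤ o ∧ o ≤ d ∧ a ^ (2 * o) = 1 ∧ ∀ i, 1 ≤ i → i ≤ o → a ^ i - (-1) ^ i ≠ 0 := by
  classical
  have h2 : (2 : ZMod r) ≠ 0 := by
    intro h0
    have h1 : ((2 : ℕ) : ZMod r) = 0 := by exact_mod_cast h0
    rw [ZMod.natCast_eq_zero_iff] at h1
    have := (Nat.prime_dvd_prime_iff_eq (Fact.out : r.Prime) Nat.prime_two).mp h1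
    exact hr2 this
  have hsq : ∀ n : ℕ, ((-1 : ZMod r) ^ n) * ((-1 : ZMod r) ^ n) = 1 := by
    intro n
    rw [← mul_pow]; norm_num
  obtain ⟨ho1, hod, hoeq⟩ := Nat.find_spec h
  have hmin : ∀ j, j < Nat.find h → ¬ (1 ≤ j ∧ j ≤ d ∧ a ^ j + (-1) ^ j = 0) :=
    fun j hj => Nat.find_min h hj
  obtain ⟨o, ho⟩ : ∃ o, o = Nat.find h := ⟨_, rfl⟩
  rw [← ho] at ho1 hod hoeq hmin
  have hao : a ^ o = - (-1) ^ o := eq_neg_of_add_eq_zero_left hoeq
  refine ⟨o, ho1, hod, ?_, ?_⟩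
  · rw [mul_comm, pow_mul, hao, neg_sq, pow_two, hsq]
  · intro i hi1 hio hi
    have hai : a ^ i = (-1) ^ i := sub_eq_zero.mp hi
    rcases Nat.lt_or_ge i o with hlt | hge
    · -- `j = o - i` contradicts minimality
      apply hmin (o - i) (by omega)
      refine ⟨by omega, by omega, ?_⟩
      have h3 : a ^ o = a ^ i * a ^ (o - i) := by rw [← pow_add]; congr 1; omega
      rw [hao, hai] at h3
      have h4 : a ^ (o - i) = - ((-1) ^ i * (-1) ^ o) := by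
        calc a ^ (o - i) = ((-1 : ZMod r) ^ i * (-1) ^ i) * a ^ (o - i) := by rw [hsq, one_mul]
          _ = (-1) ^ i * ((-1) ^ i * a ^ (o - i)) := by ring
          _ = - ((-1) ^ i * (-1) ^ o) := by rw [← h3]; ring
      have h5 : ((-1 : ZMod r) ^ i * (-1) ^ o) = (-1) ^ (o - i) := by
        have : o = (o - i) + i := by omega
        calc ((-1 : ZMod r) ^ i * (-1) ^ o) = (-1) ^ i * (-1) ^ ((o - i) + i) := by rw [← this]
          _ = ((-1) ^ i * (-1) ^ i) * (-1) ^ (o - i) := by rw [pow_add]; ring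
          _ = (-1) ^ (o - i) := by rw [hsq, one_mul]
      rw [h4, h5]; ring
    · have hio' : i = o := le_antisymm hio hge
      subst hio'
      rw [hai] at hao
      have h3 : (2 : ZMod r) * (-1) ^ i = 0 := by linear_combination hao
      rcases mul_eq_zero.mp h3 with h4 | h4
      · exact h2 h4
      · have := hsq i
        rw [h4, mul_zero] at this
        exact zero_ne_one this

/-- **Arithmetic of the derangement degree.** If an odd prime `r ∤ q` divides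
`|Sp_{2d}(q)| / |GU_d(q)| = q^(d(d+1)/2) ∏ (q^i + (-1)^i)`, there is `1 ≤ o ≤ d` with
`r ∣ q^(2o) - 1` while `r ∤ |GU_j(q)|` for all `j ≤ o`. -/
theorem arith_select (q r d : ℕ) (hq : 1 ≤ q) (hr : r.Prime) (hr2 : r ≠ 2) (hrq : ¬ r ∣ q)
    (hdiv : r ∣ q ^ (d * (d + 1) / 2) * ∏ i ∈ Finset.range d, coF q i) :
    ∃ o, 1 ≤ o ∧ o ≤ d ∧ r ∣ q ^ (2 * o) - 1 ∧
      ∀ j, j ≤ o → ¬ r ∣ q ^ (j * (j - 1) / 2) * ∏ i ∈ Finset.range j, guF q i := by
  have : Fact r.Prime := ⟨hr⟩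
  have hco : ∃ i, 1 ≤ i ∧ i ≤ d ∧ (q : ZMod r) ^ i + (-1) ^ i = 0 := by
    rcases (Nat.Prime.dvd_mul hr).mp hdiv with h1 | h1
    · exact absurd (hr.dvd_of_dvd_pow h1) hrq
    · obtain ⟨i, hi, hi2⟩ := (Prime.dvd_finsetProd_iff hr.prime _).mp h1
      rw [Finset.mem_range] at hi
      refine ⟨i + 1, by omega, by omega, ?_⟩
      rw [← cast_coF q i r hq, ZMod.natCast_eq_zero_iff]
      exact hi2
  obtain ⟨o, ho1, hod, hpow, hno⟩ := arith_core hr2 (q : ZMod r) d hco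
  refine ⟨o, ho1, hod, ?_, ?_⟩
  · rw [← ZMod.natCast_eq_zero_iff, Nat.cast_sub (Nat.one_le_pow _ _ hq), Nat.cast_pow, hpow,
      Nat.cast_one, sub_self]
  · intro j hj hdvd
    rcases (Nat.Prime.dvd_mul hr).mp hdvd with h1 | h1
    · exact hrq (hr.dvd_of_dvd_pow h1)
    · obtain ⟨i, hi, hi2⟩ := (Prime.dvd_finsetProd_iff hr.prime _).mp h1
      rw [Finset.mem_range] at hi
      apply hno (i + 1) (by omega) (by omega)
      rw [← cast_guF q i r hq, ZMod.natCast_eq_zero_iff]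
      exact hi2

end arith

end Cfsg.Agent.Lib.helper48.SpUnitOdd
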