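import Mathlib
import Cfsg.Prelude.Def_OddOrderLocal
import Cfsg.Prelude.Def_Solvable

/-!
# S4118 split project, piece E1 (helper48)

Small quaternion groups have fewer than 60 automorphisms.
-/

set_option autoImplicit false

namespace Cfsg.Agent.Lib.helper48.TIH

open Cfsg

open QuaternionGroup in
/-- An automorphism of a quaternion group is determined by the images of `a 1` and `xa 0`. -/
theorem helper48_quat_aut_ext {N : ℕ} [NeZero N] (φ ψ : MulAut (QuaternionGroup N))
    (h1 : φ (a 1) = ψ (a 1)) (h2 : φ (xa 0) = ψ (xa 0)) : φ = ψ := by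
  have hM : NeZero (2 * N) := ⟨by have := NeZero.ne N; omega⟩
  have ha : ∀ i : ZMod (2 * N), φ (a i) = ψ (a i) := by
    intro i
    have h : (a i : QuaternionGroup N) = a 1 ^ i.val := by
      rw [a_one_pow, ZMod.natCast_zmod_val]
    rw [h, map_pow, map_pow, h1]
  ext g
  rcases g with i | i
  · exact ha i
  · have h : (xa i : QuaternionGroup N) = xa 0 * a i := by rw [xa_mul_a, zero_add]
    rw [h, map_mul, map_mul, h2, ha]

open QuaternionGroup in
/-- **E1** (pure).  Small quaternion groups have fewer than 60 automorphisms. -/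
theorem quat_aut_card_small :
    (Finite (MulAut (QuaternionGroup 1)) ∧ Nat.card (MulAut (QuaternionGroup 1)) < 60) ∧
    (Finite (MulAut (QuaternionGroup 2)) ∧ Nat.card (MulAut (QuaternionGroup 2)) < 60) := by
  constructor
  · let f : MulAut (QuaternionGroup 1) → QuaternionGroup 1 × QuaternionGroup 1 :=
      fun φ => (φ (a 1), φ (xa 0))
    have hf : Function.Injective f := by
      intro φ ψ h
      have h1 : φ (a 1) = ψ (a 1) := congrArg Prod.fst h
      have h2 : φ (xa 0) = ψ (xa 0) := congrArg Prod.snd h
      exact helper48_quat_aut_ext φ ψ h1 h2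
    have hfin : Finite (MulAut (QuaternionGroup 1)) := Finite.of_injective f hf
    refine ⟨hfin, ?_⟩
    have h1 := Nat.card_le_card_of_injective f hf
    have h2 : Nat.card (QuaternionGroup 1 × QuaternionGroup 1) = 16 := by
      rw [Nat.card_prod, Nat.card_eq_fintype_card, QuaternionGroup.card]
    omega
  · let f : MulAut (QuaternionGroup 2) →
        QuaternionGroup 2 × {g : QuaternionGroup 2 // g ^ 2 ≠ 1} :=
      fun φ => (φ (a 1), ⟨φ (xa 0), by
        rw [← map_pow, xa_sq]
        intro h
        have h3 : (a (2 : ℕ) : QuaternionGroup 2) = 1 := by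
          apply φ.injective
          rw [h, map_one]
        revert h3
        decide⟩)
    have hf : Function.Injective f := by
      intro φ ψ h
      have h1 : φ (a 1) = ψ (a 1) := congrArg Prod.fst h
      have h2 : φ (xa 0) = ψ (xa 0) := congrArg (fun p => (p.2 : QuaternionGroup 2)) h
      exact helper48_quat_aut_ext φ ψ h1 h2
    have hfin : Finite (MulAut (QuaternionGroup 2)) := Finite.of_injective f hf
    refine ⟨hfin, ?_⟩
    have h1 := Nat.card_le_card_of_injective f hf
    have h2 : Nat.card (QuaternionGroup 2 × {g : QuaternionGroup 2 // g ^ 2 ≠ 1}) = 48 := by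
      rw [Nat.card_prod, Nat.card_eq_fintype_card, Nat.card_eq_fintype_card, QuaternionGroup.card]
      have : Fintype.card {g : QuaternionGroup 2 // g ^ 2 ≠ 1} = 6 := by decide
      rw [this]
    omega

end Cfsg.Agent.Lib.helper48.TIH
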