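import Mathlib
import Cfsg.Prelude.Def_OddOrderLocal
import Cfsg.Prelude.Def_Solvable

/-!
# S4118 split project, piece E2 (helper48)

For `n ≥ 2` an automorphism of odd order of the generalized quaternion group of order `4 * 2^n`
is trivial.
-/

set_option autoImplicit false

namespace Cfsg.Agent.Lib.helper48.TIH

open Cfsg

open QuaternionGroup in
theorem helper48_quat_a_pow {N : ℕ} (j : ZMod (2 * N)) (k : ℕ) :
    (a j : QuaternionGroup N) ^ k = a ((k : ZMod (2 * N)) * j) := by
  induction k with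
  | zero => rw [pow_zero, Nat.cast_zero, zero_mul, a_zero]
  | succ k ih =>
    rw [pow_succ, ih, a_mul_a]
    congr 1
    push_cast
    ring

open QuaternionGroup in
/-- **E2** (pure).  For `n ≥ 2` an automorphism of odd order of the generalized quaternion group
of order `4 * 2^n` is trivial. -/
theorem quat_aut_odd_trivial (n : ℕ) (hn : 2 ≤ n) (φ : MulAut (QuaternionGroup (2 ^ n)))
    (hφ : Odd (orderOf φ)) : φ = 1 := by
  have hN : NeZero (2 ^ n) := ⟨by positivity⟩
  have hM : NeZero (2 * 2 ^ n) := ⟨by positivity⟩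
  have h8 : 8 ≤ 2 * 2 ^ n := by
    have : 2 ^ 2 ≤ 2 ^ n := Nat.pow_le_pow_right (by norm_num) hn
    omega
  set m := orderOf φ with hm
  have hm0 : m ≠ 0 := fun h => by rw [h] at hφ; exact (Nat.not_odd_iff_even.mpr (by decide)) hφ
  have hφm : φ ^ m = 1 := pow_orderOf_eq_one φ
  -- the image of `a 1`
  have hord : orderOf (φ (a 1 : QuaternionGroup (2 ^ n))) = 2 * 2 ^ n := by
    rw [MulEquiv.orderOf_eq, orderOf_a_one]
  obtain ⟨j, hj⟩ : ∃ j, φ (a 1 : QuaternionGroup (2 ^ n)) = a j := by
    rcases h : φ (a 1 : QuaternionGroup (2 ^ n)) with j | j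
    · exact ⟨j, rfl⟩
    · exfalso
      rw [h, orderOf_xa] at hord
      omega
  have hφa : ∀ i : ZMod (2 * 2 ^ n), φ (a i : QuaternionGroup (2 ^ n)) = a (i * j) := by
    intro i
    have h1 : (a i : QuaternionGroup (2 ^ n)) = a 1 ^ i.val := by
      rw [a_one_pow, ZMod.natCast_zmod_val]
    rw [h1, map_pow, hj, helper48_quat_a_pow, ZMod.natCast_zmod_val]
  -- the image of `xa 0`
  have h1ne : (1 : ZMod (2 * 2 ^ n)) ≠ -1 := by
    intro h
    have h2 : ((2 : ℕ) : ZMod (2 * 2 ^ n)) = 0 := by
      have : (1 : ZMod (2 * 2 ^ n)) + 1 = 0 := by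
        nth_rewrite 1 [h]
        ring
      push_cast
      rw [← this]
      norm_num
    rw [ZMod.natCast_eq_zero_iff] at h2
    have := Nat.le_of_dvd (by norm_num) h2
    omega
  obtain ⟨s, hs⟩ : ∃ s, φ (xa 0 : QuaternionGroup (2 ^ n)) = xa s := by
    rcases h : φ (xa 0 : QuaternionGroup (2 ^ n)) with t | s
    · exfalso
      have hc : φ (xa 0 * a 1 : QuaternionGroup (2 ^ n)) = φ (a 1 * xa 0) := by
        rw [map_mul, map_mul, h, hj, a_mul_a, a_mul_a, add_comm]
      have hc2 := φ.injective hc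
      rw [xa_mul_a, a_mul_xa] at hc2
      have hc3 : (0 : ZMod (2 * 2 ^ n)) + 1 = 0 - 1 := by
        injection hc2
      apply h1ne
      rw [zero_add, zero_sub] at hc3
      exact hc3
    · exact ⟨s, rfl⟩
  -- powers of `φ` on `a 1`
  have hpa : ∀ k : ℕ, (φ ^ k) (a 1 : QuaternionGroup (2 ^ n)) = a (j ^ k) := by
    intro k
    induction k with
    | zero => simp
    | succ k ih =>
      rw [pow_succ', MulAut.mul_apply, ih, hφa, pow_succ]
  have hjm : j ^ m = 1 := by
    have h := hpa m
    rw [hφm, MulAut.one_apply] at h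
    injection h with h'
    exact h'.symm
  have hj1 : j = 1 := by
    have hu : IsUnit j := IsUnit.of_pow_eq_one hjm hm0
    obtain ⟨u, hu⟩ := hu
    have hum : u ^ m = 1 := by
      apply Units.ext
      rw [Units.val_pow_eq_pow_val, hu, hjm, Units.val_one]
    have hut : u ^ (2 ^ n) = 1 := by
      have h := ZMod.pow_totient u
      have htot : Nat.totient (2 * 2 ^ n) = 2 ^ n := by
        rw [← pow_succ', Nat.totient_prime_pow Nat.prime_two (Nat.succ_pos n)]
        simp
      rw [htot] at h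
      exact h
    have hd1 : orderOf u ∣ m := orderOf_dvd_of_pow_eq_one hum
    have hd2 : orderOf u ∣ 2 ^ n := orderOf_dvd_of_pow_eq_one hut
    have hcop : Nat.Coprime m (2 ^ n) := Nat.Coprime.pow_right n hφ.coprime_two_right
    have hd3 : orderOf u ∣ 1 := by
      have := Nat.dvd_gcd hd1 hd2
      rwa [hcop] at this
    have hu1 : u = 1 := orderOf_eq_one_iff.mp (Nat.dvd_one.mp hd3)
    rw [← hu, hu1, Units.val_one]
  subst hj1
  have hφa' : ∀ i : ZMod (2 * 2 ^ n), φ (a i : QuaternionGroup (2 ^ n)) = a i := by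
    intro i
    rw [hφa, mul_one]
  have hφx : ∀ i : ZMod (2 * 2 ^ n), φ (xa i : QuaternionGroup (2 ^ n)) = xa (s + i) := by
    intro i
    have h1 : (xa i : QuaternionGroup (2 ^ n)) = xa 0 * a i := by
      rw [xa_mul_a, zero_add]
    rw [h1, map_mul, hs, hφa', xa_mul_a]
  have hpx : ∀ k : ℕ, (φ ^ k) (xa 0 : QuaternionGroup (2 ^ n)) = xa ((k : ZMod (2 * 2 ^ n)) * s) := by
    intro k
    induction k with
    | zero => simp
    | succ k ih =>
      rw [pow_succ', MulAut.mul_apply, ih, hφx]
      congr 1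
      push_cast
      ring
  have hs0 : s = 0 := by
    have h := hpx m
    rw [hφm, MulAut.one_apply] at h
    injection h with h'
    have hunit : IsUnit ((m : ℕ) : ZMod (2 * 2 ^ n)) := by
      rw [ZMod.isUnit_iff_coprime]
      rw [← pow_succ']
      exact Nat.Coprime.pow_right _ hφ.coprime_two_right
    exact (hunit.mul_right_eq_zero).mp h'.symm
  subst hs0
  ext g
  rcases g with i | i
  · rw [hφa', MulAut.one_apply]
  · rw [hφx, zero_add, MulAut.one_apply]

end Cfsg.Agent.Lib.helper48.TIH
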